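import Cfsg.Agent.Lib.Chev.E8Alt.Values

/-!
Checks of the certificates by computation.
-/

set_option autoImplicit false

namespace Cfsg.Lib.Chev.E8Alt

open Cfsg.Lie

/-- The set of a list as a bit mask. -/
def mask (L : List ℕ) : ℕ := L.foldr (fun x m => 2 ^ x ||| m) 0

theorem mem_of_mask {L : List ℕ} {x : ℕ} (h : (mask L).testBit x = true) : x ∈ L := by
  induction L with
  | nil => simp [mask] at h
  | cons a L ih =>
    change (2 ^ a ||| mask L).testBit x = true at h
    rw [Nat.testBit_or, Bool.or_eq_true] at h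
    rcases h with h | h
    · rw [Nat.testBit_two_pow, decide_eq_true_eq] at h
      simp [h]
    · exact List.mem_cons_of_mem _ (ih h)

/-- The certificate for the basic roots among the fixed ones. -/
def chkCoef (D : ChevalleyDatum) (T : Tbl) (d : MonoData) (B : List ℕ) (coef : List (List ℤ)) : Bool :=
  decide (coef.length = d.Fx.length) && B.all (fun b => d.Fx.contains b) &&
    (List.range d.Fx.length).all fun i => (List.range D.rank).all fun j =>
      decide (T.cartan j (d.Fx.getD i 0) = (((coef.getD i []).zip B).map fun p => p.1 * T.cartan j p.2).sum)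

/-- The certificate for the orbits and the toral coordinates. -/
def chkMono (D : ChevalleyDatum) (T : Tbl) (ℓ : ℕ) (d : MonoData) : Bool :=
  d.w.all (fun i => decide (i < D.rank)) && d.Fx.all (fun r => decide (r < D.nroots) && decide (wperm T d.w r = r)) &&
  d.R.all (fun r => decide (r < D.nroots)) &&
  decide (mask ((List.range ℓ).foldr (fun i acc => d.R.map (fun a => (fun s => wperm T d.w s)^[i] a) ++ acc) d.Fx) =
    2 ^ D.nroots - 1) &&
  decide (ℓ * d.R.length + d.Fx.length + d.U.length + (ℓ - 1) * d.G.length = D.rank + D.nroots) &&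
  d.U.all (fun u => (List.finRange D.rank).all fun k =>
    decide (cartAct D T d.w (vecOf D.rank u) k = vecOf D.rank u k)) &&
  (List.finRange d.G.length).all (fun j => (List.finRange D.rank).all fun k =>
    decide (((cartPows D T ℓ d.w (vecOf D.rank (d.G.getD j.val []))).map fun v => v k).sum =
      comb D.rank (d.cu.getD j.val []) (d.U.map (vecOf D.rank)) k)) &&
  (List.finRange D.rank).all (fun k => (List.finRange D.rank).all fun a =>
    decide ((if a = k then ((ℓ : ℤ) ^ d.e) else 0) = comb D.rank (d.ck.getD k.val []) (d.gens D T ℓ) a))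

theorem chkCoef_sound {D : ChevalleyDatum} {T : Tbl} {d : MonoData} {B : List ℕ} {coef : List (List ℤ)}
    (h : chkCoef D T d B coef = true) : coef.length = d.Fx.length ∧ (∀ b ∈ B, b ∈ d.Fx) ∧
      ∀ i : Fin d.Fx.length, ∀ j < D.rank, T.cartan j (d.Fx.getD i.val 0) =
        (((coef.getD i.val []).zip B).map fun p => p.1 * T.cartan j p.2).sum := by
  simp only [chkCoef, Bool.and_eq_true, decide_eq_true_eq, List.all_eq_true, List.contains_iff_mem,
    List.mem_range] at h
  exact ⟨h.1.1, h.1.2, fun i => h.2 i.val i.2⟩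

theorem mem_foldr {T : Tbl} {w R Fx : List ℕ} {r : ℕ} : ∀ L : List ℕ,
    r ∈ L.foldr (fun i acc => R.map (fun a => (fun s => wperm T w s)^[i] a) ++ acc) Fx →
      r ∈ Fx ∨ ∃ i ∈ L, ∃ a ∈ R, (fun s => wperm T w s)^[i] a = r := by
  intro L
  induction L with
  | nil => exact fun h => Or.inl h
  | cons i L ih =>
    intro h
    rcases List.mem_append.1 h with h | h
    · obtain ⟨a, ha, e⟩ := List.mem_map.1 h
      exact Or.inr ⟨i, by simp, a, ha, e⟩
    · rcases ih h with h | ⟨j, hj, h⟩
      · exact Or.inl h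
      · exact Or.inr ⟨j, List.mem_cons_of_mem _ hj, h⟩

theorem chkMono_sound {D : ChevalleyDatum} {T : Tbl} {ℓ : ℕ} {d : MonoData} (h : chkMono D T ℓ d = true) :
    MonoOK D T ℓ d := by
  simp only [chkMono, Bool.and_eq_true, decide_eq_true_eq, List.all_eq_true, List.mem_finRange, forall_const] at h
  obtain ⟨⟨⟨⟨⟨⟨⟨h1, h2⟩, h3⟩, h4⟩, h5⟩, h6⟩, h7⟩, h8⟩ := h
  refine ⟨h1, h2, h3, fun r hr => ?_, h5, fun u hu => funext (h6 u hu), fun j => funext (h7 j), fun k => funext (h8 k)⟩
  rcases mem_foldr _ (mem_of_mask (x := r) (by rw [h4, Nat.testBit_two_pow_sub_one, decide_eq_true hr])) with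
    h | ⟨i, hi, a, ha, e⟩
  · exact Or.inl h
  · exact Or.inr ⟨a, ha, i, List.mem_range.1 hi, e⟩

end Cfsg.Lib.Chev.E8Alt
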