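import Cfsg.Agent.Lib.Chev.E8Alt.Mono

/-!
Conjugation preserves the eigenspace dimensions on the adjoint module.
-/

set_option autoImplicit false
set_option linter.unusedSectionVars false

namespace Cfsg.Lib.Chev.E8Alt

open Cfsg.Lie Module Cfsg.Lib.Linear.AltDeg

variable {D : ChevalleyDatum} {F : Type*} [Field F]

theorem adj_mul (a b : GL D.Idx F) : adj (a * b) = adj a * adj b := by simp [adj]

theorem adj_one : adj (1 : GL D.Idx F) = 1 := by simp [adj]

theorem adj_inj (x : GL D.Idx F) : Function.Injective (adj x) := by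
  refine Function.LeftInverse.injective (g := adj x⁻¹) fun v => ?_
  rw [← End.mul_apply, ← adj_mul, inv_mul_cancel, adj_one, End.one_apply]

theorem eig_conj {m : ℕ} [NeZero m] (ζ : F) (x g : GL D.Idx F) (i : ZMod m) :
    eig ζ (adj (x * g * x⁻¹)) i = (eig ζ (adj g) i).map (adj x) := by
  ext v
  rw [Submodule.mem_map, mem_eig]
  constructor
  · intro h
    refine ⟨adj x⁻¹ v, ?_, ?_⟩
    · rw [mem_eig]
      apply adj_inj x
      rw [map_smul, ← End.mul_apply, ← End.mul_apply, ← End.mul_apply, ← adj_mul, ← adj_mul, ← adj_mul, h,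
        mul_inv_cancel, adj_one, End.one_apply]
    · rw [← End.mul_apply, ← adj_mul, mul_inv_cancel, adj_one, End.one_apply]
  · rintro ⟨w, hw, rfl⟩
    rw [mem_eig] at hw
    rw [← End.mul_apply, ← adj_mul, show x * g * x⁻¹ * x = x * g by group, adj_mul, End.mul_apply, hw, map_smul]

theorem finrank_eig_conj {m : ℕ} [NeZero m] (ζ : F) (x g : GL D.Idx F) (i : ZMod m) :
    finrank F (eig ζ (adj (x * g * x⁻¹)) i) = finrank F (eig ζ (adj g) i) := by
  rw [eig_conj]
  exact (Submodule.equivMapOfInjective _ (adj_inj x) _).finrank_eq.symm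

end Cfsg.Lib.Chev.E8Alt
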