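import Mathlib
import Cfsg.Agent.Lib.Linear.AltDeg.Weights

/-!
Dimensions of the eigenspaces of operators of order prime to the characteristic, from spanning eigenvectors, and
their joint decomposition for commuting operators.
-/

set_option autoImplicit false
set_option linter.unusedSectionVars false

namespace Cfsg.Lib.Chev.E8Alt

open Module Cfsg.Lib.Linear.AltDeg

variable {L : Type*} [Field L] {V : Type*} [AddCommGroup V] [Module L V] [FiniteDimensional L V]

theorem finrank_sup_le_sum {ι : Type*} (f : ι → Submodule L V) (s : Finset ι) :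
    finrank L ↥(s.sup f) ≤ ∑ i ∈ s, finrank L (f i) := by
  classical
  induction s using Finset.induction with
  | empty => simp
  | insert a s ha ih =>
    rw [Finset.sup_insert, Finset.sum_insert ha]
    have := Submodule.finrank_sup_add_finrank_inf_eq (f a) (s.sup f)
    omega

theorem finrank_sup_eq_sum {ι : Type*} (f : ι → Submodule L V) (hf : iSupIndep f) (s : Finset ι) :
    finrank L ↥(s.sup f) = ∑ i ∈ s, finrank L (f i) := by
  classical
  induction s using Finset.induction with
  | empty => simp
  | insert a s ha ih =>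
    rw [Finset.sup_insert, Finset.sum_insert ha, ← ih]
    have hd : f a ⊓ s.sup f = ⊥ := (hf a).mono_right (Finset.sup_le fun b hb =>
      le_iSup₂_of_le b (by rintro rfl; exact ha hb) le_rfl) |>.eq_bot
    have := Submodule.finrank_sup_add_finrank_inf_eq (f a) (s.sup f)
    rw [hd, finrank_bot] at this
    omega

variable {m : ℕ} [NeZero m] {ζ : L} (hζ : IsPrimitiveRoot ζ m)

/-- The eigenspace for a power of the root of unity. -/
def eig (ζ : L) (x : End L V) (i : ZMod m) : Submodule L V := End.eigenspace x (rootPow ζ i)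

omit [FiniteDimensional L V] in
theorem mem_eig {x : End L V} {i : ZMod m} {v : V} : v ∈ eig ζ x i ↔ x v = rootPow ζ i • v := End.mem_eigenspace_iff

include hζ

omit [FiniteDimensional L V] in
theorem iSupIndep_eig (x : End L V) : iSupIndep fun i : ZMod m => eig ζ x i :=
  (End.eigenspaces_iSupIndep x).comp (rootPow_injective hζ)

/-- Spanning families of eigenvectors with as many members as the dimension count the eigenspaces. -/
theorem finrank_eig_of_span (x : End L V) (U : ZMod m → List V) (hU : ∀ i, ∀ v ∈ U i, v ∈ eig ζ x i)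
    (hsum : ∑ i, (U i).length = finrank L V) (hspan : ⊤ ≤ ⨆ i, Submodule.span L {v | v ∈ U i}) (i : ZMod m) :
    finrank L (eig ζ x i) = (U i).length := by
  classical
  let S : ZMod m → Submodule L V := fun j => Submodule.span L {v | v ∈ U j}
  have hle : ∀ j, S j ≤ eig ζ x j := fun j => Submodule.span_le.2 (hU j)
  have hsup : (⨆ j, eig ζ x j) = ⊤ := top_le_iff.1 (hspan.trans (iSup_mono hle))
  have hS : ∀ j, finrank L (S j) ≤ (U j).length := fun j => by
    have e : S j = Submodule.span L (((U j).toFinset : Finset V) : Set V) := by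
      show Submodule.span L _ = _
      congr 1; ext; simp
    rw [e]
    exact (finrank_span_finset_le_card _).trans (List.toFinset_card_le _)
  have heq : ∀ j, S j = eig ζ x j := fun j => le_antisymm (hle j) fun v hv => by
    have hind := iSupIndep_eig hζ x j
    have hv' : v ∈ S j ⊔ ⨆ (k) (_ : k ≠ j), eig ζ x k := by
      have h0 : v ∈ ⨆ k, S k := hspan Submodule.mem_top
      refine (iSup_le fun k => ?_ : (⨆ k, S k) ≤ _) h0
      by_cases hk : k = j
      · subst hk; exact le_sup_left
      · exact le_trans (hle k) (le_sup_of_le_right (le_iSup₂_of_le k hk le_rfl))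
    obtain ⟨s, hs, t, ht, rfl⟩ := Submodule.mem_sup.1 hv'
    have ht' : t ∈ eig ζ x j := (Submodule.add_mem_iff_right _ (hle j hs)).1 hv
    have h1 : t ∈ eig ζ x j ⊓ ⨆ (k) (_ : k ≠ j), eig ζ x k := ⟨ht', ht⟩
    rw [hind.eq_bot, Submodule.mem_bot] at h1
    rw [h1, add_zero]; exact hs
  have htot : finrank L V ≤ ∑ j : ZMod m, finrank L (eig ζ x j) := by
    rw [← finrank_top (R := L) (M := V), ← hsup, ← Finset.sup_univ_eq_iSup]
    exact finrank_sup_le_sum _ _
  have hj : ∀ j, finrank L (eig ζ x j) ≤ (U j).length := fun j => heq j ▸ hS j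
  have hs := Finset.sum_le_sum (fun j (_ : j ∈ Finset.univ) => hj j)
  have := (Finset.sum_eq_sum_iff_of_le fun j (_ : j ∈ Finset.univ) => hj j).1 (le_antisymm hs (hsum ▸ htot))
  exact this i (Finset.mem_univ i)

omit [FiniteDimensional L V] in
/-- An invariant subspace is spanned by its eigenvectors. -/
theorem le_iSup_eig (hm : (m : L) ≠ 0) {x : End L V} (hx : x ^ m = 1) {W : Submodule L V} (hW : ∀ v ∈ W, x v ∈ W) :
    W ≤ ⨆ i : ZMod m, W ⊓ eig ζ x i := by
  intro v hv
  rw [← proj_sum (m := m) (ζ := ζ) hζ hm v (x := x)]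
  refine Submodule.sum_mem _ fun i _ => Submodule.mem_iSup_of_mem i ⟨?_, mem_eig.2 (proj_eigen hζ hx i v)⟩
  rw [proj_apply]
  refine W.smul_mem _ (Submodule.sum_mem _ fun j hj => W.smul_mem _ ?_)
  clear hj
  induction j with
  | zero => simpa using hv
  | succ j ih => rw [pow_succ', End.mul_apply]; exact hW _ ih

/-- The dimension of an invariant subspace is the sum over the eigenspaces in it. -/
theorem finrank_eq_sum_eig (hm : (m : L) ≠ 0) {x : End L V} (hx : x ^ m = 1) {W : Submodule L V}
    (hW : ∀ v ∈ W, x v ∈ W) : finrank L W = ∑ i : ZMod m, finrank L ↥(W ⊓ eig ζ x i) := by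
  classical
  have hind : iSupIndep fun i : ZMod m => W ⊓ eig ζ x i :=
    (iSupIndep_eig hζ x).mono fun i => inf_le_right
  have hsup : (⨆ i : ZMod m, W ⊓ eig ζ x i) = W :=
    le_antisymm (iSup_le fun _ => inf_le_left) (le_iSup_eig hζ hm hx hW)
  rw [← finrank_sup_eq_sum _ hind, Finset.sup_univ_eq_iSup, hsup]

omit [FiniteDimensional L V] in
/-- The joint eigenspace of a family. -/
theorem eig_comm {x y : End L V} (h : Commute x y) {i : ZMod m} {v : V} (hv : v ∈ eig ζ x i) : y v ∈ eig ζ x i := by
  rw [mem_eig] at hv ⊢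
  rw [← End.mul_apply, h.eq, End.mul_apply, hv, map_smul]

omit hζ in
/-- The joint eigenspace of a family for a character. -/
def joint {n : ℕ} (ζ : L) (x : Fin n → End L V) (χ : Fin n → ZMod m) : Submodule L V := ⨅ k, eig ζ (x k) (χ k)

/-- The dimension of an invariant subspace is the sum over the joint eigenspaces in it. -/
theorem finrank_eq_sum_joint (hm : (m : L) ≠ 0) {n : ℕ} (x : Fin n → End L V) (hx : ∀ k, x k ^ m = 1)
    (hc : ∀ k l, Commute (x k) (x l)) {W : Submodule L V} (hW : ∀ k, ∀ v ∈ W, x k v ∈ W) :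
    finrank L W = ∑ χ : Fin n → ZMod m, finrank L ↥(W ⊓ joint ζ x χ) := by
  classical
  induction n generalizing W with
  | zero =>
    rw [Fintype.sum_unique]
    exact (congrArg (fun U : Submodule L V => finrank L U) (inf_eq_left.2 (le_iInf fun k => k.elim0))).symm
  | succ n ih =>
    rw [finrank_eq_sum_eig hζ hm (hx 0) (hW 0), ← (Fin.consEquiv fun _ : Fin (n + 1) => ZMod m).sum_comp,
      Fintype.sum_prod_type]
    refine Finset.sum_congr rfl fun i _ => ?_
    rw [ih (fun k => x k.succ) (fun k => hx _) (fun k l => hc _ _) (W := W ⊓ eig ζ (x 0) i)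
      fun k v hv => ⟨hW _ v hv.1, eig_comm hζ (hc 0 k.succ) hv.2⟩]
    refine Finset.sum_congr rfl fun χ _ => ?_
    have e : W ⊓ eig ζ (x 0) i ⊓ joint ζ (fun k => x k.succ) χ = W ⊓ joint ζ x (Fin.cons i χ) := by
      rw [inf_assoc]
      refine congrArg (W ⊓ ·) ?_
      simp only [joint]
      apply le_antisymm
      · refine le_iInf fun k => ?_
        refine Fin.cases ?_ (fun k => ?_) k
        · simp
        · simp only [Fin.cons_succ]
          exact le_trans inf_le_right (iInf_le _ k)
      · refine le_inf ?_ (le_iInf fun k => ?_)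
        · simpa using iInf_le (fun k => eig ζ (x k) ((Fin.cons i χ : Fin (n + 1) → ZMod m) k)) 0
        · simpa using iInf_le (fun k => eig ζ (x k) ((Fin.cons i χ : Fin (n + 1) → ZMod m) k)) k.succ
    rw [e]
    rfl

end Cfsg.Lib.Chev.E8Alt
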