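import Mathlib

/-!
Exact lifts of elements of odd prime order to a covering group whose kernel has central subgroups of that prime
power order: the lifts inverted by a lift of an inverting element.
-/

set_option autoImplicit false
set_option linter.unusedSectionVars false

namespace Cfsg.Lib.Chev.E8Alt

open Subgroup
open scoped Pointwise

variable {H A : Type*} [Group H] [Finite H] [Group A] {ℓ : ℕ} [hℓ : Fact ℓ.Prime] (π : H →* A)

/-- Every subgroup of prime power order in the kernel is central. -/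
def CentralPart (ℓ : ℕ) (π : H →* A) : Prop :=
  ∀ Q : Subgroup H, IsPGroup ℓ Q → Q ≤ π.ker → ∀ z ∈ Q, ∀ h, h * z = z * h

omit [Finite H] hℓ in
theorem CentralPart.restrict {π : H →* A} (hZ : CentralPart ℓ π) (M : Subgroup H) :
    CentralPart ℓ (π.comp M.subtype) := fun Q hQ hker z hz h => Subtype.ext
  (hZ (Q.map M.subtype) (hQ.map _) (by rintro _ ⟨q, hq, rfl⟩; exact hker hq) _ (mem_map_of_mem _ hz) h)

/-- A subgroup over an `ℓ`-subgroup, normalised by lifts of its normalisers. -/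
theorem exists_over {E : Subgroup A} [Finite E] (hE : IsPGroup ℓ E) (hEr : E ≤ π.range) :
    ∃ P : Subgroup H, IsPGroup ℓ P ∧ P.map π = E ∧
      ∀ s ∈ normalizer (E : Set A), s ∈ π.range → ∃ y ∈ normalizer (P : Set H), π y = s := by
  classical
  let M : Subgroup H := (normalizer (E : Set A)).comap π
  let K : Subgroup M := (E.comap π).subgroupOf M
  have hKn : K.Normal := by
    refine ⟨fun k hk g => ?_⟩
    show π ((g * k * g⁻¹ : M) : H) ∈ E
    push_cast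
    rw [map_mul, map_mul, map_inv]
    exact (mem_normalizer_iff.mp g.2 _).mp hk
  obtain ⟨S⟩ : Nonempty (Sylow ℓ K) := inferInstance
  let f : K →* E :=
    { toFun := fun q => ⟨π ((q : M) : H), q.2⟩
      map_one' := by ext; simp
      map_mul' := fun _ _ => by ext; simp }
  have hf : Function.Surjective f := by
    rintro ⟨x, hx⟩
    obtain ⟨g, rfl⟩ := hEr hx
    exact ⟨⟨⟨g, show π g ∈ normalizer (E : Set _) from le_normalizer hx⟩, hx⟩, rfl⟩
  have htop : ((S.mapSurjective hf : Sylow ℓ E) : Subgroup E) = ⊤ :=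
    ((S.mapSurjective hf).3 (hE.to_subgroup ⊤) le_top).symm
  rw [Sylow.coe_mapSurjective] at htop
  let P : Subgroup H := ((S : Subgroup K).map K.subtype).map M.subtype
  have hPE : P.map π = E := by
    refine le_antisymm ?_ fun x hx => ?_
    · rintro _ ⟨_, ⟨_, ⟨q, -, rfl⟩, rfl⟩, rfl⟩
      exact q.2
    · obtain ⟨q, hq, e⟩ := htop.ge (mem_top (⟨x, hx⟩ : E))
      exact ⟨_, ⟨_, ⟨q, hq, rfl⟩, rfl⟩, congrArg Subtype.val e⟩
  refine ⟨P, (S.2.map _).map _, hPE, fun s hs hsr => ?_⟩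
  obtain ⟨g, rfl⟩ := hsr
  obtain ⟨y, hy, k, hk, hyk⟩ :=
    mem_sup_of_normal_right.mp ((Sylow.normalizer_sup_eq_top S).ge (mem_top (⟨g, hs⟩ : M)))
  obtain ⟨p, hp, hpk⟩ := hPE.ge (show π (k : H) ∈ E from hk)
  refine ⟨(y : H) * p, mul_mem (le_normalizer_map M.subtype (mem_map_of_mem M.subtype hy)) (le_normalizer hp), ?_⟩
  rw [map_mul, hpk, ← map_mul, ← Subgroup.coe_mul, hyk]

variable {π} (hZ : CentralPart ℓ π) {P : Subgroup H} (hP : IsPGroup ℓ P)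
include hZ hP

theorem central_mem {z : H} (hz : z ∈ P) (h1 : π z = 1) (h : H) : h * z = z * h :=
  hZ _ (hP.to_le (inf_le_left (b := π.ker))) inf_le_right z ⟨hz, MonoidHom.mem_ker.2 h1⟩ h

omit hZ in
theorem pow_odd_of_sq {z : H} (hodd : ℓ ≠ 2) (hz : z ∈ P) (h2 : z = z⁻¹) : z = 1 := by
  obtain ⟨k, hk⟩ := hP ⟨z, hz⟩
  have hk' : z ^ ℓ ^ k = 1 := congrArg Subtype.val hk
  have hz2 : z ^ 2 = 1 := by rw [pow_two]; nth_rewrite 2 [h2]; exact mul_inv_cancel z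
  have hc : Nat.Coprime (ℓ ^ k) 2 := ((Nat.coprime_primes hℓ.out Nat.prime_two).2 hodd).pow_left k
  exact orderOf_eq_one_iff.1 (Nat.dvd_one.1 (hc ▸ Nat.dvd_gcd (orderOf_dvd_of_pow_eq_one hk')
    (orderOf_dvd_of_pow_eq_one hz2)))

/-- A normalising element over one centralising an element of prime order fixes its lift if their orders are
coprime, or if it lies in the kernel. -/
theorem fix_lift {x y : H} (hy : y ∈ normalizer (P : Set H)) (hx : x ∈ P) (hxl : x ^ ℓ = 1)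
    (hπ : π y * π x * (π y)⁻¹ = π x) (hcase : π y = 1 ∨ ∃ m, y ^ m = 1 ∧ ¬ ℓ ∣ m) : y * x * y⁻¹ = x := by
  obtain ⟨z, hz⟩ : ∃ z, z = y * x * y⁻¹ * x⁻¹ := ⟨_, rfl⟩
  have hzP : z ∈ P := hz ▸ mul_mem ((mem_normalizer_iff.1 hy x).1 hx) (inv_mem hx)
  have hzc := central_mem hZ hP hzP (by rw [hz, map_mul, map_mul, map_mul, map_inv, map_inv, hπ, mul_inv_cancel])
  have hyx : y * x * y⁻¹ = z * x := by rw [hz, inv_mul_cancel_right]
  have hzl : z ^ ℓ = 1 := by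
    have h1 : (z * x) ^ ℓ = 1 := by rw [← hyx, conj_pow, hxl, mul_one, mul_inv_cancel]
    rwa [(show Commute z x from (hzc x).symm).mul_pow, hxl, mul_one] at h1
  have hpow : ∀ j : ℕ, y ^ j * x * (y ^ j)⁻¹ = z ^ j * x := by
    intro j
    induction j with
    | zero => simp
    | succ j ih =>
      rw [show y ^ (j + 1) * x * (y ^ (j + 1))⁻¹ = y * (y ^ j * x * (y ^ j)⁻¹) * y⁻¹ by rw [pow_succ']; group, ih,
        show y * (z ^ j * x) * y⁻¹ = (y * z ^ j * y⁻¹) * (y * x * y⁻¹) by group,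
        (show Commute y (z ^ j) from Commute.pow_right (hzc y) j).eq, mul_inv_cancel_right, hyx, ← mul_assoc,
        ← pow_succ]
  obtain ⟨m, hm, hzm⟩ : ∃ m, ¬ ℓ ∣ m ∧ z ^ m = 1 := by
    rcases hcase with h1 | ⟨m, hm, hdvd⟩
    · obtain ⟨i, m, hm, hord⟩ := Nat.exists_eq_pow_mul_and_not_dvd (orderOf_pos y).ne' ℓ hℓ.out.ne_one
      refine ⟨m, hm, ?_⟩
      have hpg : IsPGroup ℓ (zpowers (y ^ m)) := by
        obtain ⟨j, -, hj⟩ := (Nat.dvd_prime_pow hℓ.out).1 (orderOf_dvd_of_pow_eq_one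
          (show (y ^ m) ^ ℓ ^ i = 1 by rw [← pow_mul, mul_comm, ← hord, pow_orderOf_eq_one]))
        exact IsPGroup.of_card (n := j) (by rw [Nat.card_zpowers, hj])
      have := hZ _ hpg (zpowers_le.2 (MonoidHom.mem_ker.2 (by rw [map_pow, h1, one_pow]))) _ (mem_zpowers _) x
      have h2 := hpow m
      rw [← this, mul_inv_cancel_right] at h2
      exact mul_eq_right.1 h2.symm
    · refine ⟨m, hdvd, ?_⟩
      have h2 := hpow m
      rw [hm, one_mul, inv_one, mul_one] at h2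
      exact mul_eq_right.1 h2.symm
  have : z = 1 := orderOf_eq_one_iff.1 (Nat.dvd_one.1 ((hℓ.out.coprime_iff_not_dvd.2 hm) ▸
    Nat.dvd_gcd (orderOf_dvd_of_pow_eq_one hzl) (orderOf_dvd_of_pow_eq_one hzm)))
  rw [hyx, this, one_mul]

/-- The inverted lift. -/
theorem exists_inverted (hodd : ℓ ≠ 2) {g : H} (hg : g ∈ normalizer (P : Set H)) {a : A} (ha : a ∈ P.map π)
    (hal : a ^ ℓ = 1) (hga : π g * a * (π g)⁻¹ = a⁻¹) :
    ∃ x ∈ P, π x = a ∧ x ^ ℓ = 1 ∧ g * x * g⁻¹ = x⁻¹ := by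
  obtain ⟨b, hb, rfl⟩ := ha
  obtain ⟨z, hz⟩ : ∃ z, z = g * b * g⁻¹ * b := ⟨_, rfl⟩
  have hzP : z ∈ P := hz ▸ mul_mem ((mem_normalizer_iff.1 hg b).1 hb) hb
  have hπz : π z = 1 := by rw [hz, map_mul, map_mul, map_mul, map_inv, hga, inv_mul_cancel]
  obtain ⟨k, hk⟩ := hP ⟨z, hzP⟩
  have hk' : z ^ ℓ ^ k = 1 := congrArg Subtype.val hk
  obtain ⟨h, hh⟩ : Odd (ℓ ^ k) := (hℓ.out.odd_of_ne_two hodd).pow
  -- the square root of the inverse
  obtain ⟨c, hc⟩ : ∃ c, c = z ^ h := ⟨_, rfl⟩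
  have hcP : c ∈ P := hc ▸ pow_mem hzP h
  have hπc : π c = 1 := by rw [hc, map_pow, hπz, one_pow]
  have hcc := central_mem hZ hP hcP hπc
  have hc2 : c * c = z⁻¹ := by
    rw [hc, ← pow_add, eq_inv_iff_mul_eq_one, ← pow_succ, show h + h + 1 = ℓ ^ k by omega, hk']
  have hg2 : g * (b * c) * g⁻¹ = (b * c)⁻¹ := by
    have e : g * b * g⁻¹ = z * b⁻¹ := by rw [hz, mul_inv_cancel_right]
    rw [show g * (b * c) * g⁻¹ = (g * b * g⁻¹) * (g * c * g⁻¹) by group, e, hcc g, mul_inv_cancel_right,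
      mul_inv_rev, show z = (c * c)⁻¹ by rw [hc2, inv_inv], mul_inv_rev, mul_assoc, mul_assoc, hcc b⁻¹]
    group
  refine ⟨b * c, mul_mem hb hcP, by rw [map_mul, hπc, mul_one], ?_, hg2⟩
  have hw := central_mem hZ hP (pow_mem (mul_mem hb hcP) ℓ) (by rw [map_pow, map_mul, hπc, mul_one, hal]) g
  refine pow_odd_of_sq hP hodd (pow_mem (mul_mem hb hcP) ℓ) ?_
  have e : g * (b * c) ^ ℓ * g⁻¹ = ((b * c) ^ ℓ)⁻¹ := by rw [← conj_pow, hg2, inv_pow]
  rwa [hw, mul_inv_cancel_right] at e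

/-- Inverted lifts are unique. -/
theorem inverted_eq (hodd : ℓ ≠ 2) {g x x' : H} (hx : x ∈ P) (hx' : x' ∈ P) (hπ : π x = π x')
    (h1 : g * x * g⁻¹ = x⁻¹) (h2 : g * x' * g⁻¹ = x'⁻¹) : x = x' := by
  obtain ⟨z, hz⟩ : ∃ z, z = x * x'⁻¹ := ⟨_, rfl⟩
  have hzP : z ∈ P := hz ▸ mul_mem hx (inv_mem hx')
  have hc := central_mem hZ hP hzP (by rw [hz, map_mul, map_inv, hπ, mul_inv_cancel])
  have hxz : x = z * x' := by rw [hz, inv_mul_cancel_right]
  rw [hxz, show g * (z * x') * g⁻¹ = (g * z * g⁻¹) * (g * x' * g⁻¹) by group, h2, hc g, mul_inv_cancel_right,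
    mul_inv_rev, ← hc x'⁻¹] at h1
  have hz1 : z = 1 := pow_odd_of_sq hP hodd hzP (mul_left_cancel h1)
  rw [hxz, hz1, one_mul]

/-- Conjugation by a normalising element carries inverted lifts to inverted lifts. -/
theorem conj_inverted (hodd : ℓ ≠ 2) {g y x x' : H} (hg : g ∈ normalizer (P : Set H))
    (hy : y ∈ normalizer (P : Set H)) (hcomm : π y * π g = π g * π y) (hx : x ∈ P) (hxl : x ^ ℓ = 1)
    (hgx : g * x * g⁻¹ = x⁻¹) (hx' : x' ∈ P) (hgx' : g * x' * g⁻¹ = x'⁻¹)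
    (hπ : π y * π x * (π y)⁻¹ = π x') : y * x * y⁻¹ = x' := by
  have hkN : g⁻¹ * y⁻¹ * g * y ∈ normalizer (P : Set H) :=
    mul_mem (mul_mem (mul_mem (inv_mem hg) (inv_mem hy)) hg) hy
  have hk1 : π (g⁻¹ * y⁻¹ * g * y) = 1 := by
    rw [map_mul, map_mul, map_mul, map_inv, map_inv, show (π g)⁻¹ * (π y)⁻¹ * π g * π y =
      (π y * π g)⁻¹ * (π g * π y) by group, hcomm, inv_mul_cancel]
  have hfix := fix_lift hZ hP hkN hx hxl (by rw [hk1, one_mul, inv_one, mul_one]) (Or.inl hk1)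
  refine inverted_eq hZ hP hodd ((mem_normalizer_iff.1 hy x).1 hx) hx' (by rw [map_mul, map_mul, map_inv, hπ]) ?_ hgx'
  calc g * (y * x * y⁻¹) * g⁻¹ = y * (y⁻¹ * g * y * x * (y⁻¹ * g * y)⁻¹) * y⁻¹ := by group
    _ = y * (g * ((g⁻¹ * y⁻¹ * g * y) * x * (g⁻¹ * y⁻¹ * g * y)⁻¹) * g⁻¹) * y⁻¹ := by group
    _ = (y * x * y⁻¹)⁻¹ := by rw [hfix, hgx, conj_inv]

/-- Inverted lifts commute if one is inverted by an element fixing the other. -/
theorem inverted_comm (hodd : ℓ ≠ 2) {h x x' : H} (hx : x ∈ P) (hx' : x' ∈ P) (hπ : π x * π x' = π x' * π x)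
    (h1 : h * x * h⁻¹ = x⁻¹) (h2 : h * x' * h⁻¹ = x') : x * x' = x' * x := by
  obtain ⟨z, hz⟩ : ∃ z, z = x * x' * x⁻¹ * x'⁻¹ := ⟨_, rfl⟩
  have hzP : z ∈ P := hz ▸ mul_mem (mul_mem (mul_mem hx hx') (inv_mem hx)) (inv_mem hx')
  have hc := central_mem hZ hP hzP (by rw [hz, map_mul, map_mul, map_mul, map_inv, map_inv, hπ]; group)
  have e1 : x * x' * x⁻¹ = z * x' := by rw [hz, inv_mul_cancel_right]
  have e2 : x⁻¹ * x' * x = z⁻¹ * x' := by
    calc x⁻¹ * x' * x = x⁻¹ * (z⁻¹ * (z * x')) * x := by rw [inv_mul_cancel_left]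
      _ = x⁻¹ * (z⁻¹ * (x * x' * x⁻¹)) * x := by rw [e1]
      _ = x⁻¹ * (z⁻¹ * x) * x' := by group
      _ = x⁻¹ * (x * z⁻¹) * x' := by rw [(show Commute z x from (hc x).symm).inv_left.eq]
      _ = z⁻¹ * x' := by group
  have e3 : h * (x * x' * x⁻¹) * h⁻¹ = x⁻¹ * x' * x := by
    rw [show h * (x * x' * x⁻¹) * h⁻¹ = (h * x * h⁻¹) * (h * x' * h⁻¹) * (h * x * h⁻¹)⁻¹ by group, h1, h2, inv_inv]
  rw [e1, e2, show h * (z * x') * h⁻¹ = (h * z * h⁻¹) * (h * x' * h⁻¹) by group, hc h, mul_inv_cancel_right,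
    h2] at e3
  have hz1 : z = 1 := pow_odd_of_sq hP hodd hzP (mul_right_cancel e3)
  rw [hz1, one_mul] at e1
  exact mul_inv_eq_iff_eq_mul.1 e1

omit hP

/-- Inverted lifts of the same element are conjugate under the kernel. -/
theorem inverted_conj (hodd : ℓ ≠ 2) {h h' x x' : H} (hπh : π h = π h') (hπx : π x = π x') (hxl : x ^ ℓ = 1)
    (hxl' : x' ^ ℓ = 1) (h1 : h * x * h⁻¹ = x⁻¹) (h2 : h' * x' * h'⁻¹ = x'⁻¹) :
    ∃ c ∈ π.ker, c * x * c⁻¹ = x' := by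
  classical
  obtain ⟨S⟩ : Nonempty (Sylow ℓ π.ker) := inferInstance
  let Z : Subgroup H := (S : Subgroup π.ker).map π.ker.subtype
  have hZp : IsPGroup ℓ Z := S.2.map _
  have hZk : Z ≤ π.ker := by rintro _ ⟨q, -, rfl⟩; exact q.2
  have hZc : ∀ z ∈ Z, ∀ g : H, g * z = z * g := hZ Z hZp hZk
  haveI : Z.Normal := ⟨fun z hz g => by rw [hZc z hz g, mul_inv_cancel_right]; exact hz⟩
  have hmax : ∀ Q : Subgroup H, IsPGroup ℓ Q → Q ≤ π.ker → Q ≤ Z := by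
    intro Q hQ hQk
    have hsup : IsPGroup ℓ (Q ⊔ Z : Subgroup H) := hQ.to_sup_of_normal_right hZp
    have hle : (S : Subgroup π.ker) ≤ (Q ⊔ Z).subgroupOf π.ker := fun s hs => le_sup_right (a := Q)
      (mem_map_of_mem _ hs)
    have e := S.3 (hsup.comap_of_injective π.ker.subtype π.ker.subtype_injective) hle
    intro q hq
    exact ⟨⟨q, hQk hq⟩, e.le (le_sup_left (b := Z) hq), rfl⟩
  let R : Subgroup H := (zpowers (π x)).comap π
  have hcyc : ∀ a : H, a ^ ℓ = 1 → IsPGroup ℓ (zpowers a) := fun a ha => by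
    obtain ⟨j, -, hj⟩ := (Nat.dvd_prime_pow hℓ.out).1 (orderOf_dvd_of_pow_eq_one (show a ^ ℓ ^ 1 = 1 by rwa [pow_one]))
    exact IsPGroup.of_card (n := j) (by rw [Nat.card_zpowers, hj])
  let P₁ : Subgroup H := zpowers x ⊔ Z
  let P₂ : Subgroup H := zpowers x' ⊔ Z
  have hP₁ : IsPGroup ℓ P₁ := (hcyc x hxl).to_sup_of_normal_right hZp
  have hP₂ : IsPGroup ℓ P₂ := (hcyc x' hxl').to_sup_of_normal_right hZp
  have hR : ∀ a : H, π a = π x → zpowers a ⊔ Z ≤ R := fun a ha => sup_le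
    (zpowers_le.2 (show π a ∈ zpowers (π x) by rw [ha]; exact mem_zpowers _))
    fun z hz => show π z ∈ zpowers (π x) by rw [MonoidHom.mem_ker.1 (hZk hz)]; exact one_mem _
  have hsyl : ∀ a : H, π a = π x → ∀ Q : Subgroup H, IsPGroup ℓ Q → Q ≤ R → zpowers a ⊔ Z ≤ Q →
      Q = zpowers a ⊔ Z := by
    intro a ha Q hQ hQR hle
    refine le_antisymm (fun q hq => ?_) hle
    obtain ⟨i, hi⟩ := mem_zpowers_iff.1 (show π q ∈ zpowers (π x) from hQR hq)
    have hqa : q * (a ^ i)⁻¹ ∈ Z :=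
      hmax (Q ⊓ π.ker) (hQ.to_le inf_le_left) inf_le_right ⟨Q.mul_mem hq (Q.inv_mem (Q.zpow_mem
        (hle (mem_sup_left (mem_zpowers a))) i)), MonoidHom.mem_ker.2 (by
          rw [map_mul, map_inv, map_zpow, ha, hi, mul_inv_cancel])⟩
    have := mul_mem (mem_sup_right (S := zpowers a) hqa) (mem_sup_left (T := Z) (zpow_mem (mem_zpowers a) i))
    rwa [inv_mul_cancel_right] at this
  let mk : ∀ a : H, π a = π x → IsPGroup ℓ (zpowers a ⊔ Z : Subgroup H) → Sylow ℓ R := fun a ha hp =>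
    { toSubgroup := (zpowers a ⊔ Z).subgroupOf R
      isPGroup' := hp.comap_of_injective R.subtype R.subtype_injective
      is_maximal' := fun {Q} hQ hle => by
        have e := hsyl a ha (Q.map R.subtype) (hQ.map _) (by rintro _ ⟨q, -, rfl⟩; exact q.2) fun y hy =>
          ⟨⟨y, hR a ha hy⟩, hle hy, rfl⟩
        rw [← e, subgroupOf, comap_map_eq_self_of_injective R.subtype_injective] }
  obtain ⟨r, hr⟩ := MulAction.exists_smul_eq R (mk x rfl hP₁) (mk x' hπx.symm hP₂)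
  have hconj : ∀ y ∈ P₁, (r : H) * y * (r : H)⁻¹ ∈ P₂ := by
    intro y hy
    have h3 : r * (⟨y, hR x rfl hy⟩ : R) * r⁻¹ ∈ (zpowers x' ⊔ Z).subgroupOf R := by
      have e := congrArg (fun Q : Sylow ℓ R => (Q : Subgroup R)) hr
      simp only [Sylow.coe_subgroup_smul] at e
      change MulAut.conj r • (P₁.subgroupOf R) = P₂.subgroupOf R at e
      rw [← e]
      exact smul_mem_pointwise_smul (⟨y, hR x rfl hy⟩ : R) (MulAut.conj r) _ hy
    exact h3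
  obtain ⟨i, hi⟩ := mem_zpowers_iff.1 (show π (r : H) ∈ zpowers (π x) from r.2)
  obtain ⟨c, hc⟩ : ∃ c, c = (r : H) * (x ^ i)⁻¹ := ⟨_, rfl⟩
  have hck : π c = 1 := by rw [hc, map_mul, map_inv, map_zpow, hi, mul_inv_cancel]
  have hcx : c * x * c⁻¹ = (r : H) * x * (r : H)⁻¹ := by rw [hc]; group
  have hu : c * x * c⁻¹ ∈ P₂ := hcx ▸ hconj x (mem_sup_left (mem_zpowers x))
  have hπu : π (c * x * c⁻¹) = π x' := by rw [map_mul, map_mul, map_inv, hck, one_mul, inv_one, mul_one, hπx]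
  have hnorm : ∀ {a g : H}, g * a * g⁻¹ = a⁻¹ → g ∈ normalizer ((zpowers a ⊔ Z : Subgroup H) : Set H) := by
    intro a g hga
    rw [mem_normalizer_iff]
    have h1 : (zpowers a ⊔ Z).map (MulAut.conj g).toMonoidHom = zpowers a ⊔ Z := by
      rw [Subgroup.map_sup, MonoidHom.map_zpowers]
      show zpowers (g * a * g⁻¹) ⊔ Z.map (MulAut.conj g).toMonoidHom = _
      rw [hga, zpowers_inv]
      refine congrArg _ ?_
      ext z
      constructor
      · rintro ⟨w, hw, rfl⟩; show g * w * g⁻¹ ∈ Z; rw [hZc w hw g, mul_inv_cancel_right]; exact hw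
      · exact fun hz => ⟨z, hz, by show g * z * g⁻¹ = z; rw [hZc z hz g, mul_inv_cancel_right]⟩
    intro y
    constructor
    · exact fun hy => h1.le ⟨y, hy, rfl⟩
    · intro hy
      obtain ⟨w, hw, e⟩ := h1.ge hy
      rwa [← (MulAut.conj g).injective (show MulAut.conj g w = MulAut.conj g y from e)]
  have hinv : (c * h * c⁻¹) * (c * x * c⁻¹) * (c * h * c⁻¹)⁻¹ = (c * x * c⁻¹)⁻¹ := by
    rw [show (c * h * c⁻¹) * (c * x * c⁻¹) * (c * h * c⁻¹)⁻¹ = c * (h * x * h⁻¹) * c⁻¹ by group, h1, conj_inv]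
  have hsame : zpowers (c * x * c⁻¹) ⊔ Z = P₂ := by
    refine (hsyl (c * x * c⁻¹) (hπu.trans hπx.symm) P₂ hP₂ (hR x' hπx.symm) (sup_le (zpowers_le.2 hu) le_sup_right)).symm
  refine ⟨c, MonoidHom.mem_ker.2 hck, inverted_eq hZ hP₂ hodd hu (mem_sup_left (mem_zpowers x')) hπu ?_ h2⟩
  have hN : c * h * c⁻¹ ∈ normalizer (P₂ : Set H) := hsame ▸ hnorm hinv
  have hN' : h' ∈ normalizer (P₂ : Set H) := hnorm h2
  obtain ⟨v, hv⟩ : ∃ v, v = c * x * c⁻¹ := ⟨_, rfl⟩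
  rw [← hv] at hinv hu ⊢
  have hk1 : π (h' * (c * h * c⁻¹)⁻¹) = 1 := by
    rw [map_mul, map_inv, map_mul, map_mul, map_inv, hck, one_mul, inv_one, mul_one, hπh, mul_inv_cancel]
  have hvl : v ^ ℓ = 1 := by rw [hv, conj_pow, hxl, mul_one, mul_inv_cancel]
  have hfix := fix_lift hZ hP₂ (mul_mem hN' (inv_mem hN)) hu hvl (by rw [hk1, one_mul, inv_one, mul_one])
    (Or.inl hk1)
  calc h' * v * h'⁻¹ = (h' * (c * h * c⁻¹)⁻¹) * ((c * h * c⁻¹) * v * (c * h * c⁻¹)⁻¹) *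
        (h' * (c * h * c⁻¹)⁻¹)⁻¹ := by group
    _ = (h' * (c * h * c⁻¹)⁻¹) * v⁻¹ * (h' * (c * h * c⁻¹)⁻¹)⁻¹ := by rw [hinv]
    _ = v⁻¹ := by rw [← conj_inv, hfix]

end Cfsg.Lib.Chev.E8Alt
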