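import Cfsg.Agent.Lib.Chev.E8Alt.Joint

/-!
Lifts of a section on a two-dimensional piece, and rank bounds from pieces.
-/

set_option autoImplicit false
set_option linter.unusedSectionVars false

namespace Cfsg.Lib.Chev.E8Alt

open Module

variable {L : Type*} [Field L] {V : Type*} [AddCommGroup V] [Module L V] [FiniteDimensional L V]

theorem iSup_eq_top_of_decomp {ι : Type*} [Fintype ι] {ops : Set (End L V)} {J : ι → Submodule L V}
    (hd : Decomp ops J) (hinv : ∀ c, ∀ x ∈ ops, ∀ v ∈ J c, x v ∈ J c) : ⨆ c, J c = ⊤ := by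
  apply Submodule.eq_top_of_finrank_eq
  rw [hd (⨆ c, J c) fun x hx v hv => (iSup_le fun c u hu => Submodule.mem_iSup_of_mem c (hinv c x hx u hu) :
    (⨆ c, J c) ≤ (⨆ c, J c).comap x) hv, ← total hd]
  exact Finset.sum_congr rfl fun c _ => by rw [inf_eq_right.2 (le_iSup J c)]

/-- The kernel of an operator is large if its range is spanned by the images of few pieces. -/
theorem ker_ge {ι : Type*} [Fintype ι] {ops : Set (End L V)} {J : ι → Submodule L V}
    (hd : Decomp ops J) (hinv : ∀ c, ∀ x ∈ ops, ∀ v ∈ J c, x v ∈ J c) (T : End L V) (P : ι → Prop) [DecidablePred P]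
    (h : ∀ c, ¬ P c → (J c).map T ≤ (Finset.univ.filter P).sup fun c => (J c).map T) :
    finrank L V ≤ finrank L (LinearMap.ker T) + ∑ c ∈ Finset.univ.filter P, finrank L (J c) := by
  rw [← LinearMap.finrank_range_add_finrank_ker T, Nat.add_comm]
  refine Nat.add_le_add_left ?_ _
  have hr : LinearMap.range T ≤ (Finset.univ.filter P).sup fun c => (J c).map T := by
    rw [LinearMap.range_eq_map, ← iSup_eq_top_of_decomp hd hinv, Submodule.map_iSup]
    refine iSup_le fun c => ?_
    by_cases hc : P c
    · exact Finset.le_sup (f := fun c => (J c).map T) (by simpa using hc)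
    · exact h c hc
  refine (Submodule.finrank_mono hr).trans ((finrank_sup_le_sum _ _).trans ?_)
  exact Finset.sum_le_sum fun c _ => Submodule.finrank_map_le _ _

end Cfsg.Lib.Chev.E8Alt
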