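import Cfsg.Agent.Lib.Chev.E8Alt.Conj

/-!
The multiplicities of the joint eigenspaces of commuting group elements on the adjoint module, their invariance
under normalising elements, and the eigenspace dimensions as their sums.
-/

set_option autoImplicit false
set_option linter.unusedSectionVars false

namespace Cfsg.Lib.Chev.E8Alt

open Cfsg.Lie Module Cfsg.Lib.Linear.AltDeg

variable {L : Type*} [Field L] {V : Type*} [AddCommGroup V] [Module L V] [FiniteDimensional L V]

/-- A family of subspaces decomposing every subspace invariant under a set of operators. -/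
def Decomp {ι : Type*} [Fintype ι] (ops : Set (End L V)) (J : ι → Submodule L V) : Prop :=
  ∀ W : Submodule L V, (∀ x ∈ ops, ∀ v ∈ W, x v ∈ W) → finrank L W = ∑ c, finrank L ↥(W ⊓ J c)

theorem decomp_joint {m : ℕ} [NeZero m] {ζ : L} (hζ : IsPrimitiveRoot ζ m) (hm : (m : L) ≠ 0) {n : ℕ}
    (x : Fin n → End L V) (hx : ∀ k, x k ^ m = 1) (hc : ∀ k l, Commute (x k) (x l)) :
    Decomp (Set.range x) fun χ : Fin n → ZMod m => joint ζ x χ :=
  fun _ hW => finrank_eq_sum_joint hζ hm x hx hc fun k => hW _ ⟨k, rfl⟩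

theorem decomp_prod {m : ℕ} [NeZero m] {ζ : L} (hζ : IsPrimitiveRoot ζ m) (hm : (m : L) ≠ 0) {ι : Type*} [Fintype ι]
    {ops : Set (End L V)} {J : ι → Submodule L V} (hd : Decomp ops J) {y : End L V} (hy : y ^ m = 1)
    (hc : ∀ x ∈ ops, Commute x y) :
    Decomp (insert y ops) fun p : ι × ZMod m => J p.1 ⊓ eig ζ y p.2 := by
  intro W hW
  rw [finrank_eq_sum_eig hζ hm hy (hW y (Set.mem_insert _ _)), Fintype.sum_prod_type, Finset.sum_comm]
  refine Finset.sum_congr rfl fun i _ => ?_
  rw [hd (W ⊓ eig ζ y i) fun x hx v hv => ⟨hW x (Set.mem_insert_of_mem _ hx) v hv.1,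
    eig_comm hζ (hc x hx).symm hv.2⟩]
  refine Finset.sum_congr rfl fun c _ => ?_
  rw [inf_assoc, inf_comm (eig ζ y i)]

variable {ι : Type*} [Fintype ι] {ops : Set (End L V)} {J : ι → Submodule L V}

theorem total (hd : Decomp ops J) : ∑ c, finrank L (J c) = finrank L V := by
  rw [← finrank_top (R := L) (M := V), hd ⊤ fun _ _ _ _ => Submodule.mem_top]
  exact Finset.sum_congr rfl fun c _ => by rw [top_inf_eq]

/-- The dimension of a subspace containing some of the pieces and meeting the others trivially. -/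
theorem dim_filter (hd : Decomp ops J) {W : Submodule L V} (hW : ∀ x ∈ ops, ∀ v ∈ W, x v ∈ W) (P : ι → Prop)
    [DecidablePred P] (h1 : ∀ c, P c → J c ≤ W) (h2 : ∀ c, ¬ P c → W ⊓ J c = ⊥) :
    finrank L W = ∑ c ∈ Finset.univ.filter P, finrank L (J c) := by
  rw [hd W hW, Finset.sum_filter]
  refine Finset.sum_congr rfl fun c _ => ?_
  split_ifs with h
  · rw [inf_eq_right.2 (h1 c h)]
  · rw [h2 c h, finrank_bot]

/-- An eigenspace of an operator scalar on the pieces. -/
theorem dim_eig {m : ℕ} [NeZero m] {ζ : L} (hζ : IsPrimitiveRoot ζ m) (hd : Decomp ops J) {y : End L V}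
    (hc : ∀ x ∈ ops, Commute x y) (lv : ι → ZMod m) (hy : ∀ c, J c ≤ eig ζ y (lv c)) (j : ZMod m) :
    finrank L (eig ζ y j) = ∑ c ∈ Finset.univ.filter (fun c => lv c = j), finrank L (J c) := by
  refine dim_filter hd (fun x hx v hv => eig_comm hζ (hc x hx).symm hv) _ (fun c hc' => hc' ▸ hy c) fun c hne => ?_
  exact ((iSupIndep_eig hζ y).pairwiseDisjoint fun e => hne e.symm).mono_right (hy c) |>.eq_bot

/-- An injective operator permuting the pieces preserves their dimensions. -/
theorem dim_perm (y : End L V) (hy : Function.Injective y) (φ : ι → ι) (hφ : Function.Bijective φ)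
    (hmap : ∀ c, ∀ v ∈ J c, y v ∈ J (φ c)) (c : ι) : finrank L (J (φ c)) = finrank L (J c) := by
  have hle : ∀ c, finrank L (J c) ≤ finrank L (J (φ c)) := fun c => by
    rw [(Submodule.equivMapOfInjective y hy (J c)).finrank_eq]
    exact Submodule.finrank_mono (by rintro _ ⟨v, hv, rfl⟩; exact hmap c v hv)
  exact ((Finset.sum_eq_sum_iff_of_le fun c _ => hle c).1 (hφ.sum_comp fun c => finrank L (J c)).symm c
    (Finset.mem_univ c)).symm

/-- Sums over a classified index set. -/
theorem sum_classes {k : ℕ} (cls : ι → Fin k) (M : Fin k → ℕ) (mult : ι → ℕ) (hm : ∀ c, mult c = M (cls c))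
    (P : ι → Prop) [DecidablePred P] :
    ∑ c ∈ Finset.univ.filter P, mult c =
      ∑ a : Fin k, (Finset.univ.filter fun c => P c ∧ cls c = a).card * M a := by
  simp only [hm]
  rw [← Finset.sum_fiberwise (Finset.univ.filter P) cls fun c => M (cls c)]
  refine Finset.sum_congr rfl fun a _ => ?_
  rw [Finset.filter_filter, Finset.sum_congr rfl fun c hc => by rw [(Finset.mem_filter.1 hc).2.2],
    Finset.sum_const, smul_eq_mul]

section Adj

variable {D : ChevalleyDatum} {F : Type*} [Field F] {H : Type*} [Group H] (f : H →* GL D.Idx F)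

/-- The operator of a group element. -/
noncomputable def op (h : H) : End F (D.Idx → F) := adj (f h)

theorem op_mul (a b : H) : op f (a * b) = op f a * op f b := by rw [op, map_mul, adj_mul]; rfl

theorem op_one : op f (1 : H) = 1 := by rw [op, map_one, adj_one]

theorem op_pow (a : H) (n : ℕ) : op f a ^ n = op f (a ^ n) := by rw [op, adj_pow, ← map_pow]; rfl

theorem op_comm {a b : H} (h : a * b = b * a) : Commute (op f a) (op f b) := by
  show op f a * op f b = op f b * op f a
  rw [← op_mul, h, op_mul]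

theorem op_order {a : H} {m : ℕ} (h : a ^ m = 1) : op f a ^ m = 1 := by rw [op_pow, h, op_one]

theorem op_inj (a : H) : Function.Injective (op f a) := adj_inj _

variable {m : ℕ} [NeZero m] {ζ : F}

theorem op_eig_mul (hζ : IsPrimitiveRoot ζ m) {a b : H} {i j : ZMod m} {v : D.Idx → F} (ha : v ∈ eig ζ (op f a) i)
    (hb : v ∈ eig ζ (op f b) j) : v ∈ eig ζ (op f (a * b)) (i + j) := by
  rw [mem_eig] at ha hb ⊢
  rw [op_mul, End.mul_apply, hb, map_smul, ha, smul_smul, rootPow_add hζ, mul_comm]

theorem op_eig_pow (hζ : IsPrimitiveRoot ζ m) {a : H} {i : ZMod m} {v : D.Idx → F} (ha : v ∈ eig ζ (op f a) i) :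
    ∀ n : ℕ, v ∈ eig ζ (op f (a ^ n)) ((n : ZMod m) * i)
  | 0 => by rw [mem_eig, pow_zero, op_one, Nat.cast_zero, zero_mul, rootPow_zero, one_smul, End.one_apply]
  | n + 1 => by rw [pow_succ, Nat.cast_succ, add_mul, one_mul]; exact op_eig_mul f hζ (op_eig_pow hζ ha n) ha

/-- A normalising element carries eigenvectors to eigenvectors. -/
theorem op_eig_conj (hζ : IsPrimitiveRoot ζ m) {y a b : H} {e e' : ℕ} (hb : b ^ m = 1)
    (hconj : y * a * y⁻¹ = b ^ e) (he : (e : ZMod m) * (e' : ZMod m) = 1) {i : ZMod m} {v : D.Idx → F}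
    (hv : v ∈ eig ζ (op f a) i) : op f y v ∈ eig ζ (op f b) ((e' : ZMod m) * i) := by
  have h1 : op f y v ∈ eig ζ (op f (b ^ e)) i := by
    rw [mem_eig] at hv ⊢
    rw [← End.mul_apply, ← op_mul, ← hconj, show y * a * y⁻¹ * y = y * a by group, op_mul, End.mul_apply, hv, map_smul]
  have h2 := op_eig_pow f hζ h1 e'
  rwa [← pow_mul, pow_eq_pow_mod _ hb, show e * e' % m = 1 % m from (ZMod.natCast_eq_natCast_iff' _ _ m).1 (by
    rw [Nat.cast_mul, he, Nat.cast_one]), ← pow_eq_pow_mod _ hb, pow_one] at h2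

/-- Conjugate elements have equal eigenspace dimensions. -/
theorem finrank_op_conj (c a : H) (i : ZMod m) :
    finrank F (eig ζ (op f (c * a * c⁻¹)) i) = finrank F (eig ζ (op f a) i) := by
  rw [op, map_mul, map_mul, map_inv]; exact finrank_eig_conj ζ _ _ i

/-- Conjugate pairs have equal common eigenspace dimensions. -/
theorem finrank_pair_conj {m' : ℕ} [NeZero m'] {ζ' : F} (c a b : H) (i : ZMod m) (j : ZMod m') :
    finrank F ↥(eig ζ (op f (c * a * c⁻¹)) i ⊓ eig ζ' (op f (c * b * c⁻¹)) j) =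
      finrank F ↥(eig ζ (op f a) i ⊓ eig ζ' (op f b) j) := by
  rw [op, op, map_mul, map_mul, map_mul, map_mul, map_inv, eig_conj, eig_conj,
    ← Submodule.map_inf _ (adj_inj _)]
  exact (Submodule.equivMapOfInjective _ (adj_inj _) _).finrank_eq.symm

end Adj

end Cfsg.Lib.Chev.E8Alt
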