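import Cfsg.Agent.Lib.Chev.E8Alt.MonoData
import Cfsg.Agent.Lib.Chev.AltSection.Exponents

/-!
Vectors on the roots of E8 modulo a prime: every one has the root counts of an integral vector in the fundamental
alcove, found by minimising a quadratic form over the affine reflections.
-/

set_option autoImplicit false
set_option linter.unusedSectionVars false
set_option maxRecDepth 100000

namespace Cfsg.Lib.Chev.E8Alt

open Cfsg.Lie Cfsg.Lib.Chev.AltSection

/-- Vectors on the simple roots. -/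
abbrev V8 (R : Type*) := Fin chevE8.rank → R

/-- The number of roots with a value. -/
noncomputable def cnt {ℓ : ℕ} (v : V8 (ZMod ℓ)) (a : ZMod ℓ) : ℕ :=
  (List.range chevE8.nroots).countP fun r => decide (val chevE8 tblE8 v r = a)

/-- The highest root. -/
def theta8 : List ℤ := [2, 3, 4, 6, 5, 4, 3, 2]

/-- A word for the reflection in the highest root. -/
def thetaW : List ℕ :=
  [7, 6, 5, 4, 3, 2, 1, 3, 4, 5, 6, 0, 2, 3, 4, 5, 1, 3, 4, 2, 3, 0, 2, 1, 3, 4, 5, 6, 7, 6, 5, 4, 3, 2, 1, 3, 4,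
    5, 6, 0, 2, 3, 4, 5, 1, 3, 4, 2, 3, 0, 2, 1, 3, 4, 5, 6, 7]

theorem thetaW_word : IsWord chevE8 thetaW :=
  (show ∀ i ∈ thetaW, i < 8 by decide +kernel)

theorem refl_coef : ∀ k < 8, ∀ j < 8, ∀ l < 8, tblE8.coroot (wperm tblE8 [k] (tblE8.simp' j)) l =
    (if l = j then 1 else 0) - (if l = k then tblE8.cartan k (tblE8.simp' j) else 0) := by decide +kernel

theorem theta_coef : ∀ j < 8, ∀ l < 8, tblE8.coroot (wperm tblE8 thetaW (tblE8.simp' j)) l =
    (if l = j then 1 else 0) - (if j = 7 then theta8.getD l 0 else 0) := by decide +kernel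

theorem act_refl (s : V8 ℤ) (k : Fin chevE8.rank) :
    act chevE8 tblE8 [k.val] s = fun j => s j - tblE8.cartan k (tblE8.simp' j) * s k := by
  funext j
  simp only [act, val]
  rw [Finset.sum_congr rfl fun l _ => by rw [refl_coef k k.2 j j.2 l l.2, Int.cast_id, sub_mul],
    Finset.sum_sub_distrib]
  simp only [Fin.val_inj, ite_mul, one_mul, zero_mul, Finset.sum_ite_eq', Finset.mem_univ, if_true]

theorem act_theta (s : V8 ℤ) :
    act chevE8 tblE8 thetaW s = fun j => s j - if j.val = 7 then ∑ l : Fin chevE8.rank, theta8.getD l.val 0 * s l else 0 := by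
  funext j
  simp only [act, val]
  rw [Finset.sum_congr rfl fun l _ => by rw [theta_coef j j.2 l l.2, Int.cast_id, sub_mul], Finset.sum_sub_distrib]
  simp only [Fin.val_inj, ite_mul, one_mul, zero_mul, Finset.sum_ite_eq', Finset.mem_univ, if_true]
  split_ifs <;> simp

theorem act_cast {R : Type*} [CommRing R] (u : List ℕ) (s : V8 ℤ) :
    act chevE8 tblE8 u (fun k => (s k : R)) = fun k => ((act chevE8 tblE8 u s k : ℤ) : R) := by
  funext k
  simp [act, val, Int.cast_sum, Int.cast_mul]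

theorem cnt_act {ℓ : ℕ} {u : List ℕ} (hu : IsWord chevE8 u) (v : V8 (ZMod ℓ)) (a : ZMod ℓ) :
    cnt (act chevE8 tblE8 u v) a = cnt v a := by
  have hperm : ((List.range chevE8.nroots).map (wperm tblE8 u)).Perm (List.range chevE8.nroots) := by
    have hnd : ((List.range chevE8.nroots).map (wperm tblE8 u)).Nodup :=
      List.Nodup.map_on (fun x hx y hy e => wperm_inj certE8 hu (List.mem_range.1 hx) (List.mem_range.1 hy) e)
        List.nodup_range
    refine (hnd.subperm fun x hx => ?_).perm_of_length_le (by simp)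
    obtain ⟨y, hy, rfl⟩ := List.mem_map.1 hx
    exact List.mem_range.2 (wperm_lt certE8 hu (List.mem_range.1 hy))
  rw [cnt, cnt, ← hperm.countP_eq (fun r => decide (val chevE8 tblE8 v r = a)), List.countP_map]
  refine List.countP_congr fun r hr => ?_
  simp only [Function.comp_apply, decide_eq_true_eq, val_act certE8 hu v (List.mem_range.1 hr)]

/-- The inverse of the Cartan matrix. -/
def invC : List (List ℤ) :=
  [[4, 5, 7, 10, 8, 6, 4, 2], [5, 8, 10, 15, 12, 9, 6, 3], [7, 10, 14, 20, 16, 12, 8, 4],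
    [10, 15, 20, 30, 24, 18, 12, 6], [8, 12, 16, 24, 20, 15, 10, 5], [6, 9, 12, 18, 15, 12, 8, 4],
    [4, 6, 8, 12, 10, 8, 6, 3], [2, 3, 4, 6, 5, 4, 3, 2]]

/-- The quadratic form. -/
def qf (x : Fin 8 → ℤ) : ℤ := ∑ i : Fin 8, ∑ j : Fin 8, (invC.getD i.val []).getD j.val 0 * x i * x j

/-- The distance from the multiple of the barycentre. -/
def qd (ℓ : ℕ) (s : Fin 8 → ℤ) : ℤ := qf fun j => 30 * s j - ℓ

theorem qf_nonneg (x : Fin 8 → ℤ) : 0 ≤ qf x := by
  have e : 420 * qf x =
      105 * (4 * x 0 + 5 * x 1 + 7 * x 2 + 10 * x 3 + 8 * x 4 + 6 * x 5 + 4 * x 6 + 2 * x 7) ^ 2 +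
      15 * (7 * x 1 + 5 * x 2 + 10 * x 3 + 8 * x 4 + 6 * x 5 + 4 * x 6 + 2 * x 7) ^ 2 +
      10 * (6 * x 2 + 5 * x 3 + 4 * x 4 + 3 * x 5 + 2 * x 6 + x 7) ^ 2 +
      14 * (5 * x 3 + 4 * x 4 + 3 * x 5 + 2 * x 6 + x 7) ^ 2 + 21 * (4 * x 4 + 3 * x 5 + 2 * x 6 + x 7) ^ 2 +
      35 * (3 * x 5 + 2 * x 6 + x 7) ^ 2 + 70 * (2 * x 6 + x 7) ^ 2 + 210 * x 7 ^ 2 := by
    simp [qf, invC, Fin.sum_univ_eight]
    ring
  have : 0 ≤ 420 * qf x := by rw [e]; positivity
  omega

theorem cartan_vals : ∀ k < 8, ∀ j < 8, tblE8.cartan k (tblE8.simp' j) =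
    ([[2, 0, -1, 0, 0, 0, 0, 0], [0, 2, 0, -1, 0, 0, 0, 0], [-1, 0, 2, -1, 0, 0, 0, 0], [0, -1, -1, 2, -1, 0, 0, 0],
      [0, 0, 0, -1, 2, -1, 0, 0], [0, 0, 0, 0, -1, 2, -1, 0], [0, 0, 0, 0, 0, -1, 2, -1],
      [0, 0, 0, 0, 0, 0, -1, 2]].getD k []).getD j 0 := by decide +kernel

theorem qd_refl (ℓ : ℕ) (s : Fin 8 → ℤ) (k : Fin 8) :
    qd ℓ (fun j => s j - tblE8.cartan k (tblE8.simp' j) * s k) = qd ℓ s + 60 * ℓ * s k := by
  simp only [cartan_vals k k.2 _ (Fin.is_lt _)]
  fin_cases k <;> simp [qd, qf, invC, Fin.sum_univ_eight] <;> ring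

theorem qd_theta (ℓ : ℕ) (s : Fin 8 → ℤ) :
    qd ℓ (fun j => s j - if j.val = 7 then (∑ l : Fin 8, theta8.getD l.val 0 * s l) - ℓ else 0) =
      qd ℓ s - 60 * ℓ * ((∑ l : Fin 8, theta8.getD l.val 0 * s l) - ℓ) := by
  simp [qd, qf, invC, theta8, Fin.sum_univ_eight]
  ring

/-- Every vector has the counts of one in the alcove. -/
theorem exists_alcove {ℓ : ℕ} [NeZero ℓ] (v : V8 (ZMod ℓ)) : ∃ s : Fin 8 → ℤ, (∀ k, 0 ≤ s k) ∧
    ∑ l : Fin 8, theta8.getD l.val 0 * s l ≤ ℓ ∧ ∀ a, cnt (fun k => ((s k : ℤ) : ZMod ℓ)) a = cnt v a := by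
  classical
  let P : ℕ → Prop := fun n => ∃ s : Fin 8 → ℤ, (qd ℓ s).toNat = n ∧
    ∀ a, cnt (fun k => ((s k : ℤ) : ZMod ℓ)) a = cnt v a
  have hP : ∃ n, P n := ⟨_, fun k => ((v k).val : ℤ), rfl, fun a => by
    simp only [Int.cast_natCast, ZMod.natCast_zmod_val]⟩
  obtain ⟨s, hs, hc⟩ := Nat.find_spec hP
  have hpos : (0 : ℤ) < ℓ := by exact_mod_cast Nat.pos_of_ne_zero (NeZero.ne ℓ)
  have hmin : ∀ s' : Fin 8 → ℤ, (∀ a, cnt (fun k => ((s' k : ℤ) : ZMod ℓ)) a = cnt v a) → qd ℓ s ≤ qd ℓ s' := by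
    intro s' h'
    have h := Nat.find_min' hP ⟨s', rfl, h'⟩
    rw [← hs] at h
    have h1 : 0 ≤ qd ℓ s := qf_nonneg _
    have h2 : 0 ≤ qd ℓ s' := qf_nonneg _
    omega
  refine ⟨s, fun k => ?_, ?_, hc⟩
  · have e : (fun j : Fin chevE8.rank => ((s j - tblE8.cartan k (tblE8.simp' j) * s k : ℤ) : ZMod ℓ)) =
        act chevE8 tblE8 [k.val] (fun j : Fin chevE8.rank => ((s j : ℤ) : ZMod ℓ)) := by
      refine Eq.trans ?_ (act_cast (R := ZMod ℓ) [k.val] s).symm
      funext j
      exact congrArg Int.cast (congrFun (act_refl s k) j).symm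
    have h := hmin (fun j => s j - tblE8.cartan k (tblE8.simp' j) * s k) fun a =>
      ((congrArg (cnt · a) e).trans
        (cnt_act (u := [k.val]) (fun i hi => by rw [List.mem_singleton.1 hi]; exact k.2) _ a)).trans (hc a)
    rw [qd_refl] at h
    by_contra hk
    have : 60 * (ℓ : ℤ) * s k < 0 := mul_neg_of_pos_of_neg (by linarith) (not_le.1 hk)
    linarith
  · have e : (fun j : Fin chevE8.rank =>
        ((s j - if j.val = 7 then (∑ l : Fin 8, theta8.getD l.val 0 * s l) - (ℓ : ℤ) else 0 : ℤ) : ZMod ℓ)) =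
        act chevE8 tblE8 thetaW (fun j : Fin chevE8.rank => ((s j : ℤ) : ZMod ℓ)) := by
      refine Eq.trans ?_ (act_cast (R := ZMod ℓ) thetaW s).symm
      funext j
      refine Eq.trans ?_ (congrArg Int.cast (congrFun (act_theta s) j).symm)
      split_ifs <;> simp
      rfl
    have h := hmin (fun j => s j - if j.val = 7 then (∑ l : Fin 8, theta8.getD l.val 0 * s l) - ℓ else 0) fun a =>
      ((congrArg (cnt · a) e).trans (cnt_act thetaW_word _ a)).trans (hc a)
    rw [qd_theta] at h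
    by_contra hk
    have : 0 < 60 * (ℓ : ℤ) * ((∑ l : Fin 8, theta8.getD l.val 0 * s l) - ℓ) :=
      mul_pos (by linarith) (by linarith [not_le.1 hk])
    linarith

/-- The number of roots with a value, by arithmetic on the coefficients. -/
def cntList (ℓ : ℕ) (s : List ℕ) : List ℕ :=
  let L := (List.range chevE8.nroots).map fun r =>
    lin ℓ ((List.range 8).map fun k => tblE8.coroot r k) s
  (List.range ℓ).map fun a => L.count a

/-- The check at one point of the alcove. -/
def chkPoint (ℓ : ℕ) (S : List ℕ) (s : List ℕ) : Bool :=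
  decide (ℓ < ((theta8.zip s).map fun p => p.1 * (p.2 : ℤ)).sum.toNat) || s.all (fun x => x % ℓ == 0) ||
    allowed ℓ S 8 0 (cntList ℓ s)

/-- The check on the alcove. -/
def chkAlcove (ℓ : ℕ) (S : List ℕ) : Bool :=
  ((theta8.map Int.toNat).foldr (fun m acc => (List.range (ℓ / m + 1)).flatMap fun x => acc.map (x :: ·)) [[]]).all
    (chkPoint ℓ S)

theorem alcove3 : chkAlcove 3 [80, 82, 84, 86, 88, 92, 102, 134] = true := by decide +kernel
theorem alcove5 : chkAlcove 5 [48, 52, 68] = true := by decide +kernel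
theorem alcove7 : chkAlcove 7 [38, 80] = true := by decide +kernel

theorem mem_box : ∀ (ms : List ℕ) (ℓ : ℕ) (xs : List ℕ), xs.length = ms.length →
    (∀ i, i < ms.length → xs.getD i 0 ≤ ℓ / ms.getD i 0) →
    xs ∈ ms.foldr (fun m acc => (List.range (ℓ / m + 1)).flatMap fun x => acc.map (x :: ·)) [[]] := by
  intro ms
  induction ms with
  | nil => intro ℓ xs h _; simp [List.length_eq_zero_iff.1 h]
  | cons m ms ih =>
    intro ℓ xs h hb
    obtain ⟨x, xs, rfl⟩ := List.exists_cons_of_length_eq_add_one h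
    have h0 := hb 0 (by simp)
    rw [List.foldr_cons, List.mem_flatMap]
    refine ⟨x, List.mem_range.2 (by simp at h0; omega), List.mem_map.2 ⟨xs, ih ℓ xs (by simpa using h) fun i hi => ?_,
      rfl⟩⟩
    simpa using hb (i + 1) (by simpa using hi)

/-- A nonzero vector with equally many roots at all nonzero values has an allowed number of zeros. -/
theorem torus_bound {ℓ : ℕ} [hℓ : Fact ℓ.Prime] {S : List ℕ} (hchk : chkAlcove ℓ S = true) (v : V8 (ZMod ℓ))
    (hv : v ≠ 0) (heq : ∀ a : ZMod ℓ, a ≠ 0 → cnt v a = cnt v 1) : 8 + cnt v 0 ∈ S := by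
  classical
  obtain ⟨s, hs0, hs1, hc⟩ := exists_alcove v
  let xs : List ℕ := (List.finRange 8).map fun k => (s k).toNat
  have hget : ∀ k : Fin 8, xs.getD k.val 0 = (s k).toNat := fun k => by
    simp [xs, List.getD_eq_getElem?_getD]
  have hsum : ((theta8.zip xs).map fun p => p.1 * (p.2 : ℤ)).sum = ∑ l : Fin 8, theta8.getD l.val 0 * s l := by
    simp [xs, theta8, List.finRange_succ, Fin.sum_univ_eight, Int.toNat_of_nonneg (hs0 _)]
    ring
  have hall := List.all_eq_true.1 hchk xs (mem_box _ ℓ xs (by simp [xs, theta8]) fun i hi => by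
    simp only [theta8, List.map_cons, List.map_nil, List.length_cons, List.length_nil] at hi
    have e := hget ⟨i, hi⟩
    simp only at e
    rw [e]
    simp only [theta8, Fin.sum_univ_eight] at hs1
    simp at hs1
    have := hs0 0; have := hs0 1; have := hs0 2; have := hs0 3; have := hs0 4; have := hs0 5; have := hs0 6
    have := hs0 7
    interval_cases i <;> simp [theta8] <;> (try rw [Nat.le_div_iff_mul_le (by norm_num)]) <;> omega)
  have hval : ∀ r < chevE8.nroots, ((lin ℓ ((List.range 8).map fun k => tblE8.coroot r k) xs : ℕ) : ZMod ℓ) =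
      val chevE8 tblE8 (fun k => ((s k : ℤ) : ZMod ℓ)) r := by
    intro r _
    rw [lin, ← Int.cast_natCast, Int.toNat_of_nonneg (Int.emod_nonneg _ (by exact_mod_cast hℓ.out.ne_zero)),
      show (((((List.range 8).map fun k => tblE8.coroot r k).zip xs).map fun p => p.1 * (p.2 : ℤ)).sum % (ℓ : ℤ) : ℤ) =
        (((List.range 8).map fun k => tblE8.coroot r k).zip xs |>.map fun p => p.1 * (p.2 : ℤ)).sum % (ℓ : ℤ) from rfl,
      ZMod.intCast_mod]
    show _ = ∑ k : Fin 8, ((tblE8.coroot r k : ℤ) : ZMod ℓ) * ((s k : ℤ) : ZMod ℓ)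
    simp only [← Int.cast_mul, ← Int.cast_sum]
    congr 1
    simp [xs, List.range_succ, List.finRange_succ, Fin.sum_univ_eight, Int.toNat_of_nonneg (hs0 _)]
    ring
  have hcn : ∀ a : ℕ, a < ℓ → (cntList ℓ xs).getD a 0 = cnt v (a : ZMod ℓ) := by
    intro a ha
    rw [← hc]
    simp only [cntList, cnt, List.getD_eq_getElem?_getD, List.getElem?_map, List.getElem?_range ha, Option.map_some,
      Option.getD_some, List.count, List.countP_map]
    refine List.countP_congr fun r hr => ?_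
    simp only [Function.comp_apply, beq_iff_eq, decide_eq_true_eq, ← hval r (List.mem_range.1 hr)]
    constructor
    · rintro rfl; rfl
    · intro e
      rw [ZMod.natCast_eq_natCast_iff', Nat.mod_eq_of_lt ha, Nat.mod_eq_of_lt] at e
      · exact e
      · refine (Int.toNat_lt (Int.emod_nonneg _ (by exact_mod_cast hℓ.out.ne_zero))).2 (Int.emod_lt_of_pos _ ?_)
        exact_mod_cast hℓ.out.pos
  simp only [chkPoint, Bool.or_eq_true, decide_eq_true_eq] at hall
  rcases hall with (h | h) | h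
  · rw [hsum] at h; omega
  · refine absurd ?_ hv
    have hz : (fun k => ((s k : ℤ) : ZMod ℓ)) = 0 := by
      funext k
      have := List.all_eq_true.1 h (xs.getD k.val 0) (by
        rw [List.getD_eq_getElem _ _ (by simp [xs])]; exact List.getElem_mem _)
      rw [beq_iff_eq, hget] at this
      rw [← Int.toNat_of_nonneg (hs0 k), Int.cast_natCast, Pi.zero_apply, ZMod.natCast_eq_zero_iff]
      exact Nat.dvd_of_mod_eq_zero this
    have h240 : cnt v 0 = (List.range chevE8.nroots).length := by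
      refine ((hc 0).symm.trans (congrArg (cnt · (0 : ZMod ℓ)) hz)).trans ?_
      exact List.countP_eq_length.2 fun r _ => decide_eq_true (val_zero r)
    rw [cnt, List.countP_eq_length] at h240
    funext k
    have := h240 (tblE8.simp' k) (List.mem_range.2 (certE8.spec.simp_lt k k.2))
    rw [decide_eq_true_eq, val_simp certE8] at this
    exact this
  · have htail : ((cntList ℓ xs).tail.all fun a => a == (cntList ℓ xs).getD 1 0) = true := by
      rw [List.all_eq_true]
      intro a ha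
      obtain ⟨i, hi, rfl⟩ := List.getElem_of_mem ha
      rw [List.length_tail] at hi
      simp only [cntList, List.length_map, List.length_range] at hi
      rw [beq_iff_eq, List.getElem_tail, ← List.getD_eq_getElem (d := 0), hcn _ (by omega), hcn 1 hℓ.out.one_lt,
        Nat.cast_one]
      refine heq _ fun e => ?_
      rw [ZMod.natCast_eq_zero_iff] at e
      exact absurd (Nat.le_of_dvd (by omega) e) (by omega)
    rw [allowed, htail] at h
    simp only [Bool.not_true, Bool.false_or, List.contains_iff_mem, hcn 0 hℓ.out.pos, Nat.cast_zero] at h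
    exact h

end Cfsg.Lib.Chev.E8Alt
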