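import Cfsg.Agent.Lib.Chev.AltSection.CoverLift
import Cfsg.Agent.Lib.Chev.AltSection.PrimeTorus

/-!
Central kernels of minimal covers: the ranks of subgroups of prime power order, also for a prime whose higher
powers divide the order of the Weyl group.
-/

set_option autoImplicit false
set_option linter.unusedSectionVars false

namespace Cfsg.Lib.Chev.E8Alt

open Subgroup Cfsg.Lib.Chev.AltSection

section Cover

variable {n : ℕ} {H : Type*} [Group H] [Finite H] (π : H →* ↥(alternatingGroup (Fin n))) (hπ : Function.Surjective π)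
  (hmin : ∀ M : Subgroup H, M.map π = ⊤ → M = ⊤) (hn : 9 ≤ n) {ℓ : ℕ} [hℓ : Fact ℓ.Prime]

include hπ hmin hn

/-- An `ℓ`-subgroup of the kernel is central if the Frattini quotients of `ℓ`-subgroups are smaller than the
linear sections. -/
theorem kernel_central_gen {q₀ : ℕ} [hq₀ : Fact q₀.Prime] (hℓq : ℓ ≠ q₀) (hq₀2 : q₀ ≠ 2) (hqn : q₀ ≤ n) {N : ℕ} (hN : N < n - 1 - (if ℓ ∣ n then 1 else 0))
    (hrank : ∀ P : Subgroup H, IsPGroup ℓ P → (frattini ↥P).index ≤ ℓ ^ N)
    {Q : Subgroup H} (hQ : IsPGroup ℓ Q) (hker : Q ≤ π.ker) {z : H} (hz : z ∈ Q) (h : H) : h * z = z * h := by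
  classical
  obtain ⟨S, hS⟩ := (hQ.comap_of_injective π.ker.subtype π.ker.subtype_injective).exists_le_sylow
  let P : Subgroup H := (S : Subgroup π.ker).map π.ker.subtype
  have hzP : z ∈ P := ⟨⟨z, hker hz⟩, hS (show (⟨z, hker hz⟩ : π.ker) ∈ Q.comap π.ker.subtype from hz), rfl⟩
  have hP : IsPGroup ℓ P := S.2.map _
  have hPn : P.Normal := by
    rw [← Subgroup.normalizer_eq_top_iff]
    refine hmin _ ?_
    have hfr := Sylow.normalizer_sup_eq_top S
    have h1 : (Subgroup.normalizer (P : Set H) ⊔ π.ker).map π = ⊤ := by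
      rw [hfr, Subgroup.map_top_of_surjective π hπ]
    rwa [Subgroup.map_sup, (π.ker.map_eq_bot_iff).2 le_rfl, sup_bot_eq] at h1
  haveI := hPn
  haveI hCn : (Subgroup.centralizer (P : Set H)).Normal := inferInstance
  have hC : Subgroup.centralizer (P : Set H) = ⊤ := by
    by_contra hne
    have hle : Subgroup.centralizer (P : Set H) ≤ π.ker := by
      by_contra h'
      exact hne (Cfsg.Lib.Linear.AltDeg.normal_top_of hπ hmin (by omega) _ h')
    let Φ : Subgroup H := (frattini ↥P).map P.subtype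
    haveI hchar : (frattini ↥P).Characteristic := inferInstance
    haveI : Φ.Normal := ConjAct.normal_of_characteristic_of_normal
    let q : H →* H ⧸ Φ := QuotientGroup.mk' Φ
    let Qb : Subgroup (H ⧸ Φ) := P.map q
    haveI : Qb.Normal := hPn.map q (QuotientGroup.mk'_surjective Φ)
    have hc : ∀ a b : Qb, a * b = b * a := by
      rintro ⟨_, a, ha, rfl⟩ ⟨_, b, hb, rfl⟩
      refine Subtype.ext ?_
      show q a * q b = q b * q a
      rw [← map_mul, ← map_mul]
      refine (QuotientGroup.eq (s := Φ)).2 ?_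
      refine ⟨(⟨a, ha⟩ * ⟨b, hb⟩ : P)⁻¹ * (⟨b, hb⟩ * ⟨a, ha⟩), ?_, rfl⟩
      refine Cfsg.Lib.PGroup.commutator_le_frattini hP ?_
      rw [show ((⟨a, ha⟩ * ⟨b, hb⟩ : P))⁻¹ * (⟨b, hb⟩ * ⟨a, ha⟩) =
        (⟨b, hb⟩ : P)⁻¹ * (⟨a, ha⟩ : P)⁻¹ * (⟨b, hb⟩ : P)⁻¹⁻¹ * (⟨a, ha⟩ : P)⁻¹⁻¹ by group]
      exact Subgroup.commutator_mem_commutator (Subgroup.mem_top _) (Subgroup.mem_top _)
    have he : ∀ a : Qb, a ^ ℓ = 1 := by
      rintro ⟨_, a, ha, rfl⟩
      refine Subtype.ext ?_
      show q a ^ ℓ = 1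
      rw [← map_pow]
      refine (QuotientGroup.eq_one_iff _).2 ⟨(⟨a, ha⟩ : P) ^ ℓ, ?_, rfl⟩
      exact Cfsg.Lib.PGroup.pow_mem_frattini hP _
    obtain ⟨d, ρ, hcard, hρ⟩ := Cfsg.Lib.Linear.AltDeg.exists_linear_action ℓ q Qb hc he
    have hd : d ≤ N := by
      have hQb : Nat.card Qb = (frattini ↥P).index := by
        have hk : (q.subgroupMap P).ker = frattini ↥P := by
          ext x
          rw [MonoidHom.mem_ker]
          constructor
          · intro hx
            obtain ⟨y, hy, e⟩ := (QuotientGroup.eq_one_iff _).1 (congrArg Subtype.val hx)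
            rwa [← Subtype.ext e]
          · intro hx
            exact Subtype.ext ((QuotientGroup.eq_one_iff _).2 ⟨x, hx, rfl⟩)
        rw [← hk, Subgroup.index_ker, MonoidHom.range_eq_top.2 (q.subgroupMap_surjective P), Subgroup.card_top]
      have := hrank P hP
      rw [← hQb, hcard] at this
      exact (Nat.pow_le_pow_iff_right hℓ.out.one_lt).1 this
    by_cases hρk : ρ.ker ≤ π.ker
    · -- a linear section of small degree
      have := section_le_degree ℓ π hπ ρ hρk hn
      omega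
    · -- a Burnside kernel
      have htop : ρ.ker = ⊤ := Cfsg.Lib.Linear.AltDeg.normal_top_of hπ hmin (by omega) _ hρk
      let c : H →* MulAut ↥P := MulAut.conjNormal
      have hst : ∀ g, c g ∈ Cfsg.Lib.PGroup.frattiniStab ↥P := fun g x => by
        have h1 := hρ g (MonoidHom.mem_ker.1 (htop ▸ Subgroup.mem_top g)) (q x) ⟨x, x.2, rfl⟩
        rw [← map_inv, ← map_mul, ← map_mul] at h1
        obtain ⟨y, hy, e⟩ := (QuotientGroup.eq (s := Φ)).1 h1.symm
        have e2 : x⁻¹ * c g x = y := Subtype.ext (by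
          rw [Subgroup.coe_mul, Subgroup.coe_inv, MulAut.conjNormal_apply]
          exact e.symm)
        rw [e2]; exact hy
      haveI : Nontrivial (Fin n) := Fin.nontrivial_iff_two_le.2 (by omega)
      obtain ⟨x, hx⟩ := exists_prime_orderOf_dvd_card' (G := ↥(alternatingGroup (Fin n))) q₀ (by
        have h2 := two_mul_nat_card_alternatingGroup (α := Fin n)
        rw [Nat.card_perm, Nat.card_fin] at h2
        have h3 : q₀ ∣ 2 * Nat.card ↥(alternatingGroup (Fin n)) := by
          rw [h2]; exact Nat.dvd_factorial hq₀.out.pos hqn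
        exact ((Nat.coprime_primes hq₀.out Nat.prime_two).2 hq₀2).dvd_mul_left.1 h3)
      obtain ⟨g, rfl⟩ := hπ x
      obtain ⟨k, hk⟩ := Cfsg.Lib.PGroup.isPGroup_frattiniStab hP ⟨c g, hst g⟩
      have hk' : g ^ ℓ ^ k ∈ Subgroup.centralizer (P : Set H) := by
        rw [Subgroup.mem_centralizer_iff]
        intro p hp
        have e := congrArg (fun f : MulAut ↥P => ((f ⟨p, hp⟩ : P) : H))
          (show c (g ^ ℓ ^ k) = 1 by rw [map_pow]; exact congrArg Subtype.val hk)
        simp only [MulAut.one_apply] at e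
        rw [MulAut.conjNormal_apply] at e
        exact (mul_inv_eq_iff_eq_mul.1 e).symm
      have h1 : π g ^ ℓ ^ k = 1 := by rw [← map_pow]; exact hle hk'
      have h2 := orderOf_dvd_of_pow_eq_one h1
      rw [hx] at h2
      exact hℓq (((Nat.prime_dvd_prime_iff_eq hq₀.out hℓ.out).1 (hq₀.out.dvd_of_dvd_pow h2)).symm)
  have := Subgroup.mem_centralizer_iff.1 (hC ▸ Subgroup.mem_top h : h ∈ Subgroup.centralizer (P : Set H)) z hzP
  exact this.symm

end Cover

section Rank

open Cfsg.Lie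

variable {D : ChevalleyDatum} {T : Tbl} {F : Type*} [Field F] (C : Cert D T) (K : FullCert D T) [Finite F]
  {ℓ : ℕ} [hℓ : Fact ℓ.Prime]
include C K

/-- The index of the diagonal subgroup. -/
theorem index_pow {Ls : List WLevel} (hW : chkWeyl T Ls = true) {a : ℕ} (hq : Nat.card F % ℓ ^ a = 1)
    (hn : ¬ ℓ ^ a ∣ ∏ j ∈ Finset.range D.rank, (nth ([], []) Ls j).1.length) : ¬ ℓ ^ a ∣ (Tdg D F).index := by
  set T' := (D.diagonalSubgroup F).subgroupOf (D.group F)
  have h := card_group C K (F := F) hW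
  have hT : Nat.card T' = Nat.card ↥(D.diagonalSubgroup F) :=
    Nat.card_congr (Subgroup.subgroupOfEquivOfLe (diag_le_group C)).toEquiv
  rw [← T'.card_mul_index, hT, mul_comm (Nat.card F ^ (D.nroots / 2)), mul_assoc] at h
  haveI : Finite (GL D.Idx F) := inferInstance
  show ¬ ℓ ^ a ∣ T'.index
  rw [Nat.eq_of_mul_eq_mul_left Nat.card_pos h]
  intro hd
  apply hn
  have hq' : (Nat.card F : ZMod (ℓ ^ a)) = 1 := by rw [← ZMod.natCast_mod, hq, Nat.cast_one]
  rw [← ZMod.natCast_eq_zero_iff] at hd ⊢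
  simpa [hq', Nat.cast_prod, Nat.cast_list_sum, List.map_map, Function.comp_def] using hd

/-- A group of prime power order acting on the cosets has a small orbit. -/
theorem exists_orbit_le {a : ℕ} (hidx : ¬ ℓ ^ (a + 1) ∣ (Tdg D F).index) {P : Type*} [Group P] [Finite P] (hP : IsPGroup ℓ P)
    (f : P →* ↥(D.group F)) :
    ∃ (t : ↥(D.group F)) (Q : Subgroup P), Q.index ≤ ℓ ^ a ∧ ∀ x ∈ Q, t⁻¹ * f x * t ∈ Tdg D F := by
  classical
  haveI : Finite (GL D.Idx F) := inferInstance
  letI : MulAction P (↥(D.group F) ⧸ Tdg D F) := MulAction.compHom _ f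
  by_contra hno
  push Not at hno
  refine hidx ?_
  rw [Subgroup.index_eq_card, Nat.card_congr (MulAction.selfEquivSigmaOrbits P (↥(D.group F) ⧸ Tdg D F))]
  haveI : Fintype (Quotient (MulAction.orbitRel P (↥(D.group F) ⧸ Tdg D F))) := Fintype.ofFinite _
  rw [Nat.card_sigma]
  refine Finset.dvd_sum fun ω _ => ?_
  rw [Nat.card_congr (MulAction.orbitEquivQuotientStabilizer P ω.out), ← Subgroup.index_eq_card]
  obtain ⟨j, hj⟩ := hP.index (MulAction.stabilizer P ω.out)
  rw [hj]
  refine Nat.pow_dvd_pow ℓ (m := a + 1) ?_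
  by_contra hj2
  obtain ⟨t, ht⟩ := QuotientGroup.mk_surjective ω.out
  obtain ⟨x, hx, hxT⟩ := hno t (MulAction.stabilizer P ω.out) (by
    rw [hj]
    exact Nat.pow_le_pow_right hℓ.out.pos (by omega))
  apply hxT
  rw [MulAction.mem_stabilizer_iff, ← ht] at hx
  have h1 : ((f x * t : ↥(D.group F)) : ↥(D.group F) ⧸ Tdg D F) = t := hx
  have := QuotientGroup.eq.1 h1.symm
  simpa [mul_assoc] using this

/-- The rank of a group of prime power order in the group. -/
theorem frattini_index_gen (hl : CartLin D T) {a₀ : ℕ} (hidx : ¬ ℓ ^ (a₀ + 1) ∣ (Tdg D F).index) {ζ : F} (hζ : IsPrimitiveRoot ζ ℓ)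
    {P : Type*} [Group P] [Finite P] (hP : IsPGroup ℓ P) (f : P →* ↥(D.group F)) (hf : Function.Injective f) :
    (frattini P).index ≤ ℓ ^ (D.rank + a₀) := by
  classical
  haveI : Finite (GL D.Idx F) := inferInstance
  obtain ⟨t, Q, hQ, hQT⟩ := exists_orbit_le C K hidx hP f
  haveI hQc : IsMulCommutative Q := ⟨⟨fun a b => Subtype.ext (hf (by
    have := Tdg_comm C (hQT _ a.2) (hQT _ b.2)
    rw [show t⁻¹ * f a * t * (t⁻¹ * f b * t) = t⁻¹ * (f a * f b) * t by group,
      show t⁻¹ * f b * t * (t⁻¹ * f a * t) = t⁻¹ * (f b * f a) * t by group] at this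
    rw [Subgroup.coe_mul, Subgroup.coe_mul, map_mul, map_mul]
    exact mul_left_cancel (mul_right_cancel this)))⟩⟩
  letI : CommGroup Q := { (inferInstance : Group Q) with mul_comm := hQc.is_comm.comm }
  let p5 : Q →* Q := powMonoidHom ℓ
  have hrange : p5.range.map Q.subtype ≤ frattini P := by
    rintro _ ⟨_, ⟨a, rfl⟩, rfl⟩
    exact Cfsg.Lib.PGroup.pow_mem_frattini hP _
  have hker : Nat.card p5.ker ≤ ℓ ^ D.rank := by
    refine le_trans ?_ (card_Tdg_tors C K hl hζ)
    refine Nat.card_le_card_of_injective (fun a => ⟨t⁻¹ * f (a : Q) * t, hQT _ (a : Q).2, ?_⟩) fun a b e => ?_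
    · have : ((a : Q) : P) ^ ℓ = 1 := congrArg Subtype.val (MonoidHom.mem_ker.1 a.2)
      rw [show (t⁻¹ * f (a : Q) * t) ^ ℓ = t⁻¹ * f (a : Q) ^ ℓ * t by
        simpa using conj_pow (a := t⁻¹) (b := f (a : Q)) (i := ℓ), ← map_pow, this, map_one, mul_one, inv_mul_cancel]
    · have h := congrArg Subtype.val e
      exact Subtype.ext (Subtype.ext (hf (mul_left_cancel (mul_right_cancel h))))
  have hidx' : p5.range.index = Nat.card p5.ker := by
    have h1 := p5.range.card_mul_index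
    have h2 := p5.ker.card_mul_index
    rw [Subgroup.index_ker] at h2
    have h3 : Nat.card p5.range * p5.range.index = Nat.card p5.range * Nat.card p5.ker := by
      rw [h1, ← h2, mul_comm]
    exact Nat.eq_of_mul_eq_mul_left Nat.card_pos h3
  calc (frattini P).index ≤ (p5.range.map Q.subtype).index :=
        Nat.le_of_dvd (Nat.pos_of_ne_zero Subgroup.index_ne_zero_of_finite) (Subgroup.index_dvd_of_le hrange)
    _ = p5.range.index * Q.index := by rw [Subgroup.index_map_subtype]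
    _ ≤ ℓ ^ D.rank * ℓ ^ a₀ := Nat.mul_le_mul (hidx' ▸ hker) hQ
    _ = ℓ ^ (D.rank + a₀) := by rw [pow_add]

end Rank

end Cfsg.Lib.Chev.E8Alt
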