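import Cfsg.Agent.Lib.Chev.E8Alt.Exact
import Cfsg.Agent.Lib.Chev.AltSection.CoverLift

/-!
Inverted lifts of a family of commuting elements.
-/

set_option autoImplicit false
set_option linter.unusedSectionVars false

namespace Cfsg.Lib.Chev.E8Alt

open Subgroup Cfsg.Lib.Chev.AltSection

variable {H A : Type*} [Group H] [Finite H] [Group A] [Finite A] {ℓ : ℕ} [hℓ : Fact ℓ.Prime] {π : H →* A}

/-- The data of inverted lifts of a commuting family: a normalised group over it, the inverting lift, the lifts. -/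
theorem exists_family (hZ : CentralPart ℓ π) (hπ : Function.Surjective π) (hodd : ℓ ≠ 2) {n : ℕ} (a : Fin n → A)
    (ha : ∀ i, a i ^ ℓ = 1) (hac : ∀ i j, a i * a j = a j * a i) {g₀ : A}
    (hg : ∀ i, g₀ * a i * g₀⁻¹ = (a i)⁻¹) :
    ∃ (P : Subgroup H) (g : H) (x : Fin n → H), IsPGroup ℓ P ∧ P.map π = closure (Set.range a) ∧
      g ∈ normalizer (P : Set H) ∧ π g = g₀ ∧
      (∀ i, x i ∈ P ∧ π (x i) = a i ∧ x i ^ ℓ = 1 ∧ g * x i * g⁻¹ = (x i)⁻¹) ∧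
      ∀ s, (∀ i, s * a i * s⁻¹ ∈ closure (Set.range a)) → ∃ y ∈ normalizer (P : Set H), π y = s := by
  have hE : IsPGroup ℓ (closure (Set.range a)) := closure_pgroup
    (by rintro _ ⟨i, rfl⟩ _ ⟨j, rfl⟩; exact hac i j) (by rintro _ ⟨i, rfl⟩; exact ha i)
  obtain ⟨P, hP, hPE, hlift⟩ := exists_over π hE (fun e _ => hπ e)
  have hl : ∀ s, (∀ i, s * a i * s⁻¹ ∈ closure (Set.range a)) → ∃ y ∈ normalizer (P : Set H), π y = s :=
    fun s hs => hlift s (mem_normalizer_closure (by rintro _ ⟨i, rfl⟩; exact hs i)) (hπ s)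
  obtain ⟨g, hgP, hgπ⟩ := hl g₀ fun i => hg i ▸ inv_mem (subset_closure ⟨i, rfl⟩)
  choose x hx using fun i => exists_inverted hZ hP hodd hgP (hPE.ge (subset_closure ⟨i, rfl⟩)) (ha i)
    (by rw [hgπ]; exact hg i)
  exact ⟨P, g, x, hP, hPE, hgP, hgπ, hx, hl⟩

/-- The action of a normalising element commuting with the inverting one. -/
theorem family_act (hZ : CentralPart ℓ π) (hodd : ℓ ≠ 2) {P : Subgroup H} (hP : IsPGroup ℓ P) {g y x x' : H}
    {g₀ a b : A} (hgP : g ∈ normalizer (P : Set H)) (hgπ : π g = g₀)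
    (hx : x ∈ P ∧ π x = a ∧ x ^ ℓ = 1 ∧ g * x * g⁻¹ = x⁻¹) (hx' : x' ∈ P ∧ π x' = b ∧ x' ^ ℓ = 1 ∧ g * x' * g⁻¹ = x'⁻¹)
    (hy : y ∈ normalizer (P : Set H)) (hcom : π y * g₀ = g₀ * π y) {e : ℕ}
    (hact : π y * a * (π y)⁻¹ = b ^ e) : y * x * y⁻¹ = x' ^ e :=
  conj_inverted hZ hP hodd hgP hy (by rw [hgπ, hcom]) hx.1 hx.2.2.1 hx.2.2.2 (pow_mem hx'.1 e)
    (by rw [← conj_pow, hx'.2.2.2, inv_pow]) (by rw [hx.2.1, map_pow, hx'.2.1, hact])

end Cfsg.Lib.Chev.E8Alt
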