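import Cfsg.Agent.Lib.Chev.E8Alt.MixedDefs

/-!
Elements of the alternating group of degree nineteen around two seven-cycles and a five-cycle, and around two
five-cycles and a seven-cycle.
-/

set_option autoImplicit false
set_option maxRecDepth 100000
set_option maxHeartbeats 1000000

namespace Cfsg.Lib.Chev.E8Alt

/-- The first seven-cycle. -/
def sevA : A19 :=
  ⟨p19 ![1, 2, 3, 4, 5, 6, 0, 7, 8, 9, 10, 11, 12, 13, 14, 15, 16, 17, 18]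
    ![6, 0, 1, 2, 3, 4, 5, 7, 8, 9, 10, 11, 12, 13, 14, 15, 16, 17, 18] (by decide) (by decide),
    Equiv.Perm.mem_alternatingGroup.2 (by decide +kernel)⟩

/-- The second seven-cycle. -/
def sevB : A19 :=
  ⟨p19 ![0, 1, 2, 3, 4, 5, 6, 8, 9, 12, 11, 7, 13, 10, 14, 15, 16, 17, 18]
    ![0, 1, 2, 3, 4, 5, 6, 11, 7, 8, 13, 10, 9, 12, 14, 15, 16, 17, 18] (by decide) (by decide),
    Equiv.Perm.mem_alternatingGroup.2 (by decide +kernel)⟩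

/-- The first five-cycle. -/
def fivA : A19 :=
  ⟨p19 ![0, 1, 2, 3, 4, 5, 6, 7, 8, 9, 10, 11, 12, 13, 15, 16, 17, 18, 14]
    ![0, 1, 2, 3, 4, 5, 6, 7, 8, 9, 10, 11, 12, 13, 18, 14, 15, 16, 17] (by decide) (by decide),
    Equiv.Perm.mem_alternatingGroup.2 (by decide +kernel)⟩

/-- The second five-cycle. -/
def fivB : A19 :=
  ⟨p19 ![0, 1, 2, 3, 4, 5, 6, 8, 9, 10, 11, 7, 12, 13, 14, 15, 16, 17, 18]
    ![0, 1, 2, 3, 4, 5, 6, 11, 7, 8, 9, 10, 12, 13, 14, 15, 16, 17, 18] (by decide) (by decide),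
    Equiv.Perm.mem_alternatingGroup.2 (by decide +kernel)⟩

/-- The element inverting the four cycles. -/
def inv19 : A19 :=
  ⟨p19 ![0, 6, 5, 4, 3, 2, 1, 7, 11, 10, 9, 8, 13, 12, 14, 18, 17, 16, 15]
    ![0, 6, 5, 4, 3, 2, 1, 7, 11, 10, 9, 8, 13, 12, 14, 18, 17, 16, 15] (by decide) (by decide),
    Equiv.Perm.mem_alternatingGroup.2 (by decide +kernel)⟩

/-- Monomial element number 0 of system A. -/
def genA0 : A19 :=
  ⟨p19 ![0, 3, 6, 2, 5, 1, 4, 7, 12, 11, 8, 13, 9, 10, 14, 15, 16, 17, 18]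
    ![0, 5, 3, 1, 6, 4, 2, 7, 10, 12, 13, 9, 8, 11, 14, 15, 16, 17, 18] (by decide) (by decide),
    Equiv.Perm.mem_alternatingGroup.2 (by decide +kernel)⟩

/-- Monomial element number 1 of system A. -/
def genA1 : A19 :=
  ⟨p19 ![0, 3, 6, 2, 5, 1, 4, 7, 8, 9, 10, 11, 12, 13, 14, 16, 18, 15, 17]
    ![0, 5, 3, 1, 6, 4, 2, 7, 8, 9, 10, 11, 12, 13, 14, 17, 15, 18, 16] (by decide) (by decide),
    Equiv.Perm.mem_alternatingGroup.2 (by decide +kernel)⟩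

/-- Monomial element number 2 of system A. -/
def genA2 : A19 :=
  ⟨p19 ![0, 1, 2, 3, 4, 5, 6, 7, 12, 11, 8, 13, 9, 10, 14, 16, 18, 15, 17]
    ![0, 1, 2, 3, 4, 5, 6, 7, 10, 12, 13, 9, 8, 11, 14, 17, 15, 18, 16] (by decide) (by decide),
    Equiv.Perm.mem_alternatingGroup.2 (by decide +kernel)⟩

/-- Monomial element number 3 of system A. -/
def genA3 : A19 :=
  ⟨p19 ![7, 8, 9, 12, 13, 10, 11, 0, 1, 2, 5, 6, 3, 4, 14, 16, 18, 15, 17]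
    ![7, 8, 9, 12, 13, 10, 11, 0, 1, 2, 5, 6, 3, 4, 14, 17, 15, 18, 16] (by decide) (by decide),
    Equiv.Perm.mem_alternatingGroup.2 (by decide +kernel)⟩

/-- Monomial element number 4 of system A. -/
def genA4 : A19 :=
  ⟨p19 ![0, 6, 5, 4, 3, 2, 1, 7, 8, 9, 10, 11, 12, 13, 14, 16, 18, 15, 17]
    ![0, 6, 5, 4, 3, 2, 1, 7, 8, 9, 10, 11, 12, 13, 14, 17, 15, 18, 16] (by decide) (by decide),
    Equiv.Perm.mem_alternatingGroup.2 (by decide +kernel)⟩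

/-- Monomial element number 5 of system A. -/
def genA5 : A19 :=
  ⟨p19 ![0, 1, 2, 3, 4, 5, 6, 7, 8, 9, 10, 11, 12, 13, 14, 18, 17, 16, 15]
    ![0, 1, 2, 3, 4, 5, 6, 7, 8, 9, 10, 11, 12, 13, 14, 18, 17, 16, 15] (by decide) (by decide),
    Equiv.Perm.mem_alternatingGroup.2 (by decide +kernel)⟩

/-- The pair of cycles of system A. -/
def cycA : Fin 2 → A19 := ![sevA, sevB]
/-- The monomial elements of system A. -/
def genA : Fin 6 → A19 := ![genA0, genA1, genA2, genA3, genA4, genA5]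
/-- The images of the cycles in system A. -/
def SA : Fin 6 → Fin 2 → Fin 2 := ![![0, 1], ![0, 1], ![0, 1], ![1, 0], ![0, 1], ![0, 1]]
/-- The exponents on the cycles in system A. -/
def EA : Fin 6 → Fin 2 → ℕ := ![![3, 3], ![3, 1], ![1, 3], ![1, 1], ![6, 1], ![1, 1]]
/-- The inverse exponents on the cycles in system A. -/
def EAr : Fin 6 → Fin 2 → ℕ := ![![5, 5], ![5, 1], ![1, 5], ![1, 1], ![6, 1], ![1, 1]]
/-- The exponents on the single cycle in system A. -/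
def BA : Fin 6 → ℕ := ![1, 2, 2, 2, 2, 4]
/-- The inverse exponents on the single cycle in system A. -/
def BAr : Fin 6 → ℕ := ![1, 3, 3, 3, 3, 4]
/-- The distances to the representatives in system A. -/
def rankA : List ℕ :=
  [0, 0, 2, 1, 2, 3, 1, 1, 0, 2, 1, 2, 3, 1, 3, 2, 2, 2, 3, 3, 3, 2, 1, 2, 1, 2, 3, 2, 3, 3, 4, 3, 4, 5, 5,
    4, 4, 4, 4, 5, 6, 5, 2, 2, 3, 3, 4, 4, 3, 0, 0, 2, 1, 3, 4, 3, 3, 0, 3, 3, 3, 4, 3, 4, 3, 2, 4, 4, 5, 4,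
    3, 3, 4, 1, 4, 4, 3, 4, 4, 5, 4, 5, 6, 5, 4, 4, 5, 5, 5, 6, 6, 3, 3, 5, 4, 5, 5, 3, 1, 1, 2, 1, 2, 3, 1,
    1, 1, 4, 1, 4, 4, 1, 3, 4, 3, 2, 5, 3, 3, 2, 1, 2, 2, 2, 5, 4, 4, 4, 5, 5, 5, 6, 6, 5, 5, 6, 5, 6, 7, 6,
    4, 4, 3, 5, 5, 6, 4, 2, 2, 3, 2, 3, 3, 2, 2, 2, 3, 2, 3, 3, 2, 3, 3, 4, 3, 4, 4, 3, 3, 2, 3, 3, 3, 4, 3,
    3, 3, 4, 4, 4, 5, 7, 4, 6, 5, 4, 7, 8, 5, 3, 3, 4, 4, 4, 5, 3, 1, 1, 2, 2, 2, 3, 2, 2, 1, 2, 2, 2, 5, 2,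
    3, 2, 3, 3, 3, 4, 4, 2, 2, 3, 2, 3, 3, 2, 3, 5, 4, 3, 6, 7, 6, 4, 5, 4, 6, 6, 7, 7, 2, 2, 4, 3, 6, 4, 4]

theorem sysA_ok : Sys 7 5 cycA fivA inv19 genA SA EA EAr BA BAr :=
  ⟨by decide +kernel, by decide +kernel, by decide +kernel, by decide +kernel, by decide +kernel, by decide +kernel,
    by decide +kernel, by decide +kernel⟩

theorem descA : ∀ c : Cm 7 5, c = rep (cls c) ∨ ∃ k : Fin 6,
    rk 7 rankA (mv (SA k) (EAr k) (BAr k) c) < rk 7 rankA c ∧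
      cls (mv (SA k) (EAr k) (BAr k) c) = cls c := by
  decide +kernel

theorem tabA : Tables 7 5 [[1, 4, 12, 48, 36, 144], [1, 4, 6, 24, 0, 0], [1, 4, 0, 0, 6, 24], [1, 0, 12, 0, 36, 0], [1, 0, 6, 0, 0, 0]] :=
  ⟨by decide +kernel, by decide +kernel, by decide +kernel, by decide +kernel, by decide +kernel, by decide +kernel,
    by decide +kernel, by decide +kernel⟩

/-- Monomial element number 0 of system B. -/
def genB0 : A19 :=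
  ⟨p19 ![0, 3, 6, 2, 5, 1, 4, 7, 8, 9, 10, 11, 13, 12, 14, 15, 16, 17, 18]
    ![0, 5, 3, 1, 6, 4, 2, 7, 8, 9, 10, 11, 13, 12, 14, 15, 16, 17, 18] (by decide) (by decide),
    Equiv.Perm.mem_alternatingGroup.2 (by decide +kernel)⟩

/-- Monomial element number 1 of system B. -/
def genB1 : A19 :=
  ⟨p19 ![0, 1, 2, 3, 4, 5, 6, 7, 8, 9, 10, 11, 13, 12, 14, 16, 18, 15, 17]
    ![0, 1, 2, 3, 4, 5, 6, 7, 8, 9, 10, 11, 13, 12, 14, 17, 15, 18, 16] (by decide) (by decide),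
    Equiv.Perm.mem_alternatingGroup.2 (by decide +kernel)⟩

/-- Monomial element number 2 of system B. -/
def genB2 : A19 :=
  ⟨p19 ![0, 1, 2, 3, 4, 5, 6, 7, 9, 11, 8, 10, 13, 12, 14, 15, 16, 17, 18]
    ![0, 1, 2, 3, 4, 5, 6, 7, 10, 8, 11, 9, 13, 12, 14, 15, 16, 17, 18] (by decide) (by decide),
    Equiv.Perm.mem_alternatingGroup.2 (by decide +kernel)⟩

/-- Monomial element number 3 of system B. -/
def genB3 : A19 :=
  ⟨p19 ![0, 1, 2, 3, 4, 5, 6, 14, 15, 16, 17, 18, 13, 12, 7, 8, 9, 10, 11]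
    ![0, 1, 2, 3, 4, 5, 6, 14, 15, 16, 17, 18, 13, 12, 7, 8, 9, 10, 11] (by decide) (by decide),
    Equiv.Perm.mem_alternatingGroup.2 (by decide +kernel)⟩

/-- Monomial element number 4 of system B. -/
def genB4 : A19 :=
  ⟨p19 ![0, 1, 2, 3, 4, 5, 6, 7, 8, 9, 10, 11, 12, 13, 14, 18, 17, 16, 15]
    ![0, 1, 2, 3, 4, 5, 6, 7, 8, 9, 10, 11, 12, 13, 14, 18, 17, 16, 15] (by decide) (by decide),
    Equiv.Perm.mem_alternatingGroup.2 (by decide +kernel)⟩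

/-- The pair of cycles of system B. -/
def cycB : Fin 2 → A19 := ![fivA, fivB]
/-- The monomial elements of system B. -/
def genB : Fin 5 → A19 := ![genB0, genB1, genB2, genB3, genB4]
/-- The images of the cycles in system B. -/
def SB : Fin 5 → Fin 2 → Fin 2 := ![![0, 1], ![0, 1], ![0, 1], ![1, 0], ![0, 1]]
/-- The exponents on the cycles in system B. -/
def EB : Fin 5 → Fin 2 → ℕ := ![![1, 1], ![2, 1], ![1, 2], ![1, 1], ![4, 1]]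
/-- The inverse exponents on the cycles in system B. -/
def EBr : Fin 5 → Fin 2 → ℕ := ![![1, 1], ![3, 1], ![1, 3], ![1, 1], ![4, 1]]
/-- The exponents on the single cycle in system B. -/
def BB : Fin 5 → ℕ := ![3, 1, 1, 1, 1]
/-- The inverse exponents on the single cycle in system B. -/
def BBr : Fin 5 → ℕ := ![5, 1, 1, 1, 1]
/-- The distances to the representatives in system B. -/
def rankB : List ℕ :=
  [0, 0, 1, 2, 1, 1, 0, 1, 2, 1, 2, 1, 2, 3, 2, 3, 3, 4, 5, 5, 3, 2, 3, 4, 3, 0, 0, 1, 2, 1, 1, 0, 1, 2, 1,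
    2, 1, 2, 3, 2, 3, 3, 4, 5, 5, 3, 2, 3, 4, 3, 2, 2, 3, 4, 3, 3, 2, 3, 4, 3, 4, 3, 4, 5, 4, 5, 5, 6, 7, 7,
    5, 4, 5, 6, 5, 1, 1, 2, 3, 2, 2, 1, 2, 3, 2, 3, 2, 3, 4, 3, 4, 4, 5, 6, 6, 4, 3, 4, 5, 4, 4, 4, 5, 6, 5,
    5, 4, 5, 6, 5, 6, 5, 6, 7, 6, 7, 7, 8, 9, 9, 7, 6, 7, 8, 7, 5, 5, 6, 7, 6, 6, 5, 6, 7, 6, 7, 6, 7, 8, 7,
    8, 8, 9, 10, 10, 8, 7, 8, 9, 8, 3, 3, 4, 5, 4, 4, 3, 4, 5, 4, 5, 4, 5, 6, 5, 6, 6, 7, 8, 8, 6, 5, 6, 7, 6]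

theorem sysB_ok : Sys 5 7 cycB sevA inv19 genB SB EB EBr BB BBr :=
  ⟨by decide +kernel, by decide +kernel, by decide +kernel, by decide +kernel, by decide +kernel, by decide +kernel,
    by decide +kernel, by decide +kernel⟩

theorem descB : ∀ c : Cm 5 7, c = rep (cls c) ∨ ∃ k : Fin 5,
    rk 5 rankB (mv (SB k) (EBr k) (BBr k) c) < rk 5 rankB c ∧
      cls (mv (SB k) (EBr k) (BBr k) c) = cls c := by
  decide +kernel

theorem tabB : Tables 5 7 [[1, 6, 8, 48, 16, 96], [1, 6, 4, 24, 0, 0], [1, 6, 0, 0, 4, 24], [1, 0, 8, 0, 16, 0], [1, 0, 4, 0, 0, 0]] :=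
  ⟨by decide +kernel, by decide +kernel, by decide +kernel, by decide +kernel, by decide +kernel, by decide +kernel,
    by decide +kernel, by decide +kernel⟩

end Cfsg.Lib.Chev.E8Alt
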