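import Cfsg.Agent.Lib.Chev.E8Alt.Mixed
import Cfsg.Agent.Lib.Chev.E8Alt.MixedPerms

/-!
No alternating section of degree nineteen in E8 away from characteristics five and seven: two seven-cycles with
a five-cycle, and two five-cycles with a seven-cycle, have incompatible multiplicities.
-/

set_option autoImplicit false
set_option linter.unusedSectionVars false
set_option maxRecDepth 100000
set_option maxHeartbeats 1000000

namespace Cfsg.Lib.Chev.E8Alt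

open Module Cfsg.Lie Cfsg.Lib.Linear.AltDeg Cfsg.Lib.Chev.AltSection

theorem genA_eq_genB : genA 5 = genB 4 := by decide +kernel

theorem fix_index : SA 5 0 = 0 ∧ EA 5 0 = 1 ∧ BA 5 = 4 ∧ SB 4 0 = 0 ∧ EB 4 0 = 4 ∧ BB 4 = 1 := by decide +kernel

/-- The multiplicities of the two systems are incompatible. -/
theorem counts_incompatible (a b c d e f a' b' c' d' e' f' : ℕ)
    (h0 : a + 4 * b + 12 * c + 48 * d + 36 * e + 144 * f = 248)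
    (h0' : a' + 6 * b' + 8 * c' + 48 * d' + 16 * e' + 96 * f' = 248)
    (h1 : a + 4 * b + 6 * c + 24 * d = 38 ∨ a + 4 * b + 6 * c + 24 * d = 80)
    (h2 : a + 4 * b + 6 * e + 24 * f = 38 ∨ a + 4 * b + 6 * e + 24 * f = 80)
    (h2' : a' + 6 * b' + 4 * e' + 24 * f' = 48 ∨ a' + 6 * b' + 4 * e' + 24 * f' = 52 ∨
      a' + 6 * b' + 4 * e' + 24 * f' = 68)
    (h3 : a + 12 * c + 36 * e = 48 ∨ a + 12 * c + 36 * e = 52 ∨ a + 12 * c + 36 * e = 68)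
    (l1 : a' + 8 * c' + 16 * e' = a + 4 * b + 6 * c + 24 * d)
    (l2 : a' + 6 * b' + 4 * c' + 24 * d' = a + 12 * c + 36 * e)
    (l3 : a' + 4 * c' = a + 6 * c) : False := by omega

variable {F : Type*} [Field F] [Finite F]

/-- No section of degree nineteen. -/
theorem no_A19 (h5 : (5 : F) ≠ 0) (h7 : (7 : F) ≠ 0) (hq : Nat.card F % (5 ^ 3 * 7 ^ 2) = 1) {ζ η : F}
    (hζ : IsPrimitiveRoot ζ 7) (hη : IsPrimitiveRoot η 5) {H₀ : Type*} [Group H₀] [Finite H₀] (f₀ : H₀ →* E8G F)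
    (hf₀ : Function.Injective f₀) (π₀ : H₀ →* A19) (hπ₀ : Function.Surjective π₀) : False := by
  classical
  haveI : Fact (Nat.Prime 5) := ⟨by norm_num⟩
  haveI : Fact (Nat.Prime 7) := ⟨by norm_num⟩
  have h5' : ((5 : ℕ) : F) ≠ 0 := by exact_mod_cast h5
  have h7' : ((7 : ℕ) : F) ≠ 0 := by exact_mod_cast h7
  have hq5 : Nat.card F % 5 ^ 3 = 1 := by
    rw [← Nat.mod_mod_of_dvd _ (Dvd.intro (7 ^ 2) rfl), hq]; norm_num
  have hq7 : Nat.card F % 7 ^ 2 = 1 := by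
    rw [← Nat.mod_mod_of_dvd _ (Dvd.intro_left (5 ^ 3) rfl), hq]; norm_num
  obtain ⟨L, hπ, hmin⟩ := exists_cover' π₀ hπ₀
  set π := π₀.comp L.subtype
  let f := f₀.comp L.subtype
  have hf : Function.Injective f := hf₀.comp L.subtype_injective
  let ρ : ↥L →* GL chevE8.Idx F := rep8 f
  have hgrp : ∀ a : ↥L, ρ a ∈ chevE8.group F := fun a => (f a).2
  have hZ5 : CentralPart 5 π := central_part (q₀ := 7) (by norm_num) (by norm_num) (by norm_num) (by norm_num)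
    (a := 2) (by norm_num) hq5 hη (by norm_num) hf π hπ hmin
  have hZ7 : CentralPart 7 π := central_part (q₀ := 5) (by norm_num) (by norm_num) (by norm_num) (by norm_num)
    (a := 1) (by norm_num) hq7 hζ (by norm_num) hf π hπ hmin
  obtain ⟨xA, yA, gA, hgA, hxA, ⟨hyAπ, hyA, hyAg⟩, ⟨hAxx, hAxy⟩, hwA⟩ :=
    exists_mixed hπ hZ7 hZ5 (by norm_num) (by norm_num) (by norm_num) sysA_ok
  obtain ⟨xB, yB, gB, hgB, hxB, ⟨hyBπ, hyB, hyBg⟩, ⟨hBxx, hBxy⟩, hwB⟩ :=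
    exists_mixed hπ hZ5 hZ7 (by norm_num) (by norm_num) (by norm_num) sysB_ok
  obtain ⟨MA, hA0, hA1, hA2, hA3, hA4, eA1, eA2, eA3⟩ := mixed_dims ρ hζ hη h7' h5' xA yA (fun i => (hxA i).2.1)
    hyA hAxx hAxy sysA_ok.inj sysA_ok.unit (fun j => (hwA j).imp fun w h => h.2) descA tabA
  obtain ⟨MB, hB0, hB1, hB2, hB3, hB4, eB1, eB2, eB3⟩ := mixed_dims ρ hη hζ h5' h7' xB yB (fun i => (hxB i).2.1)
    hyB hBxx hBxy sysB_ok.inj sysB_ok.unit (fun j => (hwB j).imp fun w h => h.2) descB tabB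
  have hne : ∀ {u : ↥L} {s : A19}, π u = s → s ≠ 1 → ρ u ≠ 1 := fun hu hs => rep8_ne_one hf π (by rw [hu]; exact hs)
  have sA1 := seven_bound hζ h7 hq7 (hgrp (xA 0)) (by rw [← map_pow, (hxA 0).2.1, map_one])
    (hne (hxA 0).1 (sysA_ok.ne.1 0)) eA1
  have sA2 := seven_bound hζ h7 hq7 (hgrp (xA 0 * xA 1))
    (by rw [← map_pow, (show Commute (xA 0) (xA 1) from hAxx 0 1).mul_pow, (hxA 0).2.1, (hxA 1).2.1, one_mul,
      map_one])
    (hne (by rw [map_mul, (hxA 0).1, (hxA 1).1]) sysA_ok.ne.2.2) eA2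
  have sA3 := five_bound hη h5 hq5 (hgrp yA) (by rw [← map_pow, hyA, map_one]) (hne hyAπ sysA_ok.ne.2.1) eA3
  have sB2 := five_bound hη h5 hq5 (hgrp (xB 0 * xB 1))
    (by rw [← map_pow, (show Commute (xB 0) (xB 1) from hBxx 0 1).mul_pow, (hxB 0).2.1, (hxB 1).2.1, one_mul,
      map_one])
    (hne (by rw [map_mul, (hxB 0).1, (hxB 1).1]) sysB_ok.ne.2.2) eB2
  -- the lifts of the common cycles are conjugate
  obtain ⟨c, hc, hcx⟩ := inverted_conj (π := π) hZ7 (by norm_num) (hgA.trans hgB.symm)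
    (show π (xA 0) = π yB by rw [(hxA 0).1, hyBπ]; rfl) (hxA 0).2.1 hyB (hxA 0).2.2 hyBg
  obtain ⟨wA, hwAπ, hwAx, hwAy⟩ := hwA 5
  obtain ⟨wB, hwBπ, hwBx, hwBy⟩ := hwB 4
  obtain ⟨iS, iE, iB, iS', iE', iB'⟩ := fix_index
  have hAfix : wA * xA 0 * wA⁻¹ = xA 0 := by rw [hwAx 0, iS, iE, pow_one]
  have hAinv : wA * yA * wA⁻¹ = yA⁻¹ := by
    rw [hwAy, iB]; exact eq_inv_of_mul_eq_one_left (by rw [← pow_succ, hyA])
  have hBfix : wB * yB * wB⁻¹ = yB := by rw [hwBy, iB', pow_one]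
  have hBinv : wB * xB 0 * wB⁻¹ = (xB 0)⁻¹ := by
    rw [hwBx 0, iS', iE']; exact eq_inv_of_mul_eq_one_left (by rw [← pow_succ, (hxB 0).2.1])
  let C : Subgroup ↥L := Subgroup.centralizer {yB}
  have hmemC : ∀ {u : ↥L}, u * yB * u⁻¹ = yB → u ∈ C := fun hu =>
    Subgroup.mem_centralizer_singleton_iff.2 (mul_inv_eq_iff_eq_mul.1 hu)
  have hwC : c * wA * c⁻¹ ∈ C := hmemC (by
    rw [← hcx, show c * wA * c⁻¹ * (c * xA 0 * c⁻¹) * (c * wA * c⁻¹)⁻¹ = c * (wA * xA 0 * wA⁻¹) * c⁻¹ by group,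
      hAfix])
  have hyC : c * yA * c⁻¹ ∈ C := hmemC (by
    rw [← hcx, show c * yA * c⁻¹ * (c * xA 0 * c⁻¹) * (c * yA * c⁻¹)⁻¹ = c * (yA * xA 0 * yA⁻¹) * c⁻¹ by group,
      ← hAxy 0, mul_inv_cancel_right])
  have hxC : xB 0 ∈ C := hmemC (by rw [hBxy 0, mul_inv_cancel_right])
  have hπc : π c = 1 := MonoidHom.mem_ker.1 hc
  have hπconj : ∀ u, π (c * u * c⁻¹) = π u := fun u => by
    rw [map_mul, map_mul, map_inv, hπc, one_mul, inv_one, mul_one]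
  obtain ⟨d, hd, hdy⟩ := inverted_conj (π := π.comp C.subtype) (hZ5.restrict C) (by norm_num)
    (h := ⟨_, hwC⟩) (h' := ⟨wB, hmemC hBfix⟩) (x := ⟨_, hyC⟩) (x' := ⟨xB 0, hxC⟩)
    (show π (c * wA * c⁻¹) = π wB by rw [hπconj, hwAπ, hwBπ]; exact genA_eq_genB)
    (show π (c * yA * c⁻¹) = π (xB 0) by rw [hπconj, hyAπ, (hxB 0).1]; rfl)
    (Subtype.ext (show (c * yA * c⁻¹) ^ 5 = 1 by rw [conj_pow, hyA, mul_one, mul_inv_cancel]))
    (Subtype.ext (hxB 0).2.1)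
    (Subtype.ext (show c * wA * c⁻¹ * (c * yA * c⁻¹) * (c * wA * c⁻¹)⁻¹ = (c * yA * c⁻¹)⁻¹ by
      rw [show c * wA * c⁻¹ * (c * yA * c⁻¹) * (c * wA * c⁻¹)⁻¹ = c * (wA * yA * wA⁻¹) * c⁻¹ by group, hAinv,
        conj_inv]))
    (Subtype.ext hBinv)
  have hdy' : (d : ↥L) * (c * yA * c⁻¹) * (d : ↥L)⁻¹ = xB 0 := congrArg Subtype.val hdy
  have hdx : ((d : ↥L) * c) * xA 0 * ((d : ↥L) * c)⁻¹ = yB := by
    rw [show ((d : ↥L) * c) * xA 0 * ((d : ↥L) * c)⁻¹ = (d : ↥L) * (c * xA 0 * c⁻¹) * (d : ↥L)⁻¹ by group, hcx,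
      Subgroup.mem_centralizer_singleton_iff.1 d.2, mul_inv_cancel_right]
  have hdy'' : ((d : ↥L) * c) * yA * ((d : ↥L) * c)⁻¹ = xB 0 := by rw [← hdy']; group
  have k1 := finrank_op_conj ρ (ζ := ζ) ((d : ↥L) * c) (xA 0) (0 : ZMod 7)
  have k2 := finrank_op_conj ρ (ζ := η) ((d : ↥L) * c) yA (0 : ZMod 5)
  have k3 := finrank_pair_conj ρ (ζ := ζ) (ζ' := η) ((d : ↥L) * c) (xA 0) yA (0 : ZMod 7) (0 : ZMod 5)
  rw [hdx, hB3, hA1] at k1
  rw [hdy'', hB1, hA3] at k2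
  rw [hdx, hdy'', inf_comm, hB4, hA4] at k3
  simp only [List.mem_cons, List.not_mem_nil, or_false] at sA1 sA2 sA3 sB2
  change _ = 38 ∨ _ at sA1
  simp only [Fin.sum_univ_six] at hA0 hA1 hA2 hA3 hB0 hB2 k1 k2 k3
  norm_num [ent] at hA0 hA1 hA2 hA3 hB0 hB2 k1 k2 k3
  refine counts_incompatible (MA 0) (MA 1) (MA 2) (MA 3) (MA 4) (MA 5) (MB 0) (MB 1) (MB 2) (MB 3) (MB 4) (MB 5)
    hA0 hB0 ?_ ?_ ?_ ?_ k1 k2 k3
  · rw [← hA1]; exact sA1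
  · rw [← hA2]; exact sA2
  · rw [← hB2]; exact sB2
  · rw [← hA3]; exact sA3

end Cfsg.Lib.Chev.E8Alt
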