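import Cfsg.Agent.Lib.Chev.E8Alt.Three
import Cfsg.Agent.Lib.Chev.E8Alt.Nineteen
import Cfsg.Agent.Lib.Chev.AltSection.Section
import Cfsg.Agent.Lib.Chev.AltSection.Torus

/-!
Alternating sections of the groups of type E8: none of degree eighteen in characteristic other than three and
none of degree nineteen.
-/

set_option autoImplicit false
set_option linter.unusedSectionVars false
set_option maxRecDepth 100000

namespace Cfsg.Lib.Chev.E8Alt

open Cfsg.Lie Cfsg.Lib.Chev.AltSection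

theorem exists_primitive {E : Type*} [Field E] [Finite E] {n : ℕ} (hn : 1 < n) (hq : Nat.card E % n = 1) :
    ∃ ζ : E, IsPrimitiveRoot ζ n := by
  haveI : Fintype E := Fintype.ofFinite E
  have hdvd : n ∣ Nat.card Eˣ := by
    rw [Nat.card_units]
    refine (Nat.modEq_iff_dvd' Nat.card_pos).1 ?_
    rw [Nat.ModEq, hq, Nat.one_mod_eq_one.2 (by omega)]
  obtain ⟨u, hu⟩ := IsCyclic.exists_ofOrder_eq_natCard (α := Eˣ)
  obtain ⟨m, hm⟩ := hdvd
  have hm0 : m ≠ 0 := by
    rintro rfl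
    rw [mul_zero] at hm
    exact absurd hm Nat.card_pos.ne'
  refine ⟨((u ^ m : Eˣ) : E), IsPrimitiveRoot.coe_units_iff.2 (IsPrimitiveRoot.iff_orderOf.2 ?_)⟩
  rw [orderOf_pow' u hm0, hu, hm, Nat.gcd_mul_left_left, Nat.mul_div_cancel _ (Nat.pos_of_ne_zero hm0)]

theorem natCast_prime_ne_zero {E : Type*} [Field E] {ℓ : ℕ} [NeZero ℓ] {ζ : E} (hζ : IsPrimitiveRoot ζ ℓ) :
    (ℓ : E) ≠ 0 := NeZero.ne' (ℓ : E) (h := hζ.neZero') |>.symm

variable {F : Type*} [Field F] [Fintype F]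

/-- The bound on the degree of an alternating section. -/
theorem degree_bound (p : ℕ) [Fact p.Prime] [CharP F p] (r : ℕ) {H : Type*} [Group H] [Finite H]
    (f : H →* E8G F) (hf : Function.Injective f) (π : H →* ↥(alternatingGroup (Fin r)))
    (hπ : Function.Surjective π) : r ≤ 17 + (if p = 3 then 1 else 0) := by
  by_contra hlt
  obtain ⟨k, hp', hkF⟩ := FiniteField.card F p
  by_cases h : p = 3
  · subst h
    rw [if_pos rfl] at hlt
    obtain ⟨H', π', hπ'⟩ := exists_subsection (m := 19) (by omega) π hπ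
    obtain ⟨E, _, _, g, hg, hE⟩ := exists_extension (D := chevE8) certE8 3 2100 (F := F)
    have hq : Nat.card E % (5 ^ 3 * 7 ^ 2) = 1 := by
      rw [hE, Nat.card_eq_fintype_card, hkF, ← pow_mul, mul_comm, pow_mul, Nat.pow_mod,
        show (3 ^ 2100 : ℕ) % (5 ^ 3 * 7 ^ 2) = 1 by decide +kernel, one_pow, Nat.one_mod_eq_one.2 (by norm_num)]
    have hq7 : Nat.card E % 7 = 1 := by
      rw [← Nat.mod_mod_of_dvd _ (show 7 ∣ 5 ^ 3 * 7 ^ 2 by norm_num), hq]
    have hq5 : Nat.card E % 5 = 1 := by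
      rw [← Nat.mod_mod_of_dvd _ (show 5 ∣ 5 ^ 3 * 7 ^ 2 by norm_num), hq]
    obtain ⟨ζ, hζ⟩ := exists_primitive (E := E) (by norm_num : 1 < 7) hq7
    obtain ⟨η, hη⟩ := exists_primitive (E := E) (by norm_num : 1 < 5) hq5
    exact no_A19 (by exact_mod_cast natCast_prime_ne_zero hη) (by exact_mod_cast natCast_prime_ne_zero hζ) hq hζ hη
      (g.comp (f.comp H'.subtype)) (hg.comp (hf.comp H'.subtype_injective)) π' hπ'
  · rw [if_neg h] at hlt
    obtain ⟨H', π', hπ'⟩ := exists_subsection (m := 18) (by omega) π hπ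
    obtain ⟨E, _, _, g, hg, hE⟩ := exists_extension (D := chevE8) certE8 p 486 (F := F)
    have hq : Nat.card E % 3 ^ 6 = 1 := by
      rw [hE, Nat.card_eq_fintype_card, hkF, show (486 : ℕ) = Nat.totient (3 ^ 6) by
        rw [Nat.totient_prime_pow (by norm_num) (by norm_num)]; norm_num]
      exact Nat.ModEq.pow_totient
        (Nat.Coprime.pow _ _ ((Nat.coprime_primes hp' (by norm_num : Nat.Prime 3)).2 h))
    have hq3 : Nat.card E % 3 = 1 := by rw [← Nat.mod_mod_of_dvd _ (show 3 ∣ 3 ^ 6 by norm_num), hq]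
    obtain ⟨ζ, hζ⟩ := exists_primitive (E := E) (by norm_num : 1 < 3) hq3
    exact no_A18 (by exact_mod_cast natCast_prime_ne_zero hζ) hq hζ
      (g.comp (f.comp H'.subtype)) (hg.comp (hf.comp H'.subtype_injective)) π' hπ'

end Cfsg.Lib.Chev.E8Alt
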