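import Cfsg.Agent.Lib.Chev.E8Alt.Check
import Cfsg.Agent.Lib.Chev.CertE8


/-! Certificates for the classes of Weyl group elements of order three, five and seven in type E8. -/

set_option autoImplicit false
set_option maxRecDepth 100000

namespace Cfsg.Lib.Chev.E8Alt

open Cfsg.Lie

/-- Certificate 0 for order 3. -/
def d3_0 : MonoData :=
  { w := [0, 2]
    Fx := [0, 1, 2, 3, 4, 26, 27, 28, 29, 30, 31, 32, 33, 34, 35, 36, 37, 38, 39, 40, 41, 42, 43, 44, 45, 98, 110, 111, 112, 113, 114, 115, 116, 117, 118, 119, 120, 121, 122, 123, 124, 125, 126, 127, 128, 129, 141, 194, 195, 196, 197, 198, 199, 200, 201, 202, 203, 204, 205, 206, 207, 208, 209, 210, 211, 212, 213, 235, 236, 237, 238, 239]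
    R := [5, 7, 9, 10, 11, 12, 13, 46, 47, 48, 49, 50, 51, 52, 53, 54, 55, 66, 67, 68, 69, 70, 71, 72, 73, 74, 75, 76, 77, 130, 131, 132, 133, 134, 142, 143, 144, 145, 146, 152, 153, 154, 155, 156, 157, 158, 159, 160, 161, 214, 215, 216, 217, 218, 224, 225]
    U := [[0, 1, 0, 0, 0, 0, 0, 0], [1, 0, 2, 3, 0, 0, 0, 0], [0, 0, 0, 0, 1, 0, 0, 0], [0, 0, 0, 0, 0, 1, 0, 0], [0, 0, 0, 0, 0, 0, 1, 0], [0, 0, 0, 0, 0, 0, 0, 1]]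
    G := [[1, 0, 0, 0, 0, 0, 0, 0]]
    e := 1
    cu := [[0, 0, 0, 0, 0, 0]]
    ck := [[0, 0, 0, 0, 0, 0, 3, 0, 0], [3, 0, 0, 0, 0, 0, 0, 0, 0], [0, 0, 0, 0, 0, 0, 0, 3, 0], [0, 1, 0, 0, 0, 0, -1, -2, 0], [0, 0, 3, 0, 0, 0, 0, 0, 0], [0, 0, 0, 3, 0, 0, 0, 0, 0], [0, 0, 0, 0, 3, 0, 0, 0, 0], [0, 0, 0, 0, 0, 3, 0, 0, 0]] }
/-- The coefficients of certificate 0 for order 3. -/
def coef3_0 : List (List ℤ) := [[-2, -3, -2, -1, -1, -2], [-1, -3, -2, -1, -1, -2], [-1, -2, -2, -1, -1, -2], [-1, -2, -1, -1, -1, -2], [-1, -2, -1, 0, -1, -2], [-1, -2, -2, -1, -1, -1], [-1, -2, -1, -1, -1, -1], [-1, -1, -1, -1, -1, -1], [0, -1, -1, -1, -1, -1], [-1, -2, -1, 0, -1, -1], [-1, -1, -1, 0, -1, -1], [0, -1, -1, 0, -1, -1], [-1, -1, 0, 0, -1, -1], [0, -1, 0, 0, -1, -1], [0, 0, 0, 0, -1, -1], [-1, -2, -2, -1, 0, -1], [-1,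 -2, -1, -1, 0, -1], [-1, -1, -1, -1, 0, -1], [0, -1, -1, -1, 0, -1], [-1, -2, -1, 0, 0, -1], [-1, -1, -1, 0, 0, -1], [0, -1, -1, 0, 0, -1], [-1, -1, 0, 0, 0, -1], [0, -1, 0, 0, 0, -1], [0, 0, 0, 0, 0, -1], [0, 0, 0, 0, -1, 0], [-1, -1, -1, -1, 0, 0], [0, -1, -1, -1, 0, 0], [0, 0, -1, -1, 0, 0], [0, 0, 0, -1, 0, 0], [-1, -1, -1, 0, 0, 0], [0, -1, -1, 0, 0, 0], [0, 0, -1, 0, 0, 0], [-1, -1, 0, 0, 0, 0], [0, -1, 0, 0, 0, 0], [-1, 0, 0, 0, 0, 0], [1, 0, 0, 0, 0, 0], [0, 1, 0, 0, 0, 0], [1, 1, 0, 0, 0, 0], [0, 0, 1, 0, 0, 0], [0, 1, 1, 0, 0, 0], [1, 1, 1, 0, 0, 0], [0, 0, 0, 1, 0, 0], [0, 0, 1, 1, 0, 0], [0, 1, 1, 1, 0, 0], [1, 1, 1, 1, 0, 0], [0, 0, 0, 0, 1, 0], [0, 0, 0, 0, 0, 1], [0, 1, 0, 0, 0, 1], [1, 1, 0, 0, 0, 1], [0, 1, 1, 0, 0, 1], [1, 1, 1, 0, 0, 1], [1, 2, 1, 0, 0, 1], [0, 1, 1, 1, 0, 1], [1, 1, 1,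 1, 0, 1], [1, 2, 1, 1, 0, 1], [1, 2, 2, 1, 0, 1], [0, 0, 0, 0, 1, 1], [0, 1, 0, 0, 1, 1], [1, 1, 0, 0, 1, 1], [0, 1, 1, 0, 1, 1], [1, 1, 1, 0, 1, 1], [1, 2, 1, 0, 1, 1], [0, 1, 1, 1, 1, 1], [1, 1, 1, 1, 1, 1], [1, 2, 1, 1, 1, 1], [1, 2, 2, 1, 1, 1], [1, 2, 1, 0, 1, 2], [1, 2, 1, 1, 1, 2], [1, 2, 2, 1, 1, 2], [1, 3, 2, 1, 1, 2], [2, 3, 2, 1, 1, 2]]
theorem d3_0_ok : chkMono chevE8 tblE8 3 d3_0 = true := by decide +kernel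
theorem d3_0_coef : chkCoef chevE8 tblE8 d3_0 [120, 121, 123, 126, 141, 194] coef3_0 = true := by decide +kernel
theorem d3_0_val : chkValues 3 [80, 82, 84, 86, 88, 92, 102, 134] (d3_0.U.length + d3_0.R.length) (d3_0.G.length + d3_0.R.length) [120, 121, 123, 126, 141, 194] coef3_0 = true := by decide +kernel

/-- Certificate 1 for order 3. -/
def d3_1 : MonoData :=
  { w := [4, 5, 0, 2]
    Fx := [0, 1, 35, 45, 98, 119, 120, 141, 194, 204, 238, 239]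
    R := [2, 5, 7, 9, 10, 11, 12, 13, 26, 28, 29, 36, 38, 39, 46, 47, 48, 49, 50, 51, 52, 53, 54, 55, 66, 67, 68, 69, 70, 71, 72, 73, 74, 75, 76, 77, 110, 111, 112, 113, 121, 122, 130, 131, 132, 133, 134, 142, 143, 144, 145, 146, 152, 153, 154, 155, 156, 157, 158, 159, 160, 161, 195, 196, 199, 205, 206, 209, 214, 215, 216, 217, 218, 224, 225, 235]
    U := [[0, 1, 0, 0, 0, 0, 0, 0], [1, 0, 2, 3, 2, 1, 0, 0], [-2, 0, -4, -6, -3, 0, 3, 0], [0, 0, 0, 0, 0, 0, 0, 1]]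
    G := [[1, 0, 0, 0, 0, 0, 0, 0], [0, 0, 0, 0, 1, 0, 0, 0]]
    e := 1
    cu := [[0, 0, 0, 0], [0, 0, 0, 0]]
    ck := [[0, 0, 0, 0, 3, 0, 0, 0, 0, 0], [3, 0, 0, 0, 0, 0, 0, 0, 0, 0], [0, 0, 0, 0, 0, 3, 0, 0, 0, 0], [0, 1, 0, 0, -1, -2, 0, -2, -1, 0], [0, 0, 0, 0, 0, 0, 0, 3, 0, 0], [0, 0, 0, 0, 0, 0, 0, 0, 3, 0], [0, 2, 1, 0, 0, 0, 0, -1, -2, 0], [0, 0, 0, 3, 0, 0, 0, 0, 0, 0]] }
/-- The coefficients of certificate 1 for order 3. -/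
def coef3_1 : List (List ℤ) := [[-1, 0, 0, -1], [0, 0, 0, -1], [0, -1, -1, 0], [0, 0, -1, 0], [0, -1, 0, 0], [-1, 0, 0, 0], [1, 0, 0, 0], [0, 1, 0, 0], [0, 0, 1, 0], [0, 1, 1, 0], [0, 0, 0, 1], [1, 0, 0, 1]]
theorem d3_1_ok : chkMono chevE8 tblE8 3 d3_1 = true := by decide +kernel
theorem d3_1_coef : chkCoef chevE8 tblE8 d3_1 [120, 141, 194, 238] coef3_1 = true := by decide +kernel
theorem d3_1_val : chkValues 3 [80, 82, 84, 86, 88, 92, 102, 134] (d3_1.U.length + d3_1.R.length) (d3_1.G.length + d3_1.R.length) [120, 141, 194, 238] coef3_1 = true := by decide +kernel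

/-- Certificate 2 for order 3. -/
def d3_2 : MonoData :=
  { w := [6, 5, 4, 3, 2, 1, 3, 4, 5, 6, 0, 2, 3, 4, 5, 1, 3, 4, 2, 3, 0, 2, 1, 3, 4, 5, 6, 7, 6, 5, 4, 3, 2, 1, 3, 4, 5, 6, 0, 2, 3, 4, 5, 1, 3, 4, 2, 3, 0, 2, 1, 3, 4, 5, 6, 7, 4, 5, 0, 2]
    Fx := [35, 45, 98, 141, 194, 204]
    R := [0, 1, 2, 3, 4, 5, 6, 7, 8, 9, 10, 11, 12, 13, 14, 15, 16, 17, 18, 20, 21, 22, 23, 26, 27, 28, 29, 30, 32, 36, 37, 38, 39, 40, 42, 46, 47, 48, 49, 50, 51, 52, 53, 54, 55, 56, 57, 59, 62, 66, 67, 68, 69, 70, 71, 72, 73, 74, 75, 76, 77, 78, 89, 100, 110, 111, 112, 113, 115, 130, 131, 132, 142, 143, 144, 152, 153, 156]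
    U := [[0, 1, 0, 0, 0, 0, 0, 0], [1, 0, 2, 3, 2, 1, 0, 0]]
    G := [[1, 0, 0, 0, 0, 0, 0, 0], [0, 0, 0, 0, 1, 0, 0, 0], [0, 0, 0, 0, 0, 0, 0, 1]]
    e := 1
    cu := [[0, 0], [0, 0], [0, 0]]
    ck := [[0, 0, 3, 0, 0, 0, 0, 0, 0, 0, 0], [3, 0, 0, 0, 0, 0, 0, 0, 0, 0, 0], [0, 0, 0, 3, 0, 0, 0, 0, 0, 0, 0], [0, 1, -1, -2, 0, -2, -1, 0, 0, 0, 0], [0, 0, 0, 0, 0, 3, 0, 0, 0, 0, 0], [0, 0, 0, 0, 0, 0, 3, 0, 0, 0, 0], [-3, -2, 0, 0, 0, -1, -2, 0, -2, -1, 0], [0, 0, 0, 0, 0, 0, 0, 0, 3, 0, 0]] }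
/-- The coefficients of certificate 2 for order 3. -/
def coef3_2 : List (List ℤ) := [[-1, -1], [0, -1], [-1, 0], [1, 0], [0, 1], [1, 1]]
theorem d3_2_ok : chkMono chevE8 tblE8 3 d3_2 = true := by decide +kernel
theorem d3_2_coef : chkCoef chevE8 tblE8 d3_2 [141, 194] coef3_2 = true := by decide +kernel
theorem d3_2_val : chkValues 3 [80, 82, 84, 86, 88, 92, 102, 134] (d3_2.U.length + d3_2.R.length) (d3_2.G.length + d3_2.R.length) [141, 194] coef3_2 = true := by decide +kernel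

/-- Certificate 3 for order 3. -/
def d3_3 : MonoData :=
  { w := [6, 5, 4, 3, 2, 1, 3, 4, 5, 6, 0, 2, 3, 4, 5, 1, 3, 4, 2, 3, 0, 2, 1, 3, 4, 5, 6, 7, 6, 5, 4, 3, 2, 1, 3, 4, 5, 6, 0, 2, 3, 4, 5, 1, 3, 4, 2, 3, 0, 2, 1, 3, 4, 5, 6, 7, 4, 5, 1, 3, 4, 2, 3, 0, 2, 1, 3, 4, 5, 4, 3, 2, 1, 3, 4, 0, 2, 3, 0, 2]
    Fx := []
    R := [0, 1, 2, 3, 4, 5, 6, 7, 8, 9, 10, 11, 12, 13, 14, 15, 16, 17, 18, 19, 20, 21, 22, 23, 24, 25, 26, 27, 28, 29, 30, 31, 32, 33, 34, 35, 36, 37, 39, 40, 42, 44, 45, 46, 47, 48, 49, 50, 51, 52, 53, 54, 55, 56, 57, 59, 61, 62, 64, 65, 66, 68, 69, 70, 72, 73, 74, 75, 76, 77, 78, 83, 86, 87, 90, 91, 92, 93, 112, 113]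
    U := []
    G := [[1, 0, 0, 0, 0, 0, 0, 0], [0, 0, 0, 0, 1, 0, 0, 0], [0, 0, 0, 0, 0, 0, 0, 1], [-1, -2, -2, -3, -2, -1, 0, 0]]
    e := 1
    cu := [[], [], [], []]
    ck := [[3, 0, 0, 0, 0, 0, 0, 0, 0, 0, 0, 0], [0, 0, 0, 0, 0, 0, 0, 0, 0, 0, 3, 0], [0, 3, 0, 0, 0, 0, 0, 0, 0, 0, 0, 0], [-1, -2, 0, -2, -1, 0, 0, 0, 0, -1, -2, 0], [0, 0, 0, 3, 0, 0, 0, 0, 0, 0, 0, 0], [0, 0, 0, 0, 3, 0, 0, 0, 0, 0, 0, 0], [0, 0, 0, -1, -2, 0, -2, -1, 0, 2, 1, 0], [0, 0, 0, 0, 0, 0, 3, 0, 0, 0, 0, 0]] }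
/-- The coefficients of certificate 3 for order 3. -/
def coef3_3 : List (List ℤ) := []
theorem d3_3_ok : chkMono chevE8 tblE8 3 d3_3 = true := by decide +kernel
theorem d3_3_coef : chkCoef chevE8 tblE8 d3_3 [] coef3_3 = true := by decide +kernel
theorem d3_3_val : chkValues 3 [80, 82, 84, 86, 88, 92, 102, 134] (d3_3.U.length + d3_3.R.length) (d3_3.G.length + d3_3.R.length) [] coef3_3 = true := by decide +kernel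

/-- Certificate 0 for order 5. -/
def d5_0 : MonoData :=
  { w := [0, 2, 3, 1]
    Fx := [0, 1, 2, 3, 114, 115, 116, 117, 118, 119, 120, 121, 122, 123, 124, 125, 236, 237, 238, 239]
    R := [4, 5, 10, 11, 12, 13, 30, 31, 32, 33, 34, 35, 52, 53, 54, 55, 62, 63, 64, 65, 70, 75, 76, 77, 126, 127, 128, 129, 131, 132, 133, 134, 156, 157, 158, 159, 160, 161, 200, 201, 202, 203, 218, 223]
    U := [[2, 3, 4, 6, 5, 0, 0, 0], [0, 0, 0, 0, 0, 1, 0, 0], [0, 0, 0, 0, 0, 0, 1, 0], [0, 0, 0, 0, 0, 0, 0, 1]]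
    G := [[1, 0, 0, 0, 0, 0, 0, 0]]
    e := 1
    cu := [[0, 0, 0, 0]]
    ck := [[0, 0, 0, 0, 5, 0, 0, 0, 0], [0, 0, 0, 0, 0, 0, 0, 5, 0], [0, 0, 0, 0, 0, 5, 0, 0, 0], [0, 0, 0, 0, 0, 0, 5, 0, 0], [1, 0, 0, 0, -2, -4, -6, -3, 0], [0, 5, 0, 0, 0, 0, 0, 0, 0], [0, 0, 5, 0, 0, 0, 0, 0, 0], [0, 0, 0, 5, 0, 0, 0, 0, 0]] }
/-- The coefficients of certificate 0 for order 5. -/
def coef5_0 : List (List ℤ) := [[-1, -1, -1, -1], [0, -1, -1, -1], [0, 0, -1, -1], [0, 0, 0, -1], [-1, -1, -1, 0], [0, -1, -1, 0], [0, 0, -1, 0], [-1, -1, 0, 0], [0, -1, 0, 0], [-1, 0, 0, 0], [1, 0, 0, 0], [0, 1, 0, 0], [1, 1, 0, 0], [0, 0, 1, 0], [0, 1, 1, 0], [1, 1, 1, 0], [0, 0, 0, 1], [0, 0, 1, 1], [0, 1, 1, 1], [1, 1, 1, 1]]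
theorem d5_0_ok : chkMono chevE8 tblE8 5 d5_0 = true := by decide +kernel
theorem d5_0_coef : chkCoef chevE8 tblE8 d5_0 [120, 121, 123, 236] coef5_0 = true := by decide +kernel
theorem d5_0_val : chkValues 5 [48, 52, 68] (d5_0.U.length + d5_0.R.length) (d5_0.G.length + d5_0.R.length) [120, 121, 123, 236] coef5_0 = true := by decide +kernel

/-- Certificate 1 for order 5. -/
def d5_1 : MonoData :=
  { w := [4, 3, 2, 1, 3, 4, 5, 6, 0, 2, 3, 4, 5, 1, 3, 4, 2, 3, 0, 2, 1, 3, 4, 5, 6, 7, 6, 5, 4, 3, 2, 1, 3, 4, 5, 6, 0, 2, 3, 4, 5, 1, 3, 4, 2, 3, 0, 2, 1, 3, 4, 5, 6, 7, 0, 2, 3, 1]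
    Fx := []
    R := [0, 1, 2, 3, 4, 5, 6, 7, 8, 9, 10, 11, 12, 13, 14, 15, 16, 18, 19, 20, 21, 24, 25, 29, 30, 31, 32, 33, 34, 35, 40, 41, 43, 46, 52, 53, 54, 55, 62, 63, 64, 65, 67, 70, 71, 75, 76, 77]
    U := []
    G := [[1, 0, 0, 0, 0, 0, 0, 0], [0, 0, 0, 0, 0, 1, 0, 0]]
    e := 1
    cu := [[], []]
    ck := [[5, 0, 0, 0, 0, 0, 0, 0, 0, 0], [0, 0, 0, 5, 0, 0, 0, 0, 0, 0], [0, 5, 0, 0, 0, 0, 0, 0, 0, 0], [0, 0, 5, 0, 0, 0, 0, 0, 0, 0], [-2, -4, -6, -3, 0, -4, -3, -2, -1, 0], [0, 0, 0, 0, 0, 5, 0, 0, 0, 0], [0, 0, 0, 0, 0, 0, 5, 0, 0, 0], [0, 0, 0, 0, 0, 0, 0, 5, 0, 0]] }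
/-- The coefficients of certificate 1 for order 5. -/
def coef5_1 : List (List ℤ) := []
theorem d5_1_ok : chkMono chevE8 tblE8 5 d5_1 = true := by decide +kernel
theorem d5_1_coef : chkCoef chevE8 tblE8 d5_1 [] coef5_1 = true := by decide +kernel
theorem d5_1_val : chkValues 5 [48, 52, 68] (d5_1.U.length + d5_1.R.length) (d5_1.G.length + d5_1.R.length) [] coef5_1 = true := by decide +kernel

/-- Certificate 0 for order 7. -/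
def d7_0 : MonoData :=
  { w := [0, 2, 3, 4, 5, 6]
    Fx := [0, 239]
    R := [1, 7, 8, 9, 13, 36, 37, 39, 40, 42, 44, 48, 50, 71, 72, 73, 74, 75, 76, 77, 120, 141, 142, 143, 144, 146, 148, 151, 155, 204, 206, 208, 211, 225]
    U := [[4, 7, 8, 12, 9, 6, 3, 0], [-1, -2, -2, -3, -2, -1, 0, 1]]
    G := [[1, 0, 0, 0, 0, 0, 0, 0]]
    e := 1
    cu := [[0, 0]]
    ck := [[0, 0, 7, 0, 0, 0, 0, 0, 0], [1, 0, -4, -8, -12, -9, -6, -3, 0], [0, 0, 0, 7, 0, 0, 0, 0, 0], [0, 0, 0, 0, 7, 0, 0, 0, 0], [0, 0, 0, 0, 0, 7, 0, 0, 0], [0, 0, 0, 0, 0, 0, 7, 0, 0], [0, 0, 0, 0, 0, 0, 0, 7, 0], [2, 7, -1, -2, -3, -4, -5, -6, 0]] }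
/-- The coefficients of certificate 0 for order 7. -/
def coef7_0 : List (List ℤ) := [[-1], [1]]
theorem d7_0_ok : chkMono chevE8 tblE8 7 d7_0 = true := by decide +kernel
theorem d7_0_coef : chkCoef chevE8 tblE8 d7_0 [239] coef7_0 = true := by decide +kernel
theorem d7_0_val : chkValues 7 [38, 80] (d7_0.U.length + d7_0.R.length) (d7_0.G.length + d7_0.R.length) [239] coef7_0 = true := by decide +kernel

end Cfsg.Lib.Chev.E8Alt
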