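import Cfsg.Agent.Lib.Chev.E8Alt.Sylow
import Cfsg.Agent.Lib.Chev.E8Alt.MonoData

/-! A Sylow 5-subgroup of the Weyl group of type E8. -/

set_option autoImplicit false
set_option maxRecDepth 100000
set_option maxHeartbeats 4000000

namespace Cfsg.Lib.Chev.E8Alt

open Cfsg.Lie

/-- The elements, generators, closure and conjugations. -/
def syl5 : SylData :=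
  { L := [[], [0, 2, 3, 1], [4, 3, 2, 1, 3, 4, 5, 6, 0, 2, 3, 4, 5, 1, 3, 4, 2, 3, 0, 2, 1, 3, 4, 5, 6, 7, 6, 5, 4, 3, 2, 1, 3, 4, 5, 6, 0, 2, 3, 4, 5, 1, 3, 4, 2, 3, 0, 2, 1, 3, 4, 5, 6, 7], [2, 3, 0, 2, 1, 3], [4, 3, 2, 1, 3, 4, 5, 6, 0, 2, 3, 4, 5, 1, 3, 4, 2, 3, 0, 2, 1, 3, 4, 5, 6, 7, 6, 5, 4, 3, 2, 1, 3, 4, 5, 6, 0, 2, 3, 4, 5, 1, 3, 4, 2, 3, 0, 2, 1, 3, 4, 5, 6, 7, 0, 2, 3, 1], [5, 6, 7, 4, 3, 2, 1, 3, 4, 5, 6, 0, 2, 3, 4, 5, 1, 3, 4, 2, 3, 0, 2, 1, 3, 4, 5, 6, 7, 6, 5, 4, 3, 2, 1, 3, 4, 5, 6, 0, 2, 3, 4, 5, 1, 3, 4, 2, 3, 0, 2, 1, 3, 4, 5, 6], [3, 2, 1, 3, 0, 2], [4, 3, 2, 1, 3, 4, 5, 6, 0, 2, 3, 4, 5, 1, 3, 4, 2, 3, 0, 2, 1, 3, 4, 5, 6, 7, 6, 5, 4, 3, 2, 1, 3, 4, 5, 6, 0, 2, 3, 4, 5, 1,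 3, 4, 2, 3, 0, 2, 1, 3, 4, 5, 6, 7, 2, 3, 0, 2, 1, 3], [5, 6, 7, 4, 3, 2, 1, 3, 4, 5, 6, 0, 2, 3, 4, 5, 1, 3, 4, 2, 3, 0, 2, 1, 3, 4, 5, 6, 7, 6, 5, 4, 3, 2, 1, 3, 4, 5, 6, 0, 2, 3, 4, 5, 1, 3, 4, 2, 3, 0, 2, 1, 3, 4, 5, 6, 0, 2, 3, 1], [6, 7, 5, 4, 3, 2, 1, 3, 4, 5, 6, 0, 2, 3, 4, 5, 1, 3, 4, 2, 3, 0, 2, 1, 3, 4, 5, 6, 7, 6, 5, 4, 3, 0, 2, 1, 3, 4, 5, 6, 0, 2, 3, 4, 5, 1, 3, 4, 2, 3, 0, 2, 1, 3, 4, 5], [1, 3, 2, 0], [4, 3, 2, 1, 3, 4, 5, 6, 0, 2, 3, 4, 5, 1, 3, 4, 2, 3, 0, 2, 1, 3, 4, 5, 6, 7, 6, 5, 4, 3, 2, 1, 3, 4, 5, 6, 0, 2, 3, 4, 5, 1, 3, 4, 2, 3, 0, 2, 1, 3, 4, 5, 6, 7, 3, 2, 1, 3, 0, 2], [5, 6, 7, 4, 3, 2, 1, 3, 4, 5, 6, 0, 2, 3, 4, 5, 1, 3, 4, 2, 3, 0, 2, 1, 3, 4, 5, 6, 7, 6, 5, 4, 3, 2,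 1, 3, 4, 5, 6, 0, 2, 3, 4, 5, 1, 3, 4, 2, 3, 0, 2, 1, 3, 4, 5, 6, 2, 3, 0, 2, 1, 3], [6, 7, 5, 4, 3, 2, 1, 3, 4, 5, 6, 0, 2, 3, 4, 5, 1, 3, 4, 2, 3, 0, 2, 1, 3, 4, 5, 6, 7, 6, 5, 4, 3, 0, 2, 1, 3, 4, 5, 6, 0, 2, 3, 4, 5, 1, 3, 4, 2, 3, 0, 2, 1, 3, 4, 5, 0, 2, 3, 1], [7, 6, 5, 4, 3, 2, 1, 3, 4, 5, 6, 0, 2, 3, 4, 5, 1, 3, 4, 2, 3, 0, 2, 1, 3, 4, 5, 6, 7, 6, 5, 4, 3, 2, 1, 3, 4, 5, 6, 0, 2, 3, 4, 5, 1, 3, 4, 2, 3, 0, 2, 1, 3, 4], [4, 3, 2, 1, 3, 4, 5, 6, 0, 2, 3, 4, 5, 1, 3, 4, 2, 3, 0, 2, 1, 3, 4, 5, 6, 7, 6, 5, 4, 3, 2, 1, 3, 4, 5, 6, 0, 2, 3, 4, 5, 1, 3, 4, 2, 3, 0, 2, 1, 3, 4, 5, 6, 7, 1, 3, 2, 0], [5, 6, 7, 4, 3, 2, 1, 3, 4, 5, 6, 0, 2, 3, 4, 5, 1, 3, 4, 2, 3, 0, 2, 1, 3, 4, 5, 6, 7, 6, 5, 4, 3,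 2, 1, 3, 4, 5, 6, 0, 2, 3, 4, 5, 1, 3, 4, 2, 3, 0, 2, 1, 3, 4, 5, 6, 3, 2, 1, 3, 0, 2], [6, 7, 5, 4, 3, 2, 1, 3, 4, 5, 6, 0, 2, 3, 4, 5, 1, 3, 4, 2, 3, 0, 2, 1, 3, 4, 5, 6, 7, 6, 5, 4, 3, 0, 2, 1, 3, 4, 5, 6, 0, 2, 3, 4, 5, 1, 3, 4, 2, 3, 0, 2, 1, 3, 4, 5, 2, 3, 0, 2, 1, 3], [7, 6, 5, 4, 3, 2, 1, 3, 4, 5, 6, 0, 2, 3, 4, 5, 1, 3, 4, 2, 3, 0, 2, 1, 3, 4, 5, 6, 7, 6, 5, 4, 3, 2, 1, 3, 4, 5, 6, 0, 2, 3, 4, 5, 1, 3, 4, 2, 3, 0, 2, 1, 3, 4, 0, 2, 3, 1], [5, 6, 7, 4, 3, 2, 1, 3, 4, 5, 6, 0, 2, 3, 4, 5, 1, 3, 4, 2, 3, 0, 2, 1, 3, 4, 5, 6, 7, 6, 5, 4, 3, 2, 1, 3, 4, 5, 6, 0, 2, 3, 4, 5, 1, 3, 4, 2, 3, 0, 2, 1, 3, 4, 5, 6, 1, 3, 2, 0], [6, 7, 5, 4, 3, 2, 1, 3, 4, 5, 6, 0, 2, 3, 4, 5, 1, 3, 4, 2, 3, 0, 2, 1,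 3, 4, 5, 6, 7, 6, 5, 4, 3, 0, 2, 1, 3, 4, 5, 6, 0, 2, 3, 4, 5, 1, 3, 4, 2, 3, 0, 2, 1, 3, 4, 5, 3, 2, 1, 3, 0, 2], [7, 6, 5, 4, 3, 2, 1, 3, 4, 5, 6, 0, 2, 3, 4, 5, 1, 3, 4, 2, 3, 0, 2, 1, 3, 4, 5, 6, 7, 6, 5, 4, 3, 2, 1, 3, 4, 5, 6, 0, 2, 3, 4, 5, 1, 3, 4, 2, 3, 0, 2, 1, 3, 4, 2, 3, 0, 2, 1, 3], [6, 7, 5, 4, 3, 2, 1, 3, 4, 5, 6, 0, 2, 3, 4, 5, 1, 3, 4, 2, 3, 0, 2, 1, 3, 4, 5, 6, 7, 6, 5, 4, 3, 0, 2, 1, 3, 4, 5, 6, 0, 2, 3, 4, 5, 1, 3, 4, 2, 3, 0, 2, 1, 3, 4, 5, 1, 3, 2, 0], [7, 6, 5, 4, 3, 2, 1, 3, 4, 5, 6, 0, 2, 3, 4, 5, 1, 3, 4, 2, 3, 0, 2, 1, 3, 4, 5, 6, 7, 6, 5, 4, 3, 2, 1, 3, 4, 5, 6, 0, 2, 3, 4, 5, 1, 3, 4, 2, 3, 0, 2, 1, 3, 4, 3, 2, 1, 3, 0, 2], [7, 6, 5, 4, 3, 2, 1, 3, 4, 5, 6, 0, 2, 3, 4,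 5, 1, 3, 4, 2, 3, 0, 2, 1, 3, 4, 5, 6, 7, 6, 5, 4, 3, 2, 1, 3, 4, 5, 6, 0, 2, 3, 4, 5, 1, 3, 4, 2, 3, 0, 2, 1, 3, 4, 1, 3, 2, 0]]
    gw := [[0, 2, 3, 1], [4, 3, 2, 1, 3, 4, 5, 6, 0, 2, 3, 4, 5, 1, 3, 4, 2, 3, 0, 2, 1, 3, 4, 5, 6, 7, 6, 5, 4, 3, 2, 1, 3, 4, 5, 6, 0, 2, 3, 4, 5, 1, 3, 4, 2, 3, 0, 2, 1, 3, 4, 5, 6, 7]]
    clos := [[1, 2], [3, 4], [4, 5], [6, 7], [7, 8], [8, 9], [10, 11], [11, 12], [12, 13], [13, 14], [0, 15], [15, 16], [16, 17], [17, 18], [18, 0], [2, 19], [19, 20], [20, 21], [21, 1], [5, 22], [22, 23], [23, 3], [9, 24], [24, 6], [14, 10]]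
    par := [(0, 0), (0, 0), (0, 1), (1, 0), (1, 1), (2, 1), (3, 0), (3, 1), (4, 1), (5, 1), (6, 0), (6, 1), (7, 1), (8, 1), (9, 1), (10, 1), (11, 1), (12, 1), (13, 1), (15, 1), (16, 1), (17, 1), (19, 1), (20, 1), (22, 1)]
    keys := [[162, 141, 135, 130, 126, 123, 121, 120], [135, 70, 130, 141, 165, 123, 121, 120], [162, 141, 135, 130, 127, 121, 120, 0], [130, 162, 141, 70, 184, 123, 121, 120], [135, 70, 130, 141, 166, 121, 120, 0], [162, 141, 135, 130, 128, 120, 0, 236], [141, 135, 70, 162, 152, 123, 121, 120], [130, 162, 141, 70, 185, 121, 120, 0], [135, 70, 130, 141, 167, 120, 0, 236], [162, 141, 135, 130, 129, 0, 236, 123], [70, 130, 162, 135, 143, 123, 121, 120], [141, 135, 70, 162, 153, 121,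 120, 0], [130, 162, 141, 70, 186, 120, 0, 236], [135, 70, 130, 141, 168, 0, 236, 123], [162, 141, 135, 130, 4, 236, 123, 121], [70, 130, 162, 135, 144, 121, 120, 0], [141, 135, 70, 162, 154, 120, 0, 236], [130, 162, 141, 70, 187, 0, 236, 123], [135, 70, 130, 141, 14, 236, 123, 121], [70, 130, 162, 135, 145, 120, 0, 236], [141, 135, 70, 162, 155, 0, 236, 123], [130, 162, 141, 70, 21, 236, 123, 121], [70, 130, 162, 135, 146, 0, 236, 123], [141, 135, 70, 162, 9, 236, 123, 121], [70, 130, 162, 135, 7, 236, 123, 121]]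
    cert := [(0, []), (1, []), (1, [4, 5, 6, 7, 3, 4, 5, 6, 2, 3, 4, 5, 1, 3, 4, 2, 3, 0, 2, 1, 3, 4, 5, 6, 7, 1, 3, 4, 2, 3, 0, 2, 1, 3, 4, 5, 6, 4, 3, 2, 1, 3, 4, 5, 4, 3, 2, 1, 3, 4]), (1, [3, 0, 2]), (2, []), (1, [4, 5, 6, 7, 3, 4, 5, 6, 2, 3, 4, 5, 1, 3, 4, 2, 3, 0, 2, 1, 3, 4, 5, 6, 7, 4, 5, 3, 4, 2, 3, 0, 2, 1, 3, 4, 5, 6, 5, 4, 3, 2, 1, 3, 4, 5, 0, 2, 3, 4, 2, 3, 0]), (1, [2, 3, 0]), (2, [3, 0, 2]), (2, [7, 5, 6]), (1, [4, 5, 6, 7, 3, 4, 5, 6, 2, 3, 4, 5, 1, 3, 4, 2, 3, 0, 2, 1, 3, 4, 5, 6, 7, 1, 3, 4, 2, 3, 0, 2, 1, 3, 4, 5, 6, 4, 3, 2, 1, 3, 4, 5, 4, 3, 2, 1, 3, 4, 2, 3, 0]), (1, [0, 2, 1, 0]), (2, [2, 3, 0]), (2, [7, 5, 6, 3, 0, 2]), (2, [6, 7, 5]), (1, [4, 5, 6, 7, 3, 4, 5, 6, 2, 3, 4,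 5, 1, 3, 4, 2, 3, 0, 2, 1, 3, 4, 5, 6, 7, 4, 5, 3, 4, 2, 3, 0, 2, 1, 3, 4, 5, 6, 5, 4, 3, 2, 1, 3, 4, 5, 0, 2, 3, 4]), (2, [0, 2, 1, 0]), (2, [7, 5, 6, 2, 3, 0]), (2, [6, 7, 5, 3, 0, 2]), (2, [5, 6, 7, 5, 6, 5]), (2, [7, 5, 6, 0, 2, 1, 0]), (2, [6, 7, 5, 2, 3, 0]), (2, [5, 6, 7, 5, 6, 5, 3, 0, 2]), (2, [6, 7, 5, 0, 2, 1, 0]), (2, [5, 6, 7, 5, 6, 5, 2, 3, 0]), (2, [5, 6, 7, 5, 6, 5, 0, 2, 1, 0])]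
    reps := [[], d5_0.w, d5_1.w] }

theorem syl5_words : chkWords chevE8 syl5 = true := by decide +kernel

theorem syl5_clos : chkClos chevE8 tblE8 syl5 = true := by decide +kernel

theorem syl5_par : chkPar chevE8 tblE8 syl5 = true := by decide +kernel

theorem syl5_keys : chkKeys chevE8 tblE8 syl5 = true := by decide +kernel

theorem syl5_cert : chkCert chevE8 tblE8 5 syl5 = true := by decide +kernel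

theorem syl5_len : syl5.L.length = 5 ^ 2 := by decide +kernel

end Cfsg.Lib.Chev.E8Alt
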