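import Cfsg.Agent.Lib.Chev.E8Alt.Sylow
import Cfsg.Agent.Lib.Chev.E8Alt.MonoData

/-! A Sylow 7-subgroup of the Weyl group of type E8. -/

set_option autoImplicit false
set_option maxRecDepth 100000
set_option maxHeartbeats 4000000

namespace Cfsg.Lib.Chev.E8Alt

open Cfsg.Lie

/-- The elements, generators, closure and conjugations. -/
def syl7 : SylData :=
  { L := [[], [0, 2, 3, 4, 5, 6], [2, 3, 4, 5, 6, 0, 2, 3, 4, 5], [3, 4, 5, 6, 2, 3, 4, 5, 0, 2, 3, 4], [4, 5, 6, 3, 4, 5, 2, 3, 4, 0, 2, 3], [5, 6, 4, 5, 3, 4, 2, 3, 0, 2], [6, 5, 4, 3, 2, 0]]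
    gw := [[0, 2, 3, 4, 5, 6]]
    clos := [[1], [2], [3], [4], [5], [6], [0]]
    par := [(0, 0), (0, 0), (1, 0), (2, 0), (3, 0), (4, 0), (5, 0)]
    keys := [[162, 141, 135, 130, 126, 123, 121, 120], [135, 169, 130, 126, 123, 121, 72, 168], [130, 184, 126, 123, 121, 72, 162, 140], [126, 194, 123, 121, 72, 162, 135, 134], [123, 200, 121, 72, 162, 135, 130, 129], [121, 159, 72, 162, 135, 130, 126, 125], [72, 145, 162, 135, 130, 126, 123, 122]]
    cert := [(0, []), (1, []), (1, [5, 3, 4, 0, 2, 3]), (1, [6, 3, 4, 5, 3, 0, 2]), (1, [3, 4, 5, 2, 3, 0]), (1, [5, 6, 2, 3, 4, 3, 0]), (1, [5, 6, 5, 0, 2, 3, 0, 2, 0])]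
    reps := [[], d7_0.w] }

theorem syl7_words : chkWords chevE8 syl7 = true := by decide +kernel

theorem syl7_clos : chkClos chevE8 tblE8 syl7 = true := by decide +kernel

theorem syl7_par : chkPar chevE8 tblE8 syl7 = true := by decide +kernel

theorem syl7_keys : chkKeys chevE8 tblE8 syl7 = true := by decide +kernel

theorem syl7_cert : chkCert chevE8 tblE8 7 syl7 = true := by decide +kernel

theorem syl7_len : syl7.L.length = 7 ^ 1 := by decide +kernel

end Cfsg.Lib.Chev.E8Alt
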