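import Cfsg.Agent.Lib.Chev.E8Alt.Kac
import Cfsg.Agent.Lib.Chev.E8Alt.Conj
import Cfsg.Agent.Lib.Chev.E8Alt.Syl3
import Cfsg.Agent.Lib.Chev.E8Alt.Syl5
import Cfsg.Agent.Lib.Chev.E8Alt.Syl7
import Cfsg.Agent.Lib.Chev.FullE8
import Cfsg.Agent.Lib.Chev.WeylE8
import Cfsg.Agent.Lib.Chev.CommE8

/-!
The possible numbers of fixed vectors, on the adjoint module of E8, of the elements of order three, five and
seven with equally many eigenvectors at all nontrivial roots of unity.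
-/

set_option autoImplicit false
set_option linter.unusedSectionVars false
set_option maxRecDepth 100000

namespace Cfsg.Lib.Chev.E8Alt

open Cfsg.Lie Module Cfsg.Lib.Linear.AltDeg Cfsg.Lib.Chev.AltSection Cfsg.Lib.Chev.G2Alt

/-- The certificate for diagonal elements. -/
def dTor : MonoData :=
  { w := []
    Fx := List.range 240
    R := []
    U := (List.range 8).map fun k => (List.range 8).map fun a => if a = k then 1 else 0
    G := []
    e := 0
    cu := []
    ck := (List.range 8).map fun k => (List.range 8).map fun a => if a = k then 1 else 0 }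

theorem dTor_ok (ℓ : ℕ) (h : chkMono chevE8 tblE8 ℓ dTor = true) : MonoOK chevE8 tblE8 ℓ dTor := chkMono_sound h

theorem dTor3 : chkMono chevE8 tblE8 3 dTor = true := by decide +kernel
theorem dTor5 : chkMono chevE8 tblE8 5 dTor = true := by decide +kernel
theorem dTor7 : chkMono chevE8 tblE8 7 dTor = true := by decide +kernel

theorem cart_lin8 : CartLin chevE8 tblE8 := by
  show ∀ j < 8, ∀ r < 240, tblE8.cartan j r = ∑ k : Fin 8, tblE8.coroot r k * tblE8.cartan j (tblE8.simp' k)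
  decide +kernel

theorem weyl_order : ∏ j ∈ Finset.range chevE8.rank, (nth ([], []) weylE8 j).1.length = 696729600 := by
  decide +kernel

/-- What a certified shape gives. -/
def ShapeBound (F : Type*) [Field F] (ℓ : ℕ) [NeZero ℓ] (ζ : F) (S : List ℕ) (u : List ℕ) : Prop :=
  ∀ c : Fin chevE8.rank → Fˣ, (wnu certE8 F u * torusHom chevE8 tblE8 F c) ^ ℓ = 1 →
    (∀ j : ZMod ℓ, j ≠ 0 → finrank F (eig ζ (adj (wnu certE8 F u * torusHom chevE8 tblE8 F c)) j) =
      finrank F (eig ζ (adj (wnu certE8 F u * torusHom chevE8 tblE8 F c)) (1 : ZMod ℓ))) →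
    wnu certE8 F u * torusHom chevE8 tblE8 F c ≠ 1 →
    finrank F (eig ζ (adj (wnu certE8 F u * torusHom chevE8 tblE8 F c)) (0 : ZMod ℓ)) ∈ S

variable {F : Type*} [Field F]

theorem shape_of_chk {ℓ : ℕ} [hℓ : Fact ℓ.Prime] (h2 : ℓ ≠ 2) {ζ : F} (hζ : IsPrimitiveRoot ζ ℓ)
    (hm : (ℓ : F) ≠ 0) {d : MonoData} {B : List ℕ} {coef : List (List ℤ)} {S : List ℕ}
    (h1 : chkMono chevE8 tblE8 ℓ d = true) (h3 : chkCoef chevE8 tblE8 d B coef = true)
    (h4 : chkValues ℓ S (d.U.length + d.R.length) (d.G.length + d.R.length) B coef = true) :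
    ShapeBound F ℓ ζ S d.w := by
  classical
  obtain ⟨e1, e2, e3⟩ := chkCoef_sound h3
  exact fun c hg heq _ => mono_bound certE8 h2 hζ hm (chkMono_sound h1) e1 e2 e3 h4 c hg heq

theorem shape_torus {ℓ : ℕ} [hℓ : Fact ℓ.Prime] {ζ : F} (hζ : IsPrimitiveRoot ζ ℓ) (hm : (ℓ : F) ≠ 0) {S : List ℕ}
    (h1 : chkMono chevE8 tblE8 ℓ dTor = true) (h2 : chkAlcove ℓ S = true) : ShapeBound F ℓ ζ S [] := by
  classical
  intro c hg heq hne
  have hd := chkMono_sound h1
  have hg' : torusHom chevE8 tblE8 F c ^ ℓ = 1 := by simpa [wnu] using hg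
  obtain ⟨v, hv⟩ := exists_vec certE8 cart_lin8 hζ hg'
  have he : ∀ r < chevE8.nroots, entry (wnu certE8 F [] * torusHom chevE8 tblE8 F c) r =
      rootPow ζ (val chevE8 tblE8 v r) := by
    intro r hr
    rw [entry, dif_pos hr, ← hv r hr, show wnu certE8 F [] = 1 from rfl, one_mul, coe_torusHom, scal,
      Matrix.diagonal_apply_eq]
    rfl
  have key : ∀ j : ZMod ℓ, finrank F (eig ζ (adj (wnu certE8 F [] * torusHom chevE8 tblE8 F c)) j) =
      (if j = 0 then 8 else 0) + cnt v j := by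
    intro j
    refine (finrank_eig_mono certE8 hζ hm hd c hg j).trans ?_
    simp only [dTor, List.length_map, List.length_range, List.length_nil, Nat.add_zero]
    refine congrArg _ (List.countP_congr fun r hr => ?_)
    have hr' : r < chevE8.nroots := List.mem_range.1 hr
    simp only [decide_eq_true_eq, he r hr', (rootPow_injective hζ).eq_iff]
  have hv0 : v ≠ 0 := by
    rintro rfl
    refine hne ?_
    rw [show wnu certE8 F [] = 1 from rfl, one_mul, tH_eq_of_vec certE8 cart_lin8 hζ hv (HasVec.one certE8 hζ),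
      map_one]
  have h := torus_bound h2 v hv0 fun a ha => by
    have h1' := heq a ha
    rw [key, key, if_neg ha, if_neg one_ne_zero] at h1'
    simpa using h1'
  rw [key, if_pos rfl]
  exact h

variable [Finite F]

theorem bound_of_shapes {ℓ : ℕ} [hℓ : Fact ℓ.Prime] {ζ : F} {S : List ℕ} {d : SylData}
    (h1 : chkWords chevE8 d = true) (h2 : chkClos chevE8 tblE8 d = true) (h3 : chkPar chevE8 tblE8 d = true)
    (h4 : chkKeys chevE8 tblE8 d = true) (h5 : chkCert chevE8 tblE8 ℓ d = true) {a : ℕ} (hn : d.L.length = ℓ ^ a)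
    (hW' : ¬ ℓ ^ (a + 1) ∣ 696729600) (hq : Nat.card F % ℓ ^ (a + 1) = 1)
    (hs : ∀ u ∈ d.reps, ShapeBound F ℓ ζ S u) {g : GL chevE8.Idx F} (hg : g ∈ chevE8.group F) (hgl : g ^ ℓ = 1)
    (hne : g ≠ 1) (heq : ∀ j : ZMod ℓ, j ≠ 0 → finrank F (eig ζ (adj g) j) = finrank F (eig ζ (adj g) (1 : ZMod ℓ))) :
    finrank F (eig ζ (adj g) (0 : ZMod ℓ)) ∈ S := by
  obtain ⟨u, hu, -, x, c, hxc⟩ := exists_mono certE8 fullCertE8 chkWeylE8 h1 h2 h3 h4 h5 hn
    (by rw [weyl_order]; exact hW') hq hg hgl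
  rw [← finrank_eig_conj ζ x g, hxc]
  refine hs u hu c ?_ (fun j hj => ?_) ?_
  · rw [← hxc, conj_pow, hgl, mul_one, mul_inv_cancel]
  · rw [← hxc, finrank_eig_conj, finrank_eig_conj]; exact heq j hj
  · rw [← hxc]; exact fun e => hne (conj_eq_one_iff.1 e)

theorem three_bound {ζ : F} (hζ : IsPrimitiveRoot ζ 3) (hm : (3 : F) ≠ 0) (hq : Nat.card F % 3 ^ 6 = 1)
    {g : GL chevE8.Idx F} (hg : g ∈ chevE8.group F) (hgl : g ^ 3 = 1) (hne : g ≠ 1)
    (heq : ∀ j : ZMod 3, j ≠ 0 → finrank F (eig ζ (adj g) j) = finrank F (eig ζ (adj g) (1 : ZMod 3))) :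
    finrank F (eig ζ (adj g) (0 : ZMod 3)) ∈ [80, 82, 84, 86, 88, 92, 102, 134] := by
  haveI : Fact (Nat.Prime 3) := ⟨by norm_num⟩
  have hm' : ((3 : ℕ) : F) ≠ 0 := by exact_mod_cast hm
  refine bound_of_shapes syl3_words syl3_clos syl3_par syl3_keys syl3_cert syl3_len (by norm_num) hq ?_ hg hgl hne heq
  intro u hu
  simp only [syl3, List.mem_cons, List.not_mem_nil, or_false] at hu
  rcases hu with rfl | rfl | rfl | rfl | rfl
  · exact shape_torus hζ hm' dTor3 alcove3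
  · exact shape_of_chk (by norm_num) hζ hm' d3_0_ok d3_0_coef d3_0_val
  · exact shape_of_chk (by norm_num) hζ hm' d3_1_ok d3_1_coef d3_1_val
  · exact shape_of_chk (by norm_num) hζ hm' d3_2_ok d3_2_coef d3_2_val
  · exact shape_of_chk (by norm_num) hζ hm' d3_3_ok d3_3_coef d3_3_val

theorem five_bound {ζ : F} (hζ : IsPrimitiveRoot ζ 5) (hm : (5 : F) ≠ 0) (hq : Nat.card F % 5 ^ 3 = 1)
    {g : GL chevE8.Idx F} (hg : g ∈ chevE8.group F) (hgl : g ^ 5 = 1) (hne : g ≠ 1)
    (heq : ∀ j : ZMod 5, j ≠ 0 → finrank F (eig ζ (adj g) j) = finrank F (eig ζ (adj g) (1 : ZMod 5))) :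
    finrank F (eig ζ (adj g) (0 : ZMod 5)) ∈ [48, 52, 68] := by
  haveI : Fact (Nat.Prime 5) := ⟨by norm_num⟩
  have hm' : ((5 : ℕ) : F) ≠ 0 := by exact_mod_cast hm
  refine bound_of_shapes syl5_words syl5_clos syl5_par syl5_keys syl5_cert syl5_len (by norm_num) hq ?_ hg hgl hne heq
  intro u hu
  simp only [syl5, List.mem_cons, List.not_mem_nil, or_false] at hu
  rcases hu with rfl | rfl | rfl
  · exact shape_torus hζ hm' dTor5 alcove5
  · exact shape_of_chk (by norm_num) hζ hm' d5_0_ok d5_0_coef d5_0_val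
  · exact shape_of_chk (by norm_num) hζ hm' d5_1_ok d5_1_coef d5_1_val

theorem seven_bound {ζ : F} (hζ : IsPrimitiveRoot ζ 7) (hm : (7 : F) ≠ 0) (hq : Nat.card F % 7 ^ 2 = 1)
    {g : GL chevE8.Idx F} (hg : g ∈ chevE8.group F) (hgl : g ^ 7 = 1) (hne : g ≠ 1)
    (heq : ∀ j : ZMod 7, j ≠ 0 → finrank F (eig ζ (adj g) j) = finrank F (eig ζ (adj g) (1 : ZMod 7))) :
    finrank F (eig ζ (adj g) (0 : ZMod 7)) ∈ [38, 80] := by
  haveI : Fact (Nat.Prime 7) := ⟨by norm_num⟩
  have hm' : ((7 : ℕ) : F) ≠ 0 := by exact_mod_cast hm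
  refine bound_of_shapes syl7_words syl7_clos syl7_par syl7_keys syl7_cert syl7_len (by norm_num) hq ?_ hg hgl hne heq
  intro u hu
  simp only [syl7, List.mem_cons, List.not_mem_nil, or_false] at hu
  rcases hu with rfl | rfl
  · exact shape_torus hζ hm' dTor7 alcove7
  · exact shape_of_chk (by norm_num) hζ hm' d7_0_ok d7_0_coef d7_0_val

end Cfsg.Lib.Chev.E8Alt
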