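import Cfsg.Agent.Lib.Chev.E8Alt.Kernel
import Cfsg.Agent.Lib.Chev.E8Alt.Exact
import Cfsg.Agent.Lib.Chev.E8Alt.Spec
import Cfsg.Agent.Lib.Chev.E8Alt.Joint

/-!
Minimal covers of alternating sections of E8, their central kernels, and the adjoint representation.
-/

set_option autoImplicit false
set_option linter.unusedSectionVars false

namespace Cfsg.Lib.Chev.E8Alt

open Cfsg.Lie Cfsg.Lib.Chev.AltSection Module

variable {F : Type*} [Field F]

/-- The group of type E8. -/
abbrev E8G (F : Type*) [Field F] := ↥(chevE8.group F)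

theorem dim_adjoint : finrank F (chevE8.Idx → F) = 248 := by
  rw [Module.finrank_fintype_fun_eq_card]
  exact (Fintype.card_sum).trans (by rw [Fintype.card_fin, Fintype.card_fin]; rfl)

/-- The representation of a group mapped into the group. -/
noncomputable def rep8 {H : Type*} [Group H] (f : H →* E8G F) : H →* GL chevE8.Idx F := (chevE8.group F).subtype.comp f

theorem rep8_injective {H : Type*} [Group H] {f : H →* E8G F} (hf : Function.Injective f) :
    Function.Injective (rep8 f) := (chevE8.group F).subtype_injective.comp hf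

theorem rep8_ne_one {H A : Type*} [Group H] [Group A] {f : H →* E8G F} (hf : Function.Injective f) (π : H →* A)
    {a : H} (ha : π a ≠ 1) : rep8 f a ≠ 1 := fun h => ha (by
  rw [(map_eq_one_iff _ (rep8_injective hf)).1 h, map_one])

theorem exists_cover' {H A : Type*} [Group H] [Finite H] [Group A] (π : H →* A) (hπ : Function.Surjective π) :
    ∃ L : Subgroup H, Function.Surjective (π.comp L.subtype) ∧
      ∀ M : Subgroup L, M.map (π.comp L.subtype) = ⊤ → M = ⊤ := by
  classical
  have hex : ∃ n, ∃ L : Subgroup H, L.map π = ⊤ ∧ Nat.card L = n :=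
    ⟨_, ⊤, Subgroup.map_top_of_surjective π hπ, rfl⟩
  obtain ⟨L, hL, hn⟩ := Nat.find_spec hex
  refine ⟨L, fun x => ?_, fun M hM => Subgroup.eq_top_of_le_card M ?_⟩
  · obtain ⟨y, hy, e⟩ := hL.ge (Subgroup.mem_top x)
    exact ⟨⟨y, hy⟩, e⟩
  · rw [hn, ← Subgroup.card_map_of_injective L.subtype_injective]
    exact Nat.find_min' hex ⟨M.map L.subtype, by rw [Subgroup.map_map]; exact hM, rfl⟩

/-- The kernel of a minimal cover has central subgroups of prime power order. -/
theorem central_part [Finite F] {ℓ : ℕ} [hℓ : Fact ℓ.Prime] {q₀ : ℕ} [Fact q₀.Prime] (hℓq : ℓ ≠ q₀) (hq2 : q₀ ≠ 2)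
    {n : ℕ} (hn : 9 ≤ n) (hqn : q₀ ≤ n) {a : ℕ} (hW : ¬ ℓ ^ (a + 1) ∣ 696729600)
    (hq : Nat.card F % ℓ ^ (a + 1) = 1) {ζ : F} (hζ : IsPrimitiveRoot ζ ℓ)
    (hN : 8 + a < n - 1 - (if ℓ ∣ n then 1 else 0)) {H : Type*} [Group H] [Finite H] {f : H →* E8G F}
    (hf : Function.Injective f) (π : H →* ↥(alternatingGroup (Fin n))) (hπ : Function.Surjective π)
    (hmin : ∀ M : Subgroup H, M.map π = ⊤ → M = ⊤) : CentralPart ℓ π := by
  have hidx := index_pow certE8 fullCertE8 chkWeylE8 hq (by rw [weyl_order]; exact hW) (ℓ := ℓ) (F := F)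
  exact fun Q hQ hker z hz h => kernel_central_gen π hπ hmin hn hℓq hq2 hqn hN
    (fun P hP => frattini_index_gen certE8 fullCertE8 cart_lin8 hidx hζ hP (f.comp P.subtype)
      (hf.comp P.subtype_injective)) hQ hker hz h

end Cfsg.Lib.Chev.E8Alt
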