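import Cfsg.Agent.Lib.Chev.E8Alt.MixedDefs
import Cfsg.Agent.Lib.Chev.E8Alt.Setup
import Cfsg.Agent.Lib.Chev.E8Alt.Lifts

/-!
Lifts of two commuting elements of one prime order and one of another, and their joint multiplicities on the
adjoint module of E8.
-/

set_option autoImplicit false
set_option linter.unusedSectionVars false
set_option maxHeartbeats 800000

namespace Cfsg.Lib.Chev.E8Alt

open Subgroup Module Cfsg.Lie Cfsg.Lib.Linear.AltDeg Cfsg.Lib.Chev.AltSection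

section Groups

variable {H A : Type*} [Group H] [Finite H] [Group A] [Finite A] {p q : ℕ} [hp : Fact p.Prime] [hq : Fact q.Prime]

theorem pow_pred_eq_inv {G : Type*} [Group G] {u : G} (hu : u ^ p = 1) : u ^ (p - 1) = u⁻¹ :=
  eq_inv_of_mul_eq_one_left (by rw [← pow_succ, Nat.sub_add_cancel hp.out.one_le, hu])

/-- The inverted lift of a single element, with the lifts of the elements normalising it. -/
theorem exists_single {π : H →* A} (hZ : CentralPart q π) (hodd : q ≠ 2) {b g₀ : A} (hb : b ^ q = 1)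
    (hg : g₀ * b * g₀⁻¹ = b⁻¹) (hbr : b ∈ π.range) (hgr : g₀ ∈ π.range) :
    ∃ (P : Subgroup H) (g x : H), IsPGroup q P ∧ g ∈ normalizer (P : Set H) ∧ π g = g₀ ∧
      (x ∈ P ∧ π x = b ∧ x ^ q = 1 ∧ g * x * g⁻¹ = x⁻¹) ∧
      ∀ s ∈ π.range, s * b * s⁻¹ ∈ closure ({b} : Set A) → ∃ y ∈ normalizer (P : Set H), π y = s := by
  have hE : IsPGroup q (closure ({b} : Set A)) := closure_pgroup
    (by rintro a rfl c rfl; rfl) (by rintro a rfl; exact hb)
  obtain ⟨P, hP, hPE, hlift⟩ := exists_over π hE ((closure_le _).2 (Set.singleton_subset_iff.2 hbr))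
  have hl : ∀ s ∈ π.range, s * b * s⁻¹ ∈ closure ({b} : Set A) → ∃ y ∈ normalizer (P : Set H), π y = s :=
    fun s hs h => hlift s (Cfsg.Lib.Chev.AltSection.mem_normalizer_closure (by rintro _ rfl; exact h)) hs
  obtain ⟨g, hgP, hgπ⟩ := hl g₀ hgr (by rw [hg]; exact inv_mem (subset_closure rfl))
  obtain ⟨x, hx⟩ := exists_inverted hZ hP hodd hgP (hPE.ge (subset_closure rfl)) hb (by rw [hgπ]; exact hg)
  exact ⟨P, g, x, hP, hgP, hgπ, hx, hl⟩

/-- Commuting exact lifts of the system, inverted together, with lifts of the permutations. -/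
theorem exists_mixed {π : H →* A} (hπ : Function.Surjective π) (hZp : CentralPart p π) (hZq : CentralPart q π)
    (hpq : p ≠ q) (hp2 : p ≠ 2) (hq2 : q ≠ 2) {a : Fin 2 → A} {b g₀ : A} {k : ℕ} {gen : Fin k → A}
    {S : Fin k → Fin 2 → Fin 2} {E E' : Fin k → Fin 2 → ℕ} {B B' : Fin k → ℕ}
    (hs : Sys p q a b g₀ gen S E E' B B') :
    ∃ (x : Fin 2 → H) (y g : H), π g = g₀ ∧ (∀ i, π (x i) = a i ∧ x i ^ p = 1 ∧ g * x i * g⁻¹ = (x i)⁻¹) ∧
      (π y = b ∧ y ^ q = 1 ∧ g * y * g⁻¹ = y⁻¹) ∧ ((∀ i j, x i * x j = x j * x i) ∧ ∀ i, x i * y = y * x i) ∧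
      ∀ j, ∃ w, π w = gen j ∧ (∀ i, w * x i * w⁻¹ = x (S j i) ^ E j i) ∧ w * y * w⁻¹ = y ^ B j := by
  obtain ⟨hao, hb, hgb⟩ := hs.ord
  obtain ⟨P, g₁, x, hP, -, hg₁P, hg₁π, hx, hlift⟩ :=
    exists_family hZp hπ hp2 a (fun i => (hao i).1) hs.comm.1 fun i => (hao i).2
  let N : Subgroup H := normalizer (P : Set H)
  let πN : N →* A := π.comp N.subtype
  have hr : ∀ s, (∀ i, s * a i * s⁻¹ ∈ closure (Set.range a)) → s ∈ πN.range := fun s h => by
    obtain ⟨u, hu, hus⟩ := hlift s h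
    exact ⟨⟨u, hu⟩, hus⟩
  obtain ⟨Q, gN, yN, hQ, hgQ, hgπN, ⟨hyQ, hyπ, hyq, hyg⟩, hliftQ⟩ := exists_single (hZq.restrict N) hq2 hb hgb
    (hr b fun i => by rw [← (hs.comm.2 i), mul_inv_cancel_right]; exact subset_closure ⟨i, rfl⟩)
    ⟨⟨g₁, hg₁P⟩, hg₁π⟩
  have hgπ : π (gN : H) = g₀ := hgπN
  have hyπ' : π (yN : H) = b := hyπ
  have hgx : ∀ i, (gN : H) * x i * (gN : H)⁻¹ = (x i)⁻¹ := fun i => by
    rw [← pow_pred_eq_inv (hx i).2.2.1]
    exact family_act hZp hp2 hP hg₁P hg₁π (hx i) (hx i) gN.2 (by rw [hgπ])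
      (by rw [hgπ, pow_pred_eq_inv (hao i).1, (hao i).2])
  have hwit : ∀ j, ∃ w, π w = gen j ∧ (∀ i, w * x i * w⁻¹ = x (S j i) ^ E j i) ∧
      w * (yN : H) * w⁻¹ = (yN : H) ^ B j := by
    intro j
    obtain ⟨ha, hb'⟩ := hs.gen_act j
    obtain ⟨u, huQ, huπ⟩ := hliftQ (gen j)
      (hr (gen j) fun i => by rw [ha i]; exact Subgroup.pow_mem _ (Subgroup.subset_closure (Set.mem_range_self (f := a) (S j i))) _)
      (by rw [hb']; exact Subgroup.pow_mem _ (Subgroup.subset_closure (Set.mem_singleton b)) _)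
    have huπ' : π (u : H) = gen j := huπ
    refine ⟨u, huπ', fun i => family_act hZp hp2 hP hg₁P hg₁π (hx i) (hx (S j i)) u.2
      (by rw [huπ', hs.gen_comm]) (by rw [huπ']; exact ha i), ?_⟩
    have := family_act (hZq.restrict N) hq2 hQ hgQ hgπN ⟨hyQ, hyπ, hyq, hyg⟩ ⟨hyQ, hyπ, hyq, hyg⟩ huQ
      (by rw [huπ, hs.gen_comm]) (e := B j) (by rw [huπ]; exact hb')
    exact congrArg Subtype.val this
  refine ⟨x, yN, gN, hgπ, fun i => ⟨(hx i).2.1, (hx i).2.2.1, hgx i⟩,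
    ⟨hyπ', congrArg Subtype.val hyq, congrArg Subtype.val hyg⟩, ⟨?_, fun i => ?_⟩, hwit⟩
  · obtain ⟨j, hS0, hS1, hE0, hE1⟩ := hs.flip
    obtain ⟨w, -, hw, -⟩ := hwit j
    have e0 : w * x 0 * w⁻¹ = (x 0)⁻¹ := by
      rw [hw, hS0]
      exact eq_inv_of_mul_eq_one_left (by rw [← pow_succ, hE0, (hx 0).2.2.1])
    have e1 : w * x 1 * w⁻¹ = x 1 := by rw [hw, hS1, hE1, pow_one]
    have h01 : x 0 * x 1 = x 1 * x 0 := inverted_comm hZp hP hp2 (hx 0).1 (hx 1).1
      (by rw [(hx 0).2.1, (hx 1).2.1]; exact hs.comm.1 0 1) e0 e1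
    intro i i'
    fin_cases i <;> fin_cases i' <;> first | rfl | exact h01 | exact h01.symm
  · have hfix := fix_lift hZp hP (y := (yN : H)) yN.2 (hx i).1 (hx i).2.2.1
      (by rw [hyπ', (hx i).2.1, ← hs.comm.2 i, mul_inv_cancel_right])
      (Or.inr ⟨q, congrArg Subtype.val hyq, fun h => hpq ((Nat.prime_dvd_prime_iff_eq hp.out hq.out).1 h)⟩)
    exact (mul_inv_eq_iff_eq_mul.1 hfix).symm

end Groups

section Dims

variable {F : Type*} [Field F] {H : Type*} [Group H] {p q : ℕ} [hp : Fact p.Prime] [hq : Fact q.Prime]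

theorem mv_fst {S : Fin 2 → Fin 2} (hS : Function.Injective S) (e : Fin 2 → ℕ) (b : ℕ) (c : Cm p q) (i : Fin 2) :
    (mv S e b c).1 (S i) = (e i : ZMod p) * c.1 i := by
  show (∑ j : Fin 2, if S j = S i then (e j : ZMod p) * c.1 j else 0) = _
  rw [Finset.sum_eq_single i (fun j _ hj => if_neg fun h => hj (hS h)) (by simp), if_pos rfl]

theorem mv_injective {S : Fin 2 → Fin 2} (hS : Function.Injective S) {e e' : Fin 2 → ℕ} {b b' : ℕ}
    (he : ∀ i, (e i : ZMod p) * (e' i : ZMod p) = 1) (hb : (b : ZMod q) * (b' : ZMod q) = 1) :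
    Function.Injective (mv (p := p) (q := q) S e' b') := fun c d h => by
  refine Prod.ext (funext fun i => ?_) ?_
  · have h1 := congrFun (congrArg Prod.fst h) (S i)
    rw [mv_fst hS, mv_fst hS] at h1
    calc c.1 i = (e i : ZMod p) * ((e' i : ZMod p) * c.1 i) := by rw [← mul_assoc, he, one_mul]
      _ = d.1 i := by rw [h1, ← mul_assoc, he, one_mul]
  · have h1 : (b' : ZMod q) * c.2 = (b' : ZMod q) * d.2 := congrArg Prod.snd h
    calc c.2 = (b : ZMod q) * ((b' : ZMod q) * c.2) := by rw [← mul_assoc, hb, one_mul]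
      _ = d.2 := by rw [h1, ← mul_assoc, hb, one_mul]

/-- The multiplicities of commuting lifts with permuted characters. -/
theorem mixed_dims (ρ : H →* GL chevE8.Idx F) {ζ η : F} (hζ : IsPrimitiveRoot ζ p) (hη : IsPrimitiveRoot η q)
    (hp0 : (p : F) ≠ 0) (hq0 : (q : F) ≠ 0) (x : Fin 2 → H) (y : H) (hx : ∀ i, x i ^ p = 1) (hy : y ^ q = 1)
    (hxx : ∀ i j, x i * x j = x j * x i) (hxy : ∀ i, x i * y = y * x i) {k : ℕ} {S : Fin k → Fin 2 → Fin 2}
    {E E' : Fin k → Fin 2 → ℕ} {B B' : Fin k → ℕ} (hS : ∀ j, Function.Injective (S j))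
    (hu : ∀ j, (∀ i, (E j i : ZMod p) * (E' j i : ZMod p) = 1) ∧ (B j : ZMod q) * (B' j : ZMod q) = 1)
    (hw : ∀ j, ∃ w, (∀ i, w * x i * w⁻¹ = x (S j i) ^ E j i) ∧ w * y * w⁻¹ = y ^ B j) {l : List ℕ}
    (hdesc : ∀ c : Cm p q, c = rep (cls c) ∨
      ∃ j, rk p l (mv (S j) (E' j) (B' j) c) < rk p l c ∧ cls (mv (S j) (E' j) (B' j) c) = cls c)
    {T : List (List ℕ)} (hT : Tables p q T) :
    ∃ M : Fin 6 → ℕ, (∑ a, ent T 0 a * M a = 248) ∧
      finrank F (eig ζ (op ρ (x 0)) (0 : ZMod p)) = ∑ a, ent T 1 a * M a ∧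
      finrank F (eig ζ (op ρ (x 0 * x 1)) (0 : ZMod p)) = ∑ a, ent T 2 a * M a ∧
      finrank F (eig η (op ρ y) (0 : ZMod q)) = ∑ a, ent T 3 a * M a ∧
      finrank F ↥(eig ζ (op ρ (x 0)) (0 : ZMod p) ⊓ eig η (op ρ y) (0 : ZMod q)) = ∑ a, ent T 4 a * M a ∧
      (∀ j : ZMod p, j ≠ 0 → finrank F (eig ζ (op ρ (x 0)) j) = finrank F (eig ζ (op ρ (x 0)) (1 : ZMod p))) ∧
      (∀ j : ZMod p, j ≠ 0 →
        finrank F (eig ζ (op ρ (x 0 * x 1)) j) = finrank F (eig ζ (op ρ (x 0 * x 1)) (1 : ZMod p))) ∧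
      ∀ j : ZMod q, j ≠ 0 → finrank F (eig η (op ρ y) j) = finrank F (eig η (op ρ y) (1 : ZMod q)) := by
  classical
  let X : Fin 2 → End F (chevE8.Idx → F) := fun i => op ρ (x i)
  let Y : End F (chevE8.Idx → F) := op ρ y
  let J : Cm p q → Submodule F (chevE8.Idx → F) := fun c => joint ζ X c.1 ⊓ eig η Y c.2
  have hXc : ∀ i, Commute (X i) Y := fun i => op_comm ρ (hxy i)
  have hd : Decomp (insert Y (Set.range X)) J :=
    decomp_prod hη hq0 (decomp_joint hζ hp0 X (fun i => op_order ρ (hx i)) fun i j => op_comm ρ (hxx i j))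
      (op_order ρ hy) (by rintro _ ⟨i, rfl⟩; exact hXc i)
  have hperm : ∀ j c, finrank F (J (mv (S j) (E' j) (B' j) c)) = finrank F (J c) := by
    intro j
    obtain ⟨w, hwx, hwy⟩ := hw j
    refine dim_perm (op ρ w) (op_inj ρ w) _
      (Finite.injective_iff_bijective.1 (mv_injective (hS j) (hu j).1 (hu j).2)) fun c v hv => ?_
    simp only [J, joint, Submodule.mem_inf, Submodule.mem_iInf] at hv ⊢
    refine ⟨fun i => ?_, op_eig_conj ρ hη hy hwy (hu j).2 hv.2⟩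
    obtain ⟨i, rfl⟩ := (Finite.injective_iff_bijective.1 (hS j)).2 i
    rw [mv_fst (hS j)]
    exact op_eig_conj ρ hζ (hx (S j i)) (hwx i) ((hu j).1 i) (hv.1 i)
  let M : Fin 6 → ℕ := fun a => finrank F (J (rep a))
  have hM : ∀ c, finrank F (J c) = M (cls c) := by
    suffices hind : ∀ n c, rk p l c = n → finrank F (J c) = M (cls c) from fun c => hind _ c rfl
    intro n
    induction n using Nat.strong_induction_on with
    | _ n ih =>
      intro c hn
      rcases hdesc c with h | ⟨j, hj, hjc⟩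
      · exact congrArg (fun c => finrank F (J c)) h
      · rw [← hperm j c, ih _ (hn ▸ hj) _ rfl, hjc]
  have hJx : ∀ c i, J c ≤ eig ζ (op ρ (x i)) (c.1 i) := fun c i =>
    inf_le_left.trans (iInf_le (fun i => eig ζ (X i) (c.1 i)) i)
  have hJp : ∀ c, J c ≤ eig ζ (op ρ (x 0 * x 1)) (c.1 0 + c.1 1) := fun c v hv =>
    op_eig_mul ρ hζ (hJx c 0 hv) (hJx c 1 hv)
  have hcx : ∀ i, ∀ u ∈ insert Y (Set.range X), Commute u (op ρ (x i)) := by
    rintro i u (rfl | ⟨i', rfl⟩)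
    · exact (hXc i).symm
    · exact op_comm ρ (hxx i' i)
  have hcp : ∀ u ∈ insert Y (Set.range X), Commute u (op ρ (x 0 * x 1)) := fun u h => by
    rw [op_mul]; exact (hcx 0 u h).mul_right (hcx 1 u h)
  have hcy : ∀ u ∈ insert Y (Set.range X), Commute u (op ρ y) := by
    rintro u (rfl | ⟨i', rfl⟩)
    · exact Commute.refl _
    · exact hXc i'
  have hX0 : ∀ j, finrank F (eig ζ (op ρ (x 0)) j) =
      ∑ a, (Finset.univ.filter fun c : Cm p q => c.1 0 = j ∧ cls c = a).card * M a := fun j => by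
    rw [dim_eig hζ hd (hcx 0) (fun c => c.1 0) (fun c => hJx c 0) j]; exact sum_classes cls M _ hM _
  have hX1 : ∀ j, finrank F (eig ζ (op ρ (x 0 * x 1)) j) =
      ∑ a, (Finset.univ.filter fun c : Cm p q => c.1 0 + c.1 1 = j ∧ cls c = a).card * M a := fun j => by
    rw [dim_eig hζ hd hcp (fun c => c.1 0 + c.1 1) hJp j]; exact sum_classes cls M _ hM _
  have hY : ∀ j, finrank F (eig η (op ρ y) j) =
      ∑ a, (Finset.univ.filter fun c : Cm p q => c.2 = j ∧ cls c = a).card * M a := fun j => by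
    rw [dim_eig hη hd hcy (fun c => c.2) (fun c => inf_le_right) j]; exact sum_classes cls M _ hM _
  have hboth : finrank F ↥(eig ζ (op ρ (x 0)) (0 : ZMod p) ⊓ eig η (op ρ y) (0 : ZMod q)) =
      ∑ a, (Finset.univ.filter fun c : Cm p q => (c.1 0 = 0 ∧ c.2 = 0) ∧ cls c = a).card * M a := by
    rw [dim_filter (W := eig ζ (op ρ (x 0)) (0 : ZMod p) ⊓ eig η (op ρ y) (0 : ZMod q)) hd
      (fun u hu v hv => ⟨eig_comm hζ (hcx 0 u hu).symm hv.1, eig_comm hη (hcy u hu).symm hv.2⟩)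
      (fun c : Cm p q => c.1 0 = 0 ∧ c.2 = 0)
      (fun c h => le_inf (by simpa only [h.1] using hJx c 0)
        ((inf_le_right : J c ≤ eig η Y c.2).trans_eq (by rw [h.2]))) fun c h => ?_]
    · exact sum_classes cls M _ hM _
    by_cases h0 : c.1 0 = 0
    · exact (((iSupIndep_eig hη (op ρ y)).pairwiseDisjoint fun e => h ⟨h0, e.symm⟩).mono inf_le_right
        (inf_le_right : J c ≤ eig η Y c.2)).eq_bot
    · exact (((iSupIndep_eig hζ (op ρ (x 0))).pairwiseDisjoint fun e => h0 e.symm).mono inf_le_left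
        (hJx c 0)).eq_bot
  refine ⟨M, ?_, ?_, ?_, ?_, ?_, fun j hj => ?_, fun j hj => ?_, fun j hj => ?_⟩
  · rw [← dim_adjoint (F := F), ← total hd]
    have := sum_classes cls M _ hM fun _ => True
    simp only [Finset.filter_true, true_and] at this
    simpa only [hT.all] using this.symm
  · simpa only [hT.fst] using hX0 0
  · simpa only [hT.prd] using hX1 0
  · simpa only [hT.snd] using hY 0
  · simpa only [hT.both] using hboth
  · rw [hX0, hX0]; simp only [hT.fst_eq j hj]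
  · rw [hX1, hX1]; simp only [hT.prd_eq j hj]
  · rw [hY, hY]; simp only [hT.snd_eq j hj]

end Dims

end Cfsg.Lib.Chev.E8Alt
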