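import Mathlib

/-!
Characters of two elements of one prime order and an element of another, and the hypotheses on permutations
acting on them.
-/

set_option autoImplicit false

namespace Cfsg.Lib.Chev.E8Alt

/-- The alternating group of degree nineteen. -/
abbrev A19 := ↥(alternatingGroup (Fin 19))

/-- A permutation from its table and the inverse table. -/
def p19 (f g : Fin 19 → Fin 19) (h₁ : ∀ x, g (f x) = x) (h₂ : ∀ x, f (g x) = x) : Equiv.Perm (Fin 19) :=
  ⟨f, g, h₁, h₂⟩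

/-- Characters of two elements of order `p` and one of order `q`. -/
abbrev Cm (p q : ℕ) := (Fin 2 → ZMod p) × ZMod q

/-- The character carried by a permutation with exponents. -/
def mv {p q : ℕ} (s : Fin 2 → Fin 2) (e : Fin 2 → ℕ) (b : ℕ) (c : Cm p q) : Cm p q :=
  (fun l => ∑ i : Fin 2, if s i = l then (e i : ZMod p) * c.1 i else 0, (b : ZMod q) * c.2)

/-- The class of a character: the numbers of nontrivial values. -/
def cls {p q : ℕ} (c : Cm p q) : Fin 6 :=
  ⟨2 * ((if c.1 0 = 0 then 0 else 1) + (if c.1 1 = 0 then 0 else 1)) + (if c.2 = 0 then 0 else 1),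
    by split_ifs <;> omega⟩

/-- The standard character of a class. -/
def rep {p q : ℕ} (a : Fin 6) : Cm p q :=
  (fun i => if i.val < a.val / 2 then 1 else 0, if a.val % 2 = 1 then 1 else 0)

/-- The rank of a character in a list. -/
def rk {q : ℕ} (p : ℕ) (l : List ℕ) (c : Cm p q) : ℕ :=
  l.getD ((c.1 0).val + p * (c.1 1).val + p * p * c.2.val) 0

/-- Two elements of order `p` and one of order `q`, inverted together, with permutations acting on them. -/
structure Sys {A : Type*} [Group A] (p q : ℕ) (a : Fin 2 → A) (b g₀ : A) {k : ℕ} (gen : Fin k → A)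
    (S : Fin k → Fin 2 → Fin 2) (E E' : Fin k → Fin 2 → ℕ) (B B' : Fin k → ℕ) : Prop where
  ord : (∀ i, a i ^ p = 1 ∧ g₀ * a i * g₀⁻¹ = (a i)⁻¹) ∧ b ^ q = 1 ∧ g₀ * b * g₀⁻¹ = b⁻¹
  ne : (∀ i, a i ≠ 1) ∧ b ≠ 1 ∧ a 0 * a 1 ≠ 1
  comm : (∀ i j, a i * a j = a j * a i) ∧ ∀ i, a i * b = b * a i
  gen_comm : ∀ j, gen j * g₀ = g₀ * gen j
  gen_act : ∀ j, (∀ i, gen j * a i * (gen j)⁻¹ = a (S j i) ^ E j i) ∧ gen j * b * (gen j)⁻¹ = b ^ B j
  inj : ∀ j, Function.Injective (S j)
  unit : ∀ j, (∀ i, (E j i : ZMod p) * (E' j i : ZMod p) = 1) ∧ (B j : ZMod q) * (B' j : ZMod q) = 1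
  flip : ∃ j, S j 0 = 0 ∧ S j 1 = 1 ∧ E j 0 + 1 = p ∧ E j 1 = 1

/-- The entry of a table. -/
def ent (T : List (List ℕ)) (r : ℕ) (a : Fin 6) : ℕ := (T.getD r []).getD a.val 0

/-- The numbers of characters in each class at the levels of the products. -/
structure Tables (p q : ℕ) [NeZero p] [NeZero q] (T : List (List ℕ)) : Prop where
  all : ∀ a, (Finset.univ.filter fun c : Cm p q => cls c = a).card = ent T 0 a
  fst : ∀ a, (Finset.univ.filter fun c : Cm p q => c.1 0 = 0 ∧ cls c = a).card = ent T 1 a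
  prd : ∀ a, (Finset.univ.filter fun c : Cm p q => c.1 0 + c.1 1 = 0 ∧ cls c = a).card = ent T 2 a
  snd : ∀ a, (Finset.univ.filter fun c : Cm p q => c.2 = 0 ∧ cls c = a).card = ent T 3 a
  both : ∀ a, (Finset.univ.filter fun c : Cm p q => (c.1 0 = 0 ∧ c.2 = 0) ∧ cls c = a).card = ent T 4 a
  fst_eq : ∀ j : ZMod p, j ≠ 0 → ∀ a, (Finset.univ.filter fun c : Cm p q => c.1 0 = j ∧ cls c = a).card =
    (Finset.univ.filter fun c : Cm p q => c.1 0 = 1 ∧ cls c = a).card
  prd_eq : ∀ j : ZMod p, j ≠ 0 → ∀ a,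
    (Finset.univ.filter fun c : Cm p q => c.1 0 + c.1 1 = j ∧ cls c = a).card =
    (Finset.univ.filter fun c : Cm p q => c.1 0 + c.1 1 = 1 ∧ cls c = a).card
  snd_eq : ∀ j : ZMod q, j ≠ 0 → ∀ a, (Finset.univ.filter fun c : Cm p q => c.2 = j ∧ cls c = a).card =
    (Finset.univ.filter fun c : Cm p q => c.2 = 1 ∧ cls c = a).card

end Cfsg.Lib.Chev.E8Alt
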