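import Cfsg.Agent.Lib.Chev.E8Alt.Eig
import Cfsg.Agent.Lib.Chev.G2Alt.Monomial

/-!
The eigenspace dimensions of a monomial element of prime order on the adjoint module, from a certificate on
the orbits of the roots and the action on the toral coordinates.
-/

set_option autoImplicit false
set_option linter.unusedSectionVars false

namespace Cfsg.Lib.Chev.E8Alt

open Cfsg.Lie Module Cfsg.Lib.Linear.AltDeg Cfsg.Lib.Chev.G2Alt
open scoped Matrix

/-- A certificate for a word: the fixed roots, representatives of the moving orbits, fixed and generating vectors of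
the toral coordinates, and the coefficients expressing them. -/
structure MonoData where
  w : List ℕ
  Fx : List ℕ
  R : List ℕ
  U : List (List ℤ)
  G : List (List ℤ)
  e : ℕ
  cu : List (List ℤ)
  ck : List (List ℤ)

/-- A list of integers as a vector. -/
def vecOf (n : ℕ) (l : List ℤ) : Fin n → ℤ := fun k => l.getD k.val 0

/-- An integral combination. -/
def comb (n : ℕ) (cs : List ℤ) (vs : List (Fin n → ℤ)) : Fin n → ℤ :=
  fun k => ((cs.zip vs).map fun p => p.1 * p.2 k).sum

/-- The integral action on the toral coordinates. -/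
def cartW (D : ChevalleyDatum) (T : Tbl) (w : List ℕ) : Matrix (Fin D.rank) (Fin D.rank) ℤ :=
  (w.map (cartBlock D T)).prod

/-- The action of a word on integral toral coordinates, one reflection after the other. -/
def cartAct (D : ChevalleyDatum) (T : Tbl) (w : List ℕ) (v : Fin D.rank → ℤ) : Fin D.rank → ℤ :=
  w.foldr (fun i u => fun a => if a.val = i then u a - ∑ c : Fin D.rank, T.cartan c (T.simp' i) * u c else u a) v

/-- The powers of the action on a vector. -/
def cartPows (D : ChevalleyDatum) (T : Tbl) (ℓ : ℕ) (w : List ℕ) (v : Fin D.rank → ℤ) : List (Fin D.rank → ℤ) :=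
  (List.range ℓ).map fun i => (cartAct D T w)^[i] v

/-- The vectors spanning the toral coordinates. -/
def MonoData.gens (D : ChevalleyDatum) (T : Tbl) (ℓ : ℕ) (d : MonoData) : List (Fin D.rank → ℤ) :=
  d.U.map (vecOf D.rank) ++ (d.G.map fun g => cartPows D T ℓ d.w (vecOf D.rank g)).flatten

/-- The certificate check. -/
structure MonoOK (D : ChevalleyDatum) (T : Tbl) (ℓ : ℕ) (d : MonoData) : Prop where
  word : ∀ i ∈ d.w, i < D.rank
  fixed : ∀ r ∈ d.Fx, r < D.nroots ∧ wperm T d.w r = r
  reps : ∀ r ∈ d.R, r < D.nroots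
  cover : ∀ r < D.nroots, r ∈ d.Fx ∨ ∃ a ∈ d.R, ∃ i < ℓ, (fun s => wperm T d.w s)^[i] a = r
  count : ℓ * d.R.length + d.Fx.length + d.U.length + (ℓ - 1) * d.G.length = D.rank + D.nroots
  fixU : ∀ u ∈ d.U, cartAct D T d.w (vecOf D.rank u) = vecOf D.rank u
  sumG : ∀ j : Fin d.G.length, (fun k => ((cartPows D T ℓ d.w (vecOf D.rank (d.G.getD j.val []))).map
      fun v => v k).sum) = comb D.rank (d.cu.getD j.val []) (d.U.map (vecOf D.rank))
  span : ∀ k : Fin D.rank, (fun a => if a = k then ((ℓ : ℤ) ^ d.e) else 0) =
      comb D.rank (d.ck.getD k.val []) (d.gens D T ℓ)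

variable {D : ChevalleyDatum} {T : Tbl} {F : Type*} [Field F] (C : Cert D T)

omit [Field F] in
theorem cartAct_eq (w : List ℕ) (v : Fin D.rank → ℤ) : cartAct D T w v = cartW D T w *ᵥ v := by
  induction w with
  | nil => simp [cartAct, cartW]
  | cons i w ih =>
    show (fun a => if a.val = i then cartAct D T w v a -
      ∑ c : Fin D.rank, T.cartan c (T.simp' i) * cartAct D T w v c else cartAct D T w v a) = _
    rw [ih, show cartW D T (i :: w) = cartBlock D T i * cartW D T w by simp [cartW], ← Matrix.mulVec_mulVec]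
    funext a
    simp only [cartBlock, Matrix.mulVec, dotProduct, Matrix.of_apply, sub_mul, Finset.sum_sub_distrib, ite_mul,
      one_mul, zero_mul, Finset.sum_ite_eq, Finset.mem_univ, if_true]
    split_ifs with h <;> simp [cartW, Matrix.mulVec, dotProduct]

include C

/-- The adjoint operator of a group element. -/
noncomputable def adj (g : GL D.Idx F) : End F (D.Idx → F) := Matrix.toLinAlgEquiv' (g : Matrix D.Idx D.Idx F)

/-- A root vector. -/
noncomputable def rootVec (r : ℕ) : D.Idx → F := fun i => Sum.elim (fun _ => 0) (fun s => if s.val = r then 1 else 0) i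

/-- A toral vector. -/
noncomputable def cartVec (v : Fin D.rank → ℤ) : D.Idx → F := Sum.elim (fun a => (v a : F)) fun _ => 0

omit C in
theorem adj_pow (g : GL D.Idx F) (i : ℕ) : adj g ^ i = adj (g ^ i) := by
  simp [adj, Units.val_pow_eq_pow_val, map_pow]

theorem adj_root {w : List ℕ} (hw : IsWord D w) (c : Fin D.rank → Fˣ) (s : Fin D.nroots) :
    adj (wnu C F w * torusHom D T F c) (rootVec (D := D) s.val) =
      (((wnu C F w * torusHom D T F c : GL D.Idx F) : Matrix D.Idx D.Idx F)
        (Sum.inr ⟨_, wperm_lt C hw s.2⟩) (Sum.inr s)) • rootVec (D := D) (wperm T w s) := by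
  have hm := isMono_mul_diag C (isMono_wnu C (F := F) hw) (h := torusHom D T F c)
    (by rw [← torusHom_range C]; exact ⟨c, rfl⟩)
  have hcol : rootVec (D := D) (F := F) s.val = Pi.single (Sum.inr s) 1 := by
    funext i
    rcases i with a | a
    · simp [rootVec]
    · simp [rootVec, Pi.single_apply, Fin.ext_iff]
  rw [hcol, adj, Matrix.toLinAlgEquiv'_apply, Matrix.mulVec_single_one]
  funext i
  rcases i with a | a
  · simp only [Matrix.col_apply, Pi.smul_apply, rootVec, Sum.elim_inl, smul_zero]
    exact hm.2.1 a s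
  · simp only [Matrix.col_apply, Pi.smul_apply, rootVec, Sum.elim_inr, smul_eq_mul]
    split_ifs with h
    · rw [mul_one, show a = ⟨_, wperm_lt C hw s.2⟩ from Fin.ext h]
    · rw [mul_zero]; by_contra h0; exact h ((hm.2.2 a s).1 h0)

theorem adj_cart {w : List ℕ} (hw : IsWord D w) (c : Fin D.rank → Fˣ) (v : Fin D.rank → ℤ) :
    adj (wnu C F w * torusHom D T F c) (cartVec (D := D) v) = cartVec (D := D) (cartAct D T w v) := by
  have hm := isMono_wnu C (F := F) hw
  rw [adj, Matrix.toLinAlgEquiv'_apply, Units.val_mul, ← Matrix.mulVec_mulVec, coe_torusHom, scal, cartAct_eq]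
  have h1 : (Matrix.diagonal fun j : D.Idx => Sum.elim (fun _ => (1 : F)) (fun s => chr T D (extend' c) s.val) j) *ᵥ
      cartVec (D := D) v = cartVec (D := D) v := by
    funext i; rcases i with a | a <;> simp [Matrix.mulVec_diagonal, cartVec]
  rw [h1]
  funext i
  simp only [Matrix.mulVec, dotProduct, Fintype.sum_sum_type, cartVec, Sum.elim_inl, Sum.elim_inr, mul_zero,
    Finset.sum_const_zero, add_zero]
  rcases i with a | a
  · simp only [Sum.elim_inl, (wnu_entries (F := F) C hw).1, cartW, Int.cast_sum, Int.cast_mul]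
  · simp [hm.1]

theorem cartVec_comb (cs : List ℤ) (vs : List (Fin D.rank → ℤ)) :
    cartVec (D := D) (F := F) (comb D.rank cs vs) =
      ((cs.zip vs).map fun p => (p.1 : F) • cartVec (D := D) p.2).sum := by
  show cartVec (D := D) (fun k => ((cs.zip vs).map fun p => p.1 * p.2 k).sum) = _
  generalize cs.zip vs = l
  induction l with
  | nil => funext i; rcases i with a | a <;> simp [cartVec]
  | cons p l ih =>
    rw [List.map_cons, List.sum_cons, ← ih]
    funext i; rcases i with a | a <;> simp [cartVec]

omit C in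
theorem cartVec_sum (vs : List (Fin D.rank → ℤ)) :
    cartVec (D := D) (F := F) (fun k => (vs.map fun v => v k).sum) = (vs.map (cartVec (D := D))).sum := by
  induction vs with
  | nil => funext i; rcases i with a | a <;> simp [cartVec]
  | cons p l ih =>
    rw [List.map_cons, List.sum_cons, ← ih]
    funext i; rcases i with a | a <;> simp [cartVec]

/-- The scalar at a fixed root. -/
noncomputable def entry (g : GL D.Idx F) (r : ℕ) : F :=
  if h : r < D.nroots then (g : Matrix D.Idx D.Idx F) (Sum.inr ⟨r, h⟩) (Sum.inr ⟨r, h⟩) else 0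

theorem adj_fixed {w : List ℕ} (hw : IsWord D w) (c : Fin D.rank → Fˣ) {r : ℕ} (hr : r < D.nroots)
    (h : wperm T w r = r) :
    adj (wnu C F w * torusHom D T F c) (rootVec (D := D) r) =
      entry (wnu C F w * torusHom D T F c) r • rootVec (D := D) r := by
  have e := adj_root C hw c ⟨r, hr⟩
  simp only [h] at e
  rw [e, entry, dif_pos hr]

theorem entry_root {w : List ℕ} (hw : IsWord D w) (c : Fin D.rank → Fˣ) {r : ℕ} (hr : r < D.nroots)
    (h : wperm T w r = r) {n : ℕ} (hn : (wnu C F w * torusHom D T F c) ^ n = 1) :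
    entry (wnu C F w * torusHom D T F c) r ^ n = 1 := by
  have hp : ∀ i : ℕ, (adj (wnu C F w * torusHom D T F c) ^ i) (rootVec (D := D) r) =
      entry (wnu C F w * torusHom D T F c) r ^ i • rootVec (D := D) r := by
    intro i
    induction i with
    | zero => simp
    | succ i ih => rw [pow_succ', End.mul_apply, ih, map_smul, adj_fixed C hw c hr h, smul_smul, ← pow_succ]
  have e := hp n
  rw [adj_pow, hn, show adj (1 : GL D.Idx F) = 1 by simp [adj]] at e
  have e2 := congrFun e (Sum.inr ⟨r, hr⟩)
  simpa [rootVec] using e2.symm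

theorem finrank_eig_mono [DecidableEq F] {ℓ : ℕ} [NeZero ℓ] {ζ : F} (hζ : IsPrimitiveRoot ζ ℓ) (hm : (ℓ : F) ≠ 0) {d : MonoData}
    (hd : MonoOK D T ℓ d) (c : Fin D.rank → Fˣ) (hg : (wnu C F d.w * torusHom D T F c) ^ ℓ = 1) (j : ZMod ℓ) :
    finrank F (eig ζ (adj (wnu C F d.w * torusHom D T F c)) j) =
      (if j = 0 then d.U.length else d.G.length) + d.R.length +
        (d.Fx.countP fun r => decide (entry (wnu C F d.w * torusHom D T F c) r = rootPow ζ j)) := by
  classical
  set g := wnu C F d.w * torusHom D T F c with hgdef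
  set x := adj g with hxdef
  have hx : x ^ ℓ = 1 := by rw [hxdef, adj_pow, hg]; simp [adj]
  have hw : IsWord D d.w := hd.word
  let U : ZMod ℓ → List (D.Idx → F) := fun i =>
    (if i = 0 then d.U.map (fun u => cartVec (D := D) (vecOf D.rank u))
      else d.G.map (fun v => proj ζ x i (cartVec (D := D) (vecOf D.rank v)))) ++
    d.R.map (fun r => proj ζ x i (rootVec (D := D) r)) ++
    (d.Fx.filter fun r => decide (entry g r = rootPow ζ i)).map (rootVec (D := D))
  have hcount : ∀ i, (U i).length = (if i = 0 then d.U.length else d.G.length) + d.R.length +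
      (d.Fx.countP fun r => decide (entry g r = rootPow ζ i)) := fun i => by
    simp only [U, List.length_append, List.length_map, apply_ite List.length, List.countP_eq_length_filter]
  have hfix : ∀ r ∈ d.Fx, ∃ i : ZMod ℓ, entry g r = rootPow ζ i := fun r hr => by
    obtain ⟨i, hi, e⟩ := hζ.eq_pow_of_pow_eq_one (entry_root C hw c (hd.fixed r hr).1 (hd.fixed r hr).2 hg)
    exact ⟨(i : ZMod ℓ), by rw [rootPow, ZMod.val_natCast_of_lt hi, e]⟩
  have heig : ∀ i, ∀ v ∈ U i, v ∈ eig ζ x i := by
    intro i v hv
    simp only [U, List.mem_append, List.mem_map, List.mem_filter, decide_eq_true_eq] at hv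
    rcases hv with (hv | ⟨r, -, rfl⟩) | ⟨r, ⟨hr, he⟩, rfl⟩
    · split_ifs at hv with h0
      · obtain ⟨u, hu, rfl⟩ := List.mem_map.1 hv
        rw [mem_eig, h0, rootPow_zero, one_smul, hxdef, hgdef, adj_cart C hw, hd.fixU u hu]
      · obtain ⟨u, -, rfl⟩ := List.mem_map.1 hv
        exact mem_eig.2 (proj_eigen hζ hx i _)
    · exact mem_eig.2 (proj_eigen hζ hx i _)
    · rw [mem_eig, hxdef, hgdef, adj_fixed C hw c (hd.fixed r hr).1 (hd.fixed r hr).2, ← hgdef, he]
  refine (finrank_eig_of_span hζ x U heig ?_ ?_ j).trans (hcount j)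
  · -- the number
    have hF : ∑ i : ZMod ℓ, (d.Fx.countP fun r => decide (entry g r = rootPow ζ i)) = d.Fx.length := by
      revert hfix
      generalize d.Fx = L
      intro hfix
      induction L with
      | nil => simp
      | cons a L ih =>
        obtain ⟨i₀, h0⟩ := hfix a (by simp)
        simp only [List.countP_cons, Finset.sum_add_distrib, ih fun r hr => hfix r (List.mem_cons_of_mem _ hr),
          List.length_cons, decide_eq_true_eq]
        rw [Finset.sum_eq_single i₀ (fun b _ hb => if_neg fun e => hb (rootPow_injective hζ (e.symm.trans h0)))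
          (by simp), if_pos h0]
    simp only [hcount, Finset.sum_add_distrib, hF]
    rw [Finset.sum_const, Finset.card_univ, ZMod.card, smul_eq_mul, Finset.sum_ite, Finset.sum_const, Finset.sum_const,
      show (Finset.univ.filter fun i : ZMod ℓ => i = 0).card = 1 by simp [Finset.filter_eq'],
      show (Finset.univ.filter fun i : ZMod ℓ => ¬ i = 0).card = ℓ - 1 by simp [Finset.filter_ne'],
      smul_eq_mul, smul_eq_mul, one_mul]
    have := hd.count
    simp [ChevalleyDatum.Idx] at *
    omega
  · -- spanning
    set S := ⨆ i, Submodule.span F {v | v ∈ U i}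
    have hmem : ∀ i, ∀ v ∈ U i, v ∈ S := fun i v hv =>
      Submodule.mem_iSup_of_mem i (Submodule.subset_span hv)
    have hinv : ∀ v ∈ S, x v ∈ S := by
      refine fun v hv => (iSup_le fun i => Submodule.span_le.2 fun u hu => ?_ : S ≤ S.comap x) hv
      have hu' : u ∈ eig ζ x i := heig i u hu
      show x u ∈ S
      rw [mem_eig.1 hu']
      exact S.smul_mem _ (hmem i u hu)
    have hpow : ∀ (n : ℕ), ∀ v ∈ S, (x ^ n) v ∈ S := by
      intro n
      induction n with
      | zero => exact fun v hv => hv
      | succ n ih => exact fun v hv => by rw [pow_succ', End.mul_apply]; exact hinv _ (ih v hv)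
    have hcart : ∀ (n : ℕ) (v : Fin D.rank → ℤ), (x ^ n) (cartVec (D := D) v) =
        cartVec (D := D) ((cartAct D T d.w)^[n] v) := by
      intro n v
      induction n with
      | zero => simp
      | succ n ih => rw [pow_succ', End.mul_apply, ih, hxdef, hgdef, adj_cart C hw, Function.iterate_succ_apply']
    have hUc : ∀ u ∈ d.U, cartVec (D := D) (F := F) (vecOf D.rank u) ∈ S := fun u hu =>
      hmem 0 _ (List.mem_append_left _ (List.mem_append_left _ (by simpa using ⟨u, hu, rfl⟩)))
    have hcomb : ∀ (cs : List ℤ) (vs : List (Fin D.rank → ℤ)), (∀ v ∈ vs, cartVec (D := D) (F := F) v ∈ S) →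
        cartVec (D := D) (F := F) (comb D.rank cs vs) ∈ S := by
      intro cs vs hvs
      rw [cartVec_comb C]
      refine S.list_sum_mem ?_
      intro y hy
      obtain ⟨p, hp, rfl⟩ := List.mem_map.1 hy
      exact S.smul_mem _ (hvs _ (List.of_mem_zip (a := p.1) (b := p.2) hp).2)
    have hG : ∀ v ∈ d.G, cartVec (D := D) (F := F) (vecOf D.rank v) ∈ S := by
      intro v hv
      obtain ⟨k, hk, rfl⟩ := List.getElem_of_mem hv
      rw [← proj_sum (m := ℓ) (ζ := ζ) hζ hm (cartVec (D := D) (F := F) (vecOf D.rank d.G[k])) (x := x)]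
      refine Submodule.sum_mem _ fun i _ => ?_
      by_cases h0 : i = 0
      · subst h0
        rw [proj_apply, rootPow_zero]
        refine S.smul_mem _ ?_
        have e : ∑ n ∈ Finset.range ℓ, ((1 : F)⁻¹ ^ n) • (x ^ n) (cartVec (D := D) (vecOf D.rank d.G[k])) =
            cartVec (D := D) (comb D.rank (d.cu.getD k []) (d.U.map (vecOf D.rank))) := by
          rw [← hd.sumG ⟨k, hk⟩, cartVec_sum, List.getD_eq_getElem _ _ hk]
          simp only [inv_one, one_pow, one_smul, hcart, cartPows, List.map_map, Function.comp_def]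
          rfl
        rw [e]
        exact hcomb _ _ fun u hu => by
          obtain ⟨u', hu', rfl⟩ := List.mem_map.1 hu
          exact hUc u' hu'
      · exact hmem i _ (List.mem_append_left _ (List.mem_append_left _ (by
          rw [if_neg h0]; exact List.mem_map.2 ⟨_, List.getElem_mem hk, rfl⟩)))
    have hR : ∀ a ∈ d.R, ∀ n : ℕ, rootVec (D := D) (F := F) ((fun s => wperm T d.w s)^[n] a) ∈ S := by
      intro a ha n
      induction n with
      | zero =>
        rw [Function.iterate_zero_apply, ← proj_sum (m := ℓ) (ζ := ζ) hζ hm (rootVec (D := D) (F := F) a) (x := x)]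
        exact Submodule.sum_mem _ fun i _ =>
          hmem i _ (List.mem_append_left _ (List.mem_append_right _ (List.mem_map.2 ⟨a, ha, rfl⟩)))
      | succ n ih =>
        rw [Function.iterate_succ_apply']
        have hlt : (fun s => wperm T d.w s)^[n] a < D.nroots := by
          clear ih
          induction n with
          | zero => exact hd.reps a ha
          | succ n ihn => rw [Function.iterate_succ_apply']; exact wperm_lt C hw ihn
        have e := adj_root C hw c ⟨_, hlt⟩
        have hne := ((isMono_mul_diag C (isMono_wnu C (F := F) hw) (h := torusHom D T F c)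
          (by rw [← torusHom_range C]; exact ⟨c, rfl⟩)).2.2 ⟨_, wperm_lt C hw hlt⟩ ⟨_, hlt⟩).2 rfl
        have h1 := hinv _ ih
        rw [hxdef, hgdef, e] at h1
        exact (S.smul_mem_iff hne).1 h1
    intro v _
    have hbasis : v = ∑ i : D.Idx, v i • Pi.single i (1 : F) := (pi_eq_sum_univ' v)
    rw [hbasis]
    refine Submodule.sum_mem _ fun i _ => S.smul_mem _ ?_
    rcases i with k | r
    · have h1 : (((ℓ : ℤ) ^ d.e : ℤ) : F) • Pi.single (M := fun _ : D.Idx => F) (Sum.inl k) (1 : F) ∈ S := by
        have e : (((ℓ : ℤ) ^ d.e : ℤ) : F) • Pi.single (M := fun _ : D.Idx => F) (Sum.inl k) (1 : F) =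
            cartVec (D := D) (comb D.rank (d.ck.getD k.val []) (d.gens D T ℓ)) := by
          rw [← hd.span k]
          funext i
          rcases i with a | a
          · simp only [cartVec, Sum.elim_inl, Pi.smul_apply, Pi.single_apply, Sum.inl.injEq, smul_eq_mul, mul_ite,
              mul_one, mul_zero, apply_ite (Int.cast : ℤ → F), Int.cast_zero]
          · simp [cartVec]
        rw [e]
        refine hcomb _ _ fun u hu => ?_
        simp only [MonoData.gens, cartPows, List.mem_append, List.mem_map, List.mem_flatten, List.mem_range] at hu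
        rcases hu with ⟨u, hu, rfl⟩ | ⟨_, ⟨v, hv, rfl⟩, hu⟩
        · exact hUc u hu
        · obtain ⟨n, -, rfl⟩ := List.mem_map.1 hu
          rw [← hcart]
          exact hpow n _ (hG v hv)
      exact (S.smul_mem_iff (by push_cast; exact pow_ne_zero _ hm)).1 h1
    · have e : Pi.single (M := fun _ : D.Idx => F) (Sum.inr r) (1 : F) = rootVec (D := D) r.val := by
        funext i
        rcases i with a | a
        · simp [rootVec]
        · simp [rootVec, Pi.single_apply, Fin.ext_iff]
      rw [e]
      rcases hd.cover r r.2 with h | ⟨a, ha, n, -, hn⟩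
      · obtain ⟨i, hi⟩ := hfix _ h
        exact hmem i _ (List.mem_append_right _ (List.mem_map.2 ⟨_, List.mem_filter.2 ⟨h, decide_eq_true hi⟩, rfl⟩))
      · rw [← hn]; exact hR a ha n

end Cfsg.Lib.Chev.E8Alt
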