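import Cfsg.Agent.Lib.Chev.E8Alt.Check
import Cfsg.Agent.Lib.Chev.AltSection.Torus

/-!
Elements of prime order in a Chevalley group over a field with roots of unity of high order are conjugate to
monomial elements of few shapes: the preimage of a Sylow subgroup of the Weyl group in the monomial group has
index prime to the prime.
-/

set_option autoImplicit false
set_option linter.unusedSectionVars false

namespace Cfsg.Lib.Chev.E8Alt

open Cfsg.Lie Cfsg.Lib.Chev.G2Alt Finset

/-- A Sylow subgroup of a Weyl group as words, with its closure and conjugations of elements to representatives. -/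
structure SylData where
  L : List (List ℕ)
  gw : List (List ℕ)
  clos : List (List ℕ)
  par : List (ℕ × ℕ)
  keys : List (List ℕ)
  cert : List (ℕ × List ℕ)
  reps : List (List ℕ)

/-- The images of the simple roots. -/
def key (D : ChevalleyDatum) (T : Tbl) (w : List ℕ) : List ℕ :=
  (List.range D.rank).map fun k => wperm T w (T.simp' k)

/-- The words are words. -/
def chkWords (D : ChevalleyDatum) (d : SylData) : Bool :=
  (d.L ++ d.gw ++ d.reps ++ d.cert.map Prod.snd).all fun w => w.all fun i => decide (i < D.rank)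

/-- Closure under the generators. -/
def chkClos (D : ChevalleyDatum) (T : Tbl) (d : SylData) : Bool :=
  (List.range d.L.length).all fun k => (List.range d.gw.length).all fun j =>
    decide ((d.clos.getD k []).getD j 0 < d.L.length) &&
      (key D T (d.gw.getD j [] ++ d.L.getD k []) == key D T (d.L.getD ((d.clos.getD k []).getD j 0) []))

/-- Generation by the generators. -/
def chkPar (D : ChevalleyDatum) (T : Tbl) (d : SylData) : Bool :=
  decide (d.L.getD 0 [] = []) && decide (0 < d.L.length) && (List.range d.L.length).all fun k => (k == 0) ||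
    (decide ((d.par.getD k (0, 0)).1 < k) && decide ((d.par.getD k (0, 0)).2 < d.gw.length) &&
      ((d.clos.getD (d.par.getD k (0, 0)).1 []).getD (d.par.getD k (0, 0)).2 0 == k))

/-- The elements are distinct. -/
def chkKeys (D : ChevalleyDatum) (T : Tbl) (d : SylData) : Bool :=
  (d.L.map (key D T) == d.keys) && decide d.keys.Nodup

/-- Every element of order dividing the prime is conjugate to a representative. -/
def chkCert (D : ChevalleyDatum) (T : Tbl) (ℓ : ℕ) (d : SylData) : Bool :=
  (List.range d.L.length).all fun k =>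
    if (d.cert.getD k (0, [])).1 = d.reps.length then key D T (List.replicate ℓ (d.L.getD k [])).flatten != key D T []
    else decide ((d.cert.getD k (0, [])).1 < d.reps.length) &&
      (key D T ((d.cert.getD k (0, [])).2 ++ d.reps.getD (d.cert.getD k (0, [])).1 [] ++
        (d.cert.getD k (0, [])).2.reverse) == key D T (d.L.getD k []))

variable {D : ChevalleyDatum} {T : Tbl} {F : Type*} [Field F] (C : Cert D T) (K : FullCert D T)

omit [Field F] in
theorem key_eq {v w : List ℕ} (h : key D T v = key D T w) :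
    ∀ k < D.rank, wperm T v (T.simp' k) = wperm T w (T.simp' k) := fun k hk => by
  have := congrArg (fun l => l.getD k 0) h
  simpa [key, List.getD_eq_getElem?_getD, hk] using this

include C

theorem key_of_same {v w : List ℕ} (hv : IsWord D v) (hw : IsWord D w)
    (h : (wnu C F v)⁻¹ * wnu C F w ∈ D.diagonalSubgroup F) : key D T v = key D T w :=
  List.map_congr_left fun k hk => perm_of_same C hv hw h (C.spec.simp_lt k (List.mem_range.1 hk))

include K

theorem exists_diag {v w : List ℕ} (hv : IsWord D v) (hw : IsWord D w) (h : key D T v = key D T w) :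
    ∃ e ∈ D.diagonalSubgroup F, wnu C F w = wnu C F v * e :=
  ⟨_, same_of_perm C K hv hw (key_eq h), by group⟩

variable [Finite F]

/-- An element of order dividing the prime is conjugate to a representative times a diagonal element. -/
theorem exists_mono {Ls : List WLevel} (hW : chkWeyl T Ls = true) {ℓ : ℕ} [hℓ : Fact ℓ.Prime] {d : SylData}
    (h1 : chkWords D d = true) (h2 : chkClos D T d = true) (h3 : chkPar D T d = true) (h4 : chkKeys D T d = true)
    (h5 : chkCert D T ℓ d = true) {a : ℕ} (hn : d.L.length = ℓ ^ a)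
    (hW' : ¬ ℓ ^ (a + 1) ∣ ∏ j ∈ range D.rank, (nth ([], []) Ls j).1.length)
    (hq : Nat.card F % ℓ ^ (a + 1) = 1) {g : GL D.Idx F} (hg : g ∈ D.group F) (hgl : g ^ ℓ = 1) :
    ∃ u ∈ d.reps, IsWord D u ∧ ∃ (x : GL D.Idx F) (c : Fin D.rank → Fˣ),
      x * g * x⁻¹ = wnu C F u * torusHom D T F c := by
  classical
  haveI : Finite (GL D.Idx F) := inferInstance
  simp only [chkWords, List.all_eq_true, List.mem_append, List.mem_map, decide_eq_true_eq] at h1
  simp only [chkClos, List.all_eq_true, List.mem_range, Bool.and_eq_true, decide_eq_true_eq, beq_iff_eq] at h2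
  simp only [chkPar, List.all_eq_true, List.mem_range, Bool.and_eq_true, Bool.or_eq_true, decide_eq_true_eq,
    beq_iff_eq] at h3
  simp only [chkKeys, Bool.and_eq_true, decide_eq_true_eq, beq_iff_eq] at h4
  simp only [chkCert, List.all_eq_true, List.mem_range] at h5
  set n := d.L.length with hnl
  have wL : ∀ k, IsWord D (d.L.getD k []) := fun k => by
    by_cases hk : k < n
    · exact fun i hi => h1 _ (Or.inl (Or.inl (Or.inl (by rw [List.getD_eq_getElem _ _ hk]; exact List.getElem_mem hk)))) i hi
    · rw [List.getD_eq_default _ _ (not_lt.1 hk)]; exact fun i hi => absurd hi List.not_mem_nil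
  have wg : ∀ j, IsWord D (d.gw.getD j []) := fun j => by
    by_cases hj : j < d.gw.length
    · exact fun i hi => h1 _ (Or.inl (Or.inl (Or.inr (by rw [List.getD_eq_getElem _ _ hj]; exact List.getElem_mem hj)))) i hi
    · rw [List.getD_eq_default _ _ (not_lt.1 hj)]; exact fun i hi => absurd hi List.not_mem_nil
  let S : Set (GL D.Idx F) := {x | ∃ k < n, ∃ e ∈ D.diagonalSubgroup F, x = wnu C F (d.L.getD k []) * e}
  have hgen : ∀ j < d.gw.length, ∀ x ∈ S, wnu C F (d.gw.getD j []) * x ∈ S := by
    rintro j hj x ⟨k, hk, e, he, rfl⟩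
    obtain ⟨hm, hkey⟩ := h2 k hk j hj
    obtain ⟨e', he', heq⟩ := exists_diag C K (F := F) (wL _) ((wg j).append (wL k)) hkey.symm
    refine ⟨_, hm, e' * e, mul_mem he' he, ?_⟩
    rw [← mul_assoc, ← wnu_append, heq, mul_assoc]
  have hdiag : ∀ e ∈ D.diagonalSubgroup F, ∀ x ∈ S, e * x ∈ S := by
    rintro e he x ⟨k, hk, e', he', rfl⟩
    refine ⟨k, hk, (wnu C F (d.L.getD k []))⁻¹ * e * wnu C F (d.L.getD k []) * e',
      mul_mem (conj_mem_diag C (wnu_mem C (wL k)) he).2 he', by group⟩
  have hleft : ∀ k, k < n → ∀ x ∈ S, wnu C F (d.L.getD k []) * x ∈ S := by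
    intro k
    induction k using Nat.strong_induction_on with
    | _ k ih =>
      intro hk x hx
      rcases (h3.2 k hk) with h0 | ⟨⟨hi, hj⟩, hc⟩
      · subst h0; rw [h3.1.1]; simpa [wnu] using hx
      · obtain ⟨-, hkey⟩ := h2 _ (hi.trans hk) _ hj
        rw [hc] at hkey
        obtain ⟨e, he, heq⟩ := exists_diag C K (F := F) ((wg (d.par.getD k (0, 0)).2).append
          (wL (d.par.getD k (0, 0)).1)) (wL k) hkey
        rw [heq, wnu_append, mul_assoc, mul_assoc]
        exact hgen _ hj _ (ih _ hi (hi.trans hk) _ (hdiag e he x hx))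
  have hmul : ∀ x ∈ S, ∀ y ∈ S, x * y ∈ S := by
    rintro _ ⟨k, hk, e, he, rfl⟩ y hy
    rw [mul_assoc]
    exact hleft k hk _ (hdiag e he y hy)
  have hone : (1 : GL D.Idx F) ∈ S := ⟨0, h3.1.2, 1, one_mem _, by rw [h3.1.1]; simp [wnu]⟩
  let M : Subgroup (GL D.Idx F) :=
    { carrier := S
      one_mem' := hone
      mul_mem' := fun hx hy => hmul _ hx _ hy
      inv_mem' := fun {x} hx => by
        obtain ⟨m, hm⟩ := Nat.exists_eq_add_of_le (orderOf_pos x)
        have e : x⁻¹ = x ^ m := inv_eq_of_mul_eq_one_right (by rw [← pow_succ', Nat.add_comm, ← hm, pow_orderOf_eq_one])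
        rw [e]
        clear hm e
        induction m with
        | zero => simpa using hone
        | succ m ih => rw [pow_succ]; exact hmul _ ih _ hx }
  have hMG : M ≤ D.group F := by
    rintro _ ⟨k, hk, e, he, rfl⟩
    exact mul_mem (monomial_le_group C (wnu_mem C (wL k))) (diag_le_group C he)
  have hcard : Nat.card M = n * Nat.card ↥(D.diagonalSubgroup F) := by
    let f : Fin n × ↥(D.diagonalSubgroup F) → M := fun p =>
      ⟨wnu C F (d.L.getD p.1.val []) * p.2, p.1.val, p.1.2, p.2, p.2.2, rfl⟩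
    have hf : Function.Bijective f := by
      refine ⟨?_, ?_⟩
      · rintro ⟨k, e⟩ ⟨k', e'⟩ h
        have h' : wnu C F (d.L.getD k.val []) * (e : GL D.Idx F) = wnu C F (d.L.getD k'.val []) * e' :=
          congrArg Subtype.val h
        have hd : (wnu C F (d.L.getD k.val []))⁻¹ * wnu C F (d.L.getD k'.val []) ∈ D.diagonalSubgroup F := by
          rw [eq_mul_inv_of_mul_eq h'.symm, ← mul_assoc, ← mul_assoc, inv_mul_cancel, one_mul]
          exact mul_mem e.2 (inv_mem e'.2)
        have hk := key_of_same C (wL _) (wL _) hd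
        have hkk : k = k' := by
          apply Fin.ext
          have hnd : (d.L.map (key D T)).Nodup := h4.1 ▸ h4.2
          refine (hnd.getElem_inj_iff (hi := by simp [← hnl]) (hj := by simp [← hnl])).1 ?_
          rw [List.getElem_map, List.getElem_map]
          rw [List.getD_eq_getElem d.L [] (hnl ▸ k.2), List.getD_eq_getElem d.L [] (hnl ▸ k'.2)] at hk
          exact hk
        subst hkk
        exact Prod.ext rfl (Subtype.ext (mul_left_cancel h'))
      · rintro ⟨x, k, hk, e, he, rfl⟩
        exact ⟨(⟨k, hk⟩, ⟨e, he⟩), rfl⟩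
    rw [← Nat.card_congr (Equiv.ofBijective f hf), Nat.card_prod, Nat.card_fin]
  let M' : Subgroup ↥(D.group F) := M.subgroupOf (D.group F)
  have hidx : ¬ ℓ ∣ M'.index := by
    intro hd
    have h := M'.card_mul_index
    rw [Nat.card_congr (Subgroup.subgroupOfEquivOfLe hMG).toEquiv, hcard, card_group C K (F := F) hW,
      show ∀ A B E I : ℕ, (n * B * I = A * B * E) = (B * (n * I) = B * (A * E)) from
        fun A B E I => by rw [mul_comm n B, mul_comm A B, mul_assoc, mul_assoc]] at h
    have h' := Nat.eq_of_mul_eq_mul_left Nat.card_pos h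
    apply hW'
    have hdd : ℓ ^ (a + 1) ∣ n * M'.index := by rw [hn, pow_succ]; exact Nat.mul_dvd_mul_left _ hd
    rw [h'] at hdd
    have hq' : (Nat.card F : ZMod (ℓ ^ (a + 1))) = 1 := by rw [← ZMod.natCast_mod, hq, Nat.cast_one]
    rw [← ZMod.natCast_eq_zero_iff] at hdd ⊢
    simpa [hq', Nat.cast_prod, Nat.cast_list_sum, List.map_map, Function.comp_def] using hdd
  have hPg : IsPGroup ℓ (Subgroup.zpowers (⟨g, hg⟩ : ↥(D.group F))) := by
    obtain ⟨j, -, hj⟩ := (Nat.dvd_prime_pow hℓ.out).1 (orderOf_dvd_of_pow_eq_one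
      (show (⟨g, hg⟩ : ↥(D.group F)) ^ ℓ ^ 1 = 1 from Subtype.ext (by simpa using hgl)))
    exact IsPGroup.of_card (n := j) (by rw [Nat.card_zpowers, hj])
  obtain ⟨t, ht⟩ : (MulAction.fixedPoints (Subgroup.zpowers (⟨g, hg⟩ : ↥(D.group F)))
      (↥(D.group F) ⧸ M')).Nonempty :=
    hPg.nonempty_fixed_point_of_prime_not_dvd_card _ (by rwa [← Subgroup.index_eq_card])
  induction t using QuotientGroup.induction_on with
  | H t =>
  have hmem : ((t⁻¹ * ⟨g, hg⟩ * t : ↥(D.group F)) : GL D.Idx F) ∈ S := by
    have := QuotientGroup.eq.1 (ht ⟨⟨g, hg⟩, Subgroup.mem_zpowers _⟩).symm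
    show _ ∈ M
    simpa [mul_assoc, M', Subgroup.mem_subgroupOf] using this
  obtain ⟨k, hk, e, he, hke⟩ := hmem
  have hc := h5 k hk
  have hpowl : (wnu C F (d.L.getD k []) * e) ^ ℓ = 1 := by
    rw [← hke, ← SubmonoidClass.coe_pow, show (t⁻¹ * ⟨g, hg⟩ * t) ^ ℓ = t⁻¹ * (⟨g, hg⟩ : ↥(D.group F)) ^ ℓ * t by
      simpa using conj_pow (a := t⁻¹) (b := (⟨g, hg⟩ : ↥(D.group F))) (i := ℓ),
      show (⟨g, hg⟩ : ↥(D.group F)) ^ ℓ = 1 from Subtype.ext (by simpa using hgl)]
    simp
  split_ifs at hc with hi
  · exfalso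
    obtain ⟨hwp, e', he', heq⟩ := monomial_pow C (wL k) he ℓ
    rw [hpowl] at heq
    refine bne_iff_ne.1 hc (key_of_same C (F := F) hwp (fun i hi' => absurd hi' List.not_mem_nil) ?_)
    rw [inv_eq_of_mul_eq_one_right heq.symm]
    simpa [wnu] using he'
  · rw [Bool.and_eq_true, decide_eq_true_eq, beq_iff_eq] at hc
    obtain ⟨hlt, hkey⟩ := hc
    set z := (d.cert.getD k (0, [])).2
    set u := d.reps.getD (d.cert.getD k (0, [])).1 []
    have hu : u ∈ d.reps := by rw [show u = _ from List.getD_eq_getElem _ _ hlt]; exact List.getElem_mem hlt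
    have wu : IsWord D u := fun i hi' => h1 _ (Or.inl (Or.inr hu)) i hi'
    have wz : IsWord D z := by
      by_cases hk' : k < d.cert.length
      · exact fun i hi' => h1 _ (Or.inr ⟨_, List.getElem_mem hk', (congrArg Prod.snd
          (List.getD_eq_getElem _ _ hk')).symm⟩) i hi'
      · simp only [z, List.getD_eq_default _ _ (not_lt.1 hk')]; exact fun i hi' => absurd hi' List.not_mem_nil
    obtain ⟨e', he', heq⟩ := exists_diag C K (F := F) ((wz.append wu).append wz.reverse) (wL k) hkey
    obtain ⟨y, hy⟩ : ∃ y, y = wnu C F z.reverse := ⟨_, rfl⟩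
    have hyz : wnu C F z * y ∈ D.diagonalSubgroup F := by
      rw [hy, ← wnu_append]
      refine wnu_mem_diag C K (wz.append wz.reverse) fun j hj => ?_
      rw [wperm_append]
      have := wperm_reverse C wz.reverse (C.spec.simp_lt j hj)
      rwa [List.reverse_reverse] at this
    have hyn : y ∈ D.monomialSubgroup F := hy ▸ wnu_mem C wz.reverse
    have hzn : wnu C F z ∈ D.monomialSubgroup F := wnu_mem C wz
    obtain ⟨δ, hδ⟩ : ∃ δ, δ = wnu C F z * y := ⟨_, rfl⟩
    rw [← hδ] at hyz
    have hun := wnu_mem C (F := F) wu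
    have hfin : y * (t⁻¹ * ⟨g, hg⟩ * t : ↥(D.group F)).val * y⁻¹ ∈
        {x | ∃ e ∈ D.diagonalSubgroup F, x = wnu C F u * e} := by
      rw [hke, heq, wnu_append, wnu_append, ← hy]
      refine ⟨(wnu C F u)⁻¹ * (y * wnu C F z) * wnu C F u * (y * (e' * e) * y⁻¹), mul_mem ?_ ?_, by group⟩
      · refine (conj_mem_diag C hun ?_).2
        have h' := (conj_mem_diag C hyn hyz).1
        rw [hδ] at h'
        simpa [mul_assoc] using h'
      · exact (conj_mem_diag C hyn (mul_mem he' he)).1
    obtain ⟨e'', he'', hfin⟩ := hfin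
    rw [← torusHom_range C] at he''
    obtain ⟨c, rfl⟩ := he''
    refine ⟨u, hu, wu, y * (t : GL D.Idx F)⁻¹, c, ?_⟩
    rw [← hfin]
    push_cast
    group

end Cfsg.Lib.Chev.E8Alt
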