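import Cfsg.Agent.Lib.Chev.E8Alt.ThreePerms

/-! Block permutations of six disjoint three-cycles. -/

set_option autoImplicit false
set_option maxRecDepth 100000

namespace Cfsg.Lib.Chev.E8Alt

/-- A conjugating block permutation, number 0. -/
def blkV0 : A18 :=
  ⟨p18 ![0, 1, 2, 9, 10, 11, 12, 13, 14, 3, 4, 5, 6, 7, 8, 15, 16, 17]
    ![0, 1, 2, 9, 10, 11, 12, 13, 14, 3, 4, 5, 6, 7, 8, 15, 16, 17] (by decide) (by decide),
    Equiv.Perm.mem_alternatingGroup.2 (by decide +kernel)⟩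

/-- A second conjugating block permutation, number 0. -/
def blkW0 : A18 :=
  ⟨p18 ![3, 4, 5, 9, 10, 11, 12, 13, 14, 0, 1, 2, 15, 16, 17, 6, 7, 8]
    ![9, 10, 11, 0, 1, 2, 15, 16, 17, 3, 4, 5, 6, 7, 8, 12, 13, 14] (by decide) (by decide),
    Equiv.Perm.mem_alternatingGroup.2 (by decide +kernel)⟩

/-- A conjugating block permutation, number 1. -/
def blkV1 : A18 :=
  ⟨p18 ![0, 1, 2, 6, 7, 8, 3, 4, 5, 9, 10, 11, 15, 16, 17, 12, 13, 14]
    ![0, 1, 2, 6, 7, 8, 3, 4, 5, 9, 10, 11, 15, 16, 17, 12, 13, 14] (by decide) (by decide),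
    Equiv.Perm.mem_alternatingGroup.2 (by decide +kernel)⟩

/-- A second conjugating block permutation, number 1. -/
def blkW1 : A18 :=
  ⟨p18 ![9, 10, 11, 12, 13, 14, 15, 16, 17, 0, 1, 2, 6, 7, 8, 3, 4, 5]
    ![9, 10, 11, 15, 16, 17, 12, 13, 14, 0, 1, 2, 3, 4, 5, 6, 7, 8] (by decide) (by decide),
    Equiv.Perm.mem_alternatingGroup.2 (by decide +kernel)⟩

/-- A conjugating block permutation, number 2. -/
def blkV2 : A18 :=
  ⟨p18 ![0, 1, 2, 3, 4, 5, 6, 7, 8, 9, 10, 11, 12, 13, 14, 15, 16, 17]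
    ![0, 1, 2, 3, 4, 5, 6, 7, 8, 9, 10, 11, 12, 13, 14, 15, 16, 17] (by decide) (by decide),
    Equiv.Perm.mem_alternatingGroup.2 (by decide +kernel)⟩

/-- A second conjugating block permutation, number 2. -/
def blkW2 : A18 :=
  ⟨p18 ![9, 10, 11, 12, 13, 14, 15, 16, 17, 0, 1, 2, 6, 7, 8, 3, 4, 5]
    ![9, 10, 11, 15, 16, 17, 12, 13, 14, 0, 1, 2, 3, 4, 5, 6, 7, 8] (by decide) (by decide),
    Equiv.Perm.mem_alternatingGroup.2 (by decide +kernel)⟩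

/-- The block permutations used. -/
def blk : Fin 9 → A18 := ![blkA, blkB, blkH, blkV0, blkV1, blkV2, blkW0, blkW1, blkW2]
/-- Their images of the cycles. -/
def blkS : Fin 9 → Fin 6 → Fin 6 :=
  ![![1, 2, 0, 3, 4, 5],
    ![0, 1, 2, 4, 5, 3],
    ![0, 2, 1, 3, 5, 4],
    ![0, 3, 4, 1, 2, 5],
    ![0, 2, 1, 3, 5, 4],
    ![0, 1, 2, 3, 4, 5],
    ![1, 3, 4, 0, 5, 2],
    ![3, 4, 5, 0, 2, 1],
    ![3, 4, 5, 0, 2, 1]]

theorem blk_action : ∀ k, blk k * inv18 = inv18 * blk k ∧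
    ∀ i, blk k * cA i * (blk k)⁻¹ = cA (blkS k i) := by decide +kernel

theorem blk_gen : ∀ i : Fin 3, blk ⟨3 + i.val, by omega⟩ * (blkB * blkA ^ i.val) * (blk ⟨3 + i.val, by omega⟩)⁻¹ *
    (blk ⟨6 + i.val, by omega⟩ * (blkB * blkA ^ i.val) * (blk ⟨6 + i.val, by omega⟩)⁻¹) = blkA := by decide +kernel

end Cfsg.Lib.Chev.E8Alt
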