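import Cfsg.Agent.Lib.Chev.E8Alt.ThreePerms

/-!
The multiplicities of six disjoint three-cycles on a space of dimension 248 are forced by the possible numbers
of fixed vectors.
-/

set_option autoImplicit false
set_option maxRecDepth 100000
set_option maxHeartbeats 2000000

namespace Cfsg.Lib.Chev.E8Alt

/-- Characters of six elements of order three. -/
abbrev C6 := Fin 6 → ZMod 3

/-- The number of nontrivial values. -/
def cls6 (χ : C6) : Fin 7 :=
  ⟨(Finset.univ.filter fun i => χ i ≠ 0).card, Nat.lt_succ_of_le ((Finset.card_le_univ _).trans_eq (Fintype.card_fin 6))⟩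

/-- The standard character of a class. -/
def rep6 (a : Fin 7) : C6 := fun i => if i.val < a.val then 1 else 0

/-- The value at the product of the first cycles. -/
def lvl6 (k : ℕ) (χ : C6) : ZMod 3 := ∑ i ∈ Finset.univ.filter (fun i : Fin 6 => i.val < k), χ i

/-- The character carried by a permutation with exponents. -/
def move6 (s : Fin 6 → Fin 6) (e : Fin 6 → ℕ) (χ : C6) : C6 :=
  fun l => ∑ i : Fin 6, if s i = l then (e i : ZMod 3) * χ i else 0

/-- A code for a character. -/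
def code6 (χ : C6) : ℕ := ∑ i : Fin 6, (χ i).val * 3 ^ i.val

/-- The action of the block cycle. -/
def rot6 (χ : C6) : C6 := ![χ 2, χ 0, χ 1, χ 3, χ 4, χ 5]

/-- The characters fixed by the block cycle without a zero. -/
def full6 (χ : C6) : Bool := decide (χ 0 = χ 1) && decide (χ 1 = χ 2) && decide (cls6 χ = 6)

/-- The characters outside the spanning set for the range of the block cycle minus one. -/
def out6 (χ : C6) : Bool :=
  full6 χ || (decide (code6 (rot6 χ) < code6 χ) && decide (code6 (rot6 (rot6 χ)) < code6 χ))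

theorem descent6 : ∀ χ : C6, χ = rep6 (cls6 χ) ∨
    ∃ k, code6 (move6 (monS k) (monE k) χ) < code6 χ ∧ cls6 (move6 (monS k) (monE k) χ) = cls6 χ := by
  decide +kernel

theorem move6_bij : ∀ k, Function.Injective (monS k) ∧ ∀ i, (monE k i : ZMod 3) * (monE k i : ZMod 3) = 1 := by
  decide +kernel

theorem twistS_bij : ∀ k, Function.Injective (twistS k) ∧ ∀ i, (twistE k i : ZMod 3) * (twistE k i : ZMod 3) = 1 := by
  decide +kernel

theorem lvl_card : ∀ (k : Fin 7) (a : Fin 7), (Finset.univ.filter fun χ : C6 => lvl6 k.val χ = 0 ∧ cls6 χ = a).card =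
    ([[1, 12, 60, 160, 240, 192, 64], [1, 10, 40, 80, 80, 32, 0], [1, 8, 26, 48, 64, 64, 32],
      [1, 6, 18, 46, 84, 72, 16], [1, 4, 16, 56, 86, 56, 24], [1, 2, 20, 60, 70, 70, 20],
      [1, 0, 30, 40, 90, 60, 22]].getD k.val []).getD a.val 0 := by
  decide +kernel

theorem lvl_card_one : ∀ (k : Fin 6) (a : Fin 7),
    (Finset.univ.filter fun χ : C6 => lvl6 (k.val + 1) χ = 1 ∧ cls6 χ = a).card =
      (Finset.univ.filter fun χ : C6 => lvl6 (k.val + 1) χ = 2 ∧ cls6 χ = a).card := by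
  decide +kernel

theorem out_card : ∀ a : Fin 7, (Finset.univ.filter fun χ : C6 => out6 χ = false ∧ cls6 χ = a).card =
    [1, 10, 44, 110, 164, 136, 32].getD a.val 0 := by
  decide +kernel

/-- The admissible numbers of fixed vectors. -/
def S3 : List ℕ := [80, 82, 84, 86, 88, 92, 102, 134]

/-- The check of all bounded multiplicities. -/
def chk6 : Bool :=
  (List.range 4).all fun m6 => (List.range 2).all fun m5 => (List.range 2).all fun m4 => (List.range 2).all fun m3 =>
    (List.range 5).all fun m2 => (List.range 21).all fun m1 =>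
      let r := 12 * m1 + 60 * m2 + 160 * m3 + 240 * m4 + 192 * m5 + 64 * m6
      let m0 := 248 - r
      decide (248 < r) ||
      !(S3.contains (m0 + 10 * m1 + 40 * m2 + 80 * m3 + 80 * m4 + 32 * m5) &&
        S3.contains (m0 + 8 * m1 + 26 * m2 + 48 * m3 + 64 * m4 + 64 * m5 + 32 * m6) &&
        S3.contains (m0 + 6 * m1 + 18 * m2 + 46 * m3 + 84 * m4 + 72 * m5 + 16 * m6) &&
        S3.contains (m0 + 4 * m1 + 16 * m2 + 56 * m3 + 86 * m4 + 56 * m5 + 24 * m6) &&
        S3.contains (m0 + 2 * m1 + 20 * m2 + 60 * m3 + 70 * m4 + 70 * m5 + 20 * m6) &&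
        S3.contains (m0 + 30 * m2 + 40 * m3 + 90 * m4 + 60 * m5 + 22 * m6)) ||
      (decide (m0 = 12) && decide (m1 = 4) && decide (m2 = 1) && decide (m3 = 0) && decide (m4 = 0) && decide (m5 = 0) &&
        decide (m6 = 2))

theorem chk6_ok : chk6 = true := by decide +kernel

/-- The multiplicities are forced. -/
theorem mult6_unique {M : Fin 7 → ℕ}
    (ht : M 0 + 12 * M 1 + 60 * M 2 + 160 * M 3 + 240 * M 4 + 192 * M 5 + 64 * M 6 = 248)
    (hd : ∀ k : Fin 6, ∑ a : Fin 7,
      (Finset.univ.filter fun χ : C6 => lvl6 (k.val + 1) χ = 0 ∧ cls6 χ = a).card * M a ∈ S3) :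
    M 0 = 12 ∧ M 1 = 4 ∧ M 2 = 1 ∧ M 3 = 0 ∧ M 4 = 0 ∧ M 5 = 0 ∧ M 6 = 2 := by
  have h := chk6_ok
  simp only [chk6, List.all_eq_true, List.mem_range] at h
  have h' := h (M 6) (by omega) (M 5) (by omega) (M 4) (by omega) (M 3) (by omega) (M 2) (by omega) (M 1) (by omega)
  have e : 248 - (12 * M 1 + 60 * M 2 + 160 * M 3 + 240 * M 4 + 192 * M 5 + 64 * M 6) = M 0 := by omega
  simp only [e, Bool.or_eq_true, decide_eq_true_eq, Bool.and_eq_true, Bool.not_eq_true'] at h'
  have hk : ∀ k : Fin 6, ∑ a : Fin 7, (([[1, 12, 60, 160, 240, 192, 64], [1, 10, 40, 80, 80, 32, 0],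
      [1, 8, 26, 48, 64, 64, 32], [1, 6, 18, 46, 84, 72, 16], [1, 4, 16, 56, 86, 56, 24], [1, 2, 20, 60, 70, 70, 20],
      [1, 0, 30, 40, 90, 60, 22]] : List (List ℕ)).getD (k.val + 1) []).getD a.val 0 * M a ∈ S3 := fun k => by
    have := hd k
    rw [Finset.sum_congr rfl fun a _ => by rw [lvl_card ⟨k.val + 1, by omega⟩ a]] at this
    exact this
  have e1 := hk 0; have e2 := hk 1; have e3 := hk 2; have e4 := hk 3; have e5 := hk 4; have e6 := hk 5
  simp [Fin.sum_univ_seven] at e1 e2 e3 e4 e5 e6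
  rcases h' with (h' | h') | h'
  · omega
  · simp [e1, e2, e3, e4, e5, e6] at h'
  · obtain ⟨⟨⟨⟨⟨⟨a, b⟩, c⟩, d⟩, e⟩, f⟩, g⟩ := h'
    exact ⟨a, b, c, d, e, f, g⟩

end Cfsg.Lib.Chev.E8Alt
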