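import Mathlib

/-!
Commuting elements of order three and determinant one in two dimensions.
-/

set_option autoImplicit false

namespace Cfsg.Lib.Chev.E8Alt

open Matrix

variable {F : Type*} [Field F]

theorem quad_two {x : Matrix (Fin 2) (Fin 2) F} (h3 : x ^ 3 = 1) (hd : x.det = 1) (hx : x ≠ 1) :
    x 0 0 + x 1 1 = -1 ∧ x * x + x + 1 = 0 := by
  rw [det_fin_two] at hd
  have hch : x * x = (x 0 0 + x 1 1) • x - 1 := by
    ext i j
    fin_cases i <;> fin_cases j <;> simp [Matrix.mul_apply, Fin.sum_univ_two]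
    · linear_combination -hd
    · ring
    · ring
    · linear_combination -hd
  obtain ⟨t, ht⟩ : ∃ t, t = x 0 0 + x 1 1 := ⟨_, rfl⟩
  rw [← ht] at hch ⊢
  have e : (t ^ 2 - 1) • x = (t + 1) • (1 : Matrix (Fin 2) (Fin 2) F) := by
    have h1 : x ^ 3 = (t ^ 2 - 1) • x - t • (1 : Matrix (Fin 2) (Fin 2) F) := by
      rw [pow_succ, pow_two, hch, sub_mul, smul_mul, hch, one_mul]
      module
    rw [h3] at h1
    calc (t ^ 2 - 1) • x = ((t ^ 2 - 1) • x - t • (1 : Matrix (Fin 2) (Fin 2) F)) + t • 1 := by rw [sub_add_cancel]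
      _ = (t + 1) • 1 := by rw [← h1]; module
  by_cases ht1 : t = -1
  · refine ⟨ht1, ?_⟩
    rw [hch, ht1]
    module
  · exfalso
    have ht0 : t + 1 ≠ 0 := fun h => ht1 (by linear_combination h)
    have e' : (t - 1) • x = 1 := by
      apply smul_right_injective _ ht0
      show (t + 1) • ((t - 1) • x) = (t + 1) • (1 : Matrix (Fin 2) (Fin 2) F)
      rw [smul_smul, ← e]
      congr 1
      ring
    have h00 := congrFun (congrFun e' 0) 0
    have h01 := congrFun (congrFun e' 0) 1
    have h10 := congrFun (congrFun e' 1) 0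
    have h11 := congrFun (congrFun e' 1) 1
    simp at h00 h01 h10 h11
    have ht2 : t - 1 ≠ 0 := fun h => by rw [h] at h00; simp at h00
    have a01 : x 0 1 = 0 := h01.resolve_left ht2
    have a10 : x 1 0 = 0 := h10.resolve_left ht2
    have a11 : x 0 0 = x 1 1 := mul_left_cancel₀ ht2 (h00.trans h11.symm)
    have hsq : x * x = 1 := by
      ext i j
      fin_cases i <;> fin_cases j <;> simp [Matrix.mul_apply, Fin.sum_univ_two, a01, a10]
      · rw [a01, a10, a11] at hd; rw [a11]; linear_combination hd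
      · rw [a01, a10, a11] at hd; linear_combination hd
    refine hx ?_
    rw [pow_succ, pow_two, hsq, one_mul] at h3
    exact h3

theorem commute_two (h3 : (3 : F) ≠ 0) {x z : Matrix (Fin 2) (Fin 2) F} (hx : x ^ 3 = 1) (hz : z ^ 3 = 1)
    (hdx : x.det = 1) (hdz : z.det = 1) (hz1 : z ≠ 1) (hc : x * z = z * x) : x = 1 ∨ x = z ∨ x = z * z := by
  by_cases hx1 : x = 1
  · exact Or.inl hx1
  refine Or.inr ?_
  obtain ⟨tx, ex⟩ := quad_two hx hdx hx1
  obtain ⟨tz, ez⟩ := quad_two hz hdz hz1
  by_contra hne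
  rw [not_or] at hne
  have hprod : (x - z) * (x - z * z) = 0 := by
    have hs : z + z * z = -1 := by linear_combination (norm := module) ez
    have h3' : z * (z * z) = 1 := by rw [← hz]; simp [pow_succ, mul_assoc]
    calc (x - z) * (x - z * z) = x * x - x * (z + z * z) + (x * z - z * x) + z * (z * z) := by noncomm_ring
      _ = 0 := by rw [hs, hc, sub_self, h3', add_zero, mul_neg, mul_one, sub_neg_eq_add, ex]
  have h1 : (x - z).det = 0 := by
    by_contra h
    refine hne.2 (sub_eq_zero.1 ?_)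
    have := congrArg ((x - z)⁻¹ * ·) hprod
    simpa [← mul_assoc, Matrix.nonsing_inv_mul _ (isUnit_iff_ne_zero.2 h)] using this
  have h2 : (x - z * z).det = 0 := by
    by_contra h
    refine hne.1 (sub_eq_zero.1 ?_)
    have := congrArg (· * (x - z * z)⁻¹) hprod
    simpa [mul_assoc, Matrix.mul_nonsing_inv _ (isUnit_iff_ne_zero.2 h)] using this
  have hz2 : z * z = -1 - z := by linear_combination (norm := module) ez
  rw [hz2] at h2
  simp [det_fin_two] at h1 h2 hdx hdz
  refine h3 ?_
  have t1 := eq_sub_of_add_eq tx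
  have t2 := eq_sub_of_add_eq tz
  rw [t1, t2] at h1 h2
  rw [t1] at hdx
  rw [t2] at hdz
  linear_combination h1 + h2 - 2 * hdx - 2 * hdz

end Cfsg.Lib.Chev.E8Alt
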