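import Cfsg.Agent.Lib.Chev.E8Alt.Setup
import Cfsg.Agent.Lib.Chev.E8Alt.ThreeCount
import Cfsg.Agent.Lib.Chev.E8Alt.ThreeBlocks
import Cfsg.Agent.Lib.Chev.E8Alt.TwoDim
import Cfsg.Agent.Lib.Chev.E8Alt.Fix
import Cfsg.Agent.Lib.Chev.E8Alt.Lifts

/-!
No alternating section of degree eighteen in E8 away from characteristic three: six disjoint three-cycles have
forced multiplicities, and then a cycle of three blocks fixes too many vectors.
-/

set_option autoImplicit false
set_option linter.unusedSectionVars false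
set_option maxRecDepth 100000
set_option maxHeartbeats 1000000

namespace Cfsg.Lib.Chev.E8Alt

open Cfsg.Lie Cfsg.Lib.Chev.AltSection Cfsg.Lib.Linear.AltDeg Module

/-- The product of the first elements. -/
def pre6 {G : Type*} [Monoid G] (x : Fin 6 → G) : ℕ → G
  | 0 => 1
  | k + 1 => if h : k < 6 then pre6 x k * x ⟨k, h⟩ else pre6 x k

theorem pre6_map {G G' : Type*} [Monoid G] [Monoid G'] (f : G →* G') (x : Fin 6 → G) :
    ∀ k, f (pre6 x k) = pre6 (fun i => f (x i)) k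
  | 0 => map_one f
  | k + 1 => by simp only [pre6]; split_ifs <;> simp [pre6_map f x k]

theorem pre6_ne : ∀ k : Fin 6, pre6 cA (k.val + 1) ≠ 1 := by decide +kernel

theorem cA_inj : Function.Injective cA := by decide +kernel

theorem flip_pick : ∀ i j : Fin 6, i ≠ j → ∃ k, monS k i = i ∧ monE k i = 2 ∧ monS k j = j ∧ monE k j = 1 := by
  decide +kernel

theorem lvl6_succ : ∀ k : Fin 6, ∀ χ : C6, lvl6 (k.val + 1) χ = lvl6 k.val χ + χ k := by decide +kernel

theorem z3_cases : ∀ j : ZMod 3, j ≠ 0 → j = 1 ∨ j = 2 := by decide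

theorem lvl6_zero : ∀ χ : C6, lvl6 0 χ = 0 := by decide +kernel

theorem full6_reach : ∀ χ : C6, full6 χ = true → ∃ (j : Fin 3) (t : Fin 8),
    (move6 (blkS 1) fun _ => 1)^[j.val] (move6 (twistS t) (twistE t) (rep6 6)) = χ := by decide +kernel

theorem blkS_bij : ∀ k, Function.Injective (blkS k) ∧ move6 (blkS k) (fun _ => 1) (rep6 6) = rep6 6 := by
  decide +kernel

theorem out6_orbit : ∀ χ : C6, out6 χ = true → full6 χ = true ∨
    (out6 (move6 (blkS 0) (fun _ => 1) χ) = false ∧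
      out6 (move6 (blkS 0) (fun _ => 1) (move6 (blkS 0) (fun _ => 1) χ)) = false) := by decide +kernel

theorem move6_spec {s : Fin 6 → Fin 6} (hs : Function.Injective s) (e : Fin 6 → ℕ) (χ : C6) (i : Fin 6) :
    move6 s e χ (s i) = (e i : ZMod 3) * χ i := by
  rw [move6, Finset.sum_eq_single i (fun b _ hb => if_neg fun h => hb (hs h)) (by simp), if_pos rfl]

theorem move6_injective {s : Fin 6 → Fin 6} (hs : Function.Injective s) {e : Fin 6 → ℕ}
    (he : ∀ i, (e i : ZMod 3) * (e i : ZMod 3) = 1) : Function.Injective (move6 s e) := fun χ ψ h => funext fun i => by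
  have h1 := congrFun h (s i)
  rw [move6_spec hs, move6_spec hs] at h1
  calc χ i = (e i : ZMod 3) * ((e i : ZMod 3) * χ i) := by rw [← mul_assoc, he, one_mul]
    _ = ψ i := by rw [h1, ← mul_assoc, he, one_mul]

variable {F : Type*} [Field F] [Finite F]

/-- No section of degree eighteen. -/
theorem no_A18 (h3 : (3 : F) ≠ 0) (hq : Nat.card F % 3 ^ 6 = 1) {ζ : F} (hζ : IsPrimitiveRoot ζ 3) {H₀ : Type*}
    [Group H₀] [Finite H₀] (f₀ : H₀ →* E8G F) (hf₀ : Function.Injective f₀) (π₀ : H₀ →* A18)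
    (hπ₀ : Function.Surjective π₀) : False := by
  classical
  haveI : Fact (Nat.Prime 3) := ⟨by norm_num⟩
  haveI : Fact (Nat.Prime 5) := ⟨by norm_num⟩
  have h3' : ((3 : ℕ) : F) ≠ 0 := by exact_mod_cast h3
  obtain ⟨L, hπ, hmin⟩ := exists_cover' π₀ hπ₀
  set π := π₀.comp L.subtype
  let f := f₀.comp L.subtype
  have hf : Function.Injective f := hf₀.comp L.subtype_injective
  let ρ : ↥L →* GL chevE8.Idx F := rep8 f
  have hZ : CentralPart 3 π := central_part (q₀ := 5) (by norm_num) (by norm_num) (by norm_num) (by norm_num)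
    (a := 5) (by norm_num) hq hζ (by norm_num) hf π hπ hmin
  obtain ⟨hA, hAc⟩ := cA_facts
  obtain ⟨P, g, x, hP, hPE, hgP, hgπ, hx, hlift⟩ :=
    exists_family hZ hπ (by norm_num) cA (fun i => (hA i).1) hAc (g₀ := inv18) (fun i => (hA i).2.2)
  have hmem : ∀ (s : A18) (σ : Fin 6 → Fin 6) (e : Fin 6 → ℕ), (∀ i, s * cA i * s⁻¹ = cA (σ i) ^ e i) →
      ∃ y ∈ Subgroup.normalizer (P : Set ↥L), π y = s := fun s σ e h =>
    hlift s fun i => by rw [h i]; exact pow_mem (Subgroup.subset_closure (Set.mem_range_self _)) _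
  have hact : ∀ (y : ↥L), y ∈ Subgroup.normalizer (P : Set ↥L) → π y * inv18 = inv18 * π y →
      ∀ (σ : Fin 6 → Fin 6) (e : Fin 6 → ℕ), (∀ i, π y * cA i * (π y)⁻¹ = cA (σ i) ^ e i) →
      ∀ i, y * x i * y⁻¹ = x (σ i) ^ e i := fun y hy hc σ e h i =>
    family_act hZ (by norm_num) hP hgP hgπ (hx i) (hx (σ i)) hy hc (h i)
  -- commuting
  have hcomm : ∀ i j, x i * x j = x j * x i := by
    intro i j
    by_cases hij : i = j
    · rw [hij]
    obtain ⟨k, hk1, hk2, hk3, hk4⟩ := flip_pick i j hij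
    obtain ⟨y, hy, hyπ⟩ := hmem (mon k) (monS k) (monE k) (mon_facts k).2
    have ha := hact y hy (by rw [hyπ]; exact (mon_facts k).1) (monS k) (monE k) (by rw [hyπ]; exact (mon_facts k).2)
    refine inverted_comm hZ hP (by norm_num) (h := y) (hx i).1 (hx j).1 (by rw [(hx i).2.1, (hx j).2.1]; exact hAc i j)
      ?_ ?_
    · rw [ha i, hk1, hk2]
      exact eq_inv_of_mul_eq_one_left (by rw [← pow_succ]; exact (hx i).2.2.1)
    · rw [ha j, hk3, hk4, pow_one]
  -- the joint eigenspaces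
  let X : Fin 6 → End F (chevE8.Idx → F) := fun i => op ρ (x i)
  let J : C6 → Submodule F (chevE8.Idx → F) := fun χ => joint ζ X χ
  have hd : Decomp (Set.range X) J := decomp_joint hζ h3' X (fun i => op_order ρ (hx i).2.2.1)
    fun i j => op_comm ρ (hcomm i j)
  have hinv : ∀ c, ∀ y ∈ Set.range X, ∀ v ∈ J c, y v ∈ J c := by
    rintro c _ ⟨i, rfl⟩ v hv
    simp only [J, joint, Submodule.mem_iInf] at hv ⊢
    exact fun j => eig_comm hζ (op_comm ρ (hcomm j i)) (hv j)
  have hmap : ∀ (y : ↥L) (σ : Fin 6 → Fin 6) (e : Fin 6 → ℕ), Function.Injective σ →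
      (∀ i, (e i : ZMod 3) * (e i : ZMod 3) = 1) → (∀ i, y * x i * y⁻¹ = x (σ i) ^ e i) →
      ∀ χ, ∀ v ∈ J χ, op ρ y v ∈ J (move6 σ e χ) := by
    intro y σ e hσ he hy χ v hv
    simp only [J, joint, Submodule.mem_iInf] at hv ⊢
    intro l
    obtain ⟨i, rfl⟩ := (Finite.injective_iff_bijective.1 hσ).2 l
    rw [move6_spec hσ]
    exact op_eig_conj ρ hζ (hx (σ i)).2.2.1 (hy i) (he i) (hv i)
  have hperm : ∀ (y : ↥L) (σ : Fin 6 → Fin 6) (e : Fin 6 → ℕ), Function.Injective σ →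
      (∀ i, (e i : ZMod 3) * (e i : ZMod 3) = 1) → (∀ i, y * x i * y⁻¹ = x (σ i) ^ e i) →
      ∀ χ, finrank F (J (move6 σ e χ)) = finrank F (J χ) := fun y σ e hσ he hy χ =>
    dim_perm (op ρ y) (op_inj ρ y) (move6 σ e) (Finite.injective_iff_bijective.1 (move6_injective hσ he))
      (hmap y σ e hσ he hy) χ
  let M : Fin 7 → ℕ := fun a => finrank F (J (rep6 a))
  have hM : ∀ χ, finrank F (J χ) = M (cls6 χ) := by
    suffices hind : ∀ n χ, code6 χ = n → finrank F (J χ) = M (cls6 χ) from fun χ => hind _ χ rfl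
    intro n
    induction n using Nat.strong_induction_on with
    | _ n ih =>
      intro χ hn
      rcases descent6 χ with h | ⟨k, hk, hkc⟩
      · exact congrArg (fun c => finrank F (J c)) h
      · obtain ⟨y, hy, hyπ⟩ := hmem (mon k) (monS k) (monE k) (mon_facts k).2
        rw [← hperm y (monS k) (monE k) (move6_bij k).1 (move6_bij k).2
          (hact y hy (by rw [hyπ]; exact (mon_facts k).1) _ _ (by rw [hyπ]; exact (mon_facts k).2)) χ,
          ih _ (hn ▸ hk) _ rfl, hkc]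
  -- the products of the first elements
  have hprk : ∀ k : ℕ, k ≤ 6 → ∀ χ, J χ ≤ eig ζ (op ρ (pre6 x k)) (lvl6 k χ) := by
    intro k
    induction k with
    | zero =>
      intro _ χ v _
      rw [mem_eig, lvl6_zero, rootPow_zero, one_smul, pre6, op_one]
      rfl
    | succ k ih =>
      intro hk χ v hv
      have hk' : k < 6 := by omega
      rw [show lvl6 (k + 1) χ = lvl6 k χ + χ ⟨k, hk'⟩ from lvl6_succ ⟨k, hk'⟩ χ,
        show pre6 x (k + 1) = pre6 x k * x ⟨k, hk'⟩ by rw [pre6, dif_pos hk']]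
      refine op_eig_mul ρ hζ (ih (by omega) χ hv) ?_
      simp only [J, joint, Submodule.mem_iInf] at hv
      exact hv ⟨k, hk'⟩
  have hprc : ∀ k i, x i * pre6 x k = pre6 x k * x i := by
    intro k i
    induction k with
    | zero => simp [pre6]
    | succ k ih =>
      simp only [pre6]
      split_ifs with h
      · rw [← mul_assoc, ih, mul_assoc, hcomm, ← mul_assoc]
      · exact ih
  have hprl : ∀ k, pre6 x k ^ 3 = 1 := by
    intro k
    induction k with
    | zero => simp [pre6]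
    | succ k ih =>
      simp only [pre6]
      split_ifs with h
      · rw [(show Commute (pre6 x k) (x ⟨k, h⟩) from (hprc k ⟨k, h⟩).symm).mul_pow, ih, (hx _).2.2.1, one_mul]
      · exact ih
  have hdim : ∀ k : Fin 6, ∀ j : ZMod 3, finrank F (eig ζ (op ρ (pre6 x (k.val + 1))) j) =
      ∑ a : Fin 7, (Finset.univ.filter fun χ : C6 => lvl6 (k.val + 1) χ = j ∧ cls6 χ = a).card * M a := by
    intro k j
    rw [dim_eig hζ hd (y := op ρ (pre6 x (k.val + 1))) (by rintro _ ⟨i, rfl⟩; exact op_comm ρ (hprc _ i))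
      (lvl6 (k.val + 1)) (hprk _ (by omega)) j]
    exact sum_classes cls6 M _ hM _
  have hne : ∀ k : Fin 6, ρ (pre6 x (k.val + 1)) ≠ 1 := fun k => rep8_ne_one hf π (by
    rw [pre6_map, show (fun i => π (x i)) = cA from funext fun i => (hx i).2.1]; exact pre6_ne k)
  have hgrp : ∀ a : ↥L, ρ a ∈ chevE8.group F := fun a => (f a).2
  have hS : ∀ k : Fin 6, finrank F (eig ζ (op ρ (pre6 x (k.val + 1))) (0 : ZMod 3)) ∈ S3 := by
    intro k
    refine three_bound hζ h3 hq (hgrp _) (by rw [← map_pow, hprl, map_one]) (hne k) fun j hj => ?_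
    show finrank F (eig ζ (op ρ (pre6 x (k.val + 1))) j) = finrank F (eig ζ (op ρ (pre6 x (k.val + 1))) (1 : ZMod 3))
    rcases z3_cases j hj with rfl | rfl
    · rfl
    · rw [hdim, hdim]
      exact Finset.sum_congr rfl fun a _ => by rw [lvl_card_one k a]
  have htot : ∑ a : Fin 7, (Finset.univ.filter fun χ : C6 => lvl6 0 χ = 0 ∧ cls6 χ = a).card * M a = 248 := by
    rw [← sum_classes cls6 M (fun χ => finrank F (J χ)) hM,
      Finset.filter_true_of_mem fun χ _ => lvl6_zero χ, total hd, dim_adjoint]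
  obtain ⟨hM0, hM1, hM2, hM3, hM4, hM5, hM6⟩ := mult6_unique (M := M) (by
    rw [Finset.sum_congr rfl fun a _ => by rw [show (0 : ℕ) = (0 : Fin 7).val from rfl, lvl_card 0 a]] at htot
    simpa [Fin.sum_univ_seven] using htot) fun k => by rw [← hdim]; exact hS k
  -- the fixed vectors of the product of three of them
  have h86 : finrank F (eig ζ (op ρ (pre6 x 3)) (0 : ZMod 3)) = 86 := by
    refine (hdim 2 0).trans ?_
    rw [Finset.sum_congr rfl fun a _ => by
      rw [show (2 : Fin 6).val + 1 = (3 : Fin 7).val from rfl, lvl_card 3 a]]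
    simp [Fin.sum_univ_seven, hM0, hM1, hM2, hM3, hM4, hM5, hM6]
  -- block permutations
  let NP : Subgroup ↥L := Subgroup.normalizer (P : Set ↥L)
  let T : Subgroup ↥L := (NP ⊓ (Subgroup.centralizer ({inv18} : Set A18)).comap π)
  let S : Subgroup ↥L :=
    { carrier := {y | y ∈ T ∧ ∃ σ : Equiv.Perm (Fin 6), ∀ i, π y * cA i * (π y)⁻¹ = cA (σ i)}
      one_mem' := ⟨one_mem _, 1, fun i => by simp⟩
      mul_mem' := fun {a b} ha hb => by
        obtain ⟨haT, σ, hσ⟩ := ha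
        obtain ⟨hbT, τ, hτ⟩ := hb
        refine ⟨mul_mem haT hbT, σ * τ, fun i => ?_⟩
        rw [map_mul, Equiv.Perm.mul_apply, ← hσ, ← hτ]; group
      inv_mem' := fun {a} ha => by
        obtain ⟨haT, σ, hσ⟩ := ha
        refine ⟨inv_mem haT, σ⁻¹, fun i => ?_⟩
        have := hσ (σ⁻¹ i)
        rw [Equiv.Perm.inv_def, Equiv.apply_symm_apply] at this
        rw [Equiv.Perm.inv_def, map_inv, ← this]; group }
  have hST : ∀ y ∈ S, y ∈ NP ∧ π y * inv18 = inv18 * π y := fun y hy =>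
    ⟨hy.1.1, (Subgroup.mem_centralizer_singleton_iff.1 hy.1.2)⟩
  have hSJ : ∀ y ∈ S, ∀ v ∈ J (rep6 6), op ρ y v ∈ J (rep6 6) := by
    intro y hy v hv
    obtain ⟨hyN, hyc⟩ := hST y hy
    obtain ⟨-, σ, hσ⟩ := hy
    have h := hmap y σ (fun _ => 1) σ.injective (fun _ => by simp)
      (hact y hyN hyc σ (fun _ => 1) fun i => by rw [pow_one]; exact hσ i) (rep6 6) v hv
    have e : move6 σ (fun _ => 1) (rep6 6) = rep6 6 := by
      funext l
      obtain ⟨i, rfl⟩ := σ.surjective l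
      rw [move6_spec σ.injective]
      simp [rep6]
    rwa [e] at h
  have hblk : ∀ k : Fin 9, ∃ y ∈ S, π y = blk k := by
    intro k
    obtain ⟨hc, ha⟩ := blk_action k
    obtain ⟨y, hy, hyπ⟩ := hmem (blk k) (blkS k) (fun _ => 1) fun i => by rw [pow_one]; exact ha i
    refine ⟨y, ⟨⟨hy, Subgroup.mem_centralizer_singleton_iff.2 (by rw [hyπ]; exact hc)⟩,
      Equiv.ofBijective (blkS k) (Finite.injective_iff_bijective.1 (blkS_bij k).1), fun i => ?_⟩, hyπ⟩
    rw [hyπ]; exact ha i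
  have hr2 : finrank F (J (rep6 6)) = 2 := hM6
  let bas : Basis (Fin 2) F (J (rep6 6)) := Module.finBasisOfFinrankEq F _ hr2
  let R : S →* Matrix (Fin 2) (Fin 2) F :=
    { toFun := fun y => LinearMap.toMatrixAlgEquiv bas ((op ρ (y : ↥L)).restrict (hSJ y y.2))
      map_one' := by
        rw [← map_one (LinearMap.toMatrixAlgEquiv bas)]
        congr 1
        refine LinearMap.ext fun v => Subtype.ext ?_
        show op ρ ((1 : S) : ↥L) v = v
        rw [OneMemClass.coe_one, op_one]; rfl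
      map_mul' := fun a b => by
        rw [← map_mul (LinearMap.toMatrixAlgEquiv bas)]
        congr 1
        refine LinearMap.ext fun v => Subtype.ext ?_
        show op ρ ((a * b : S) : ↥L) v = op ρ (a : ↥L) (op ρ (b : ↥L) v)
        rw [Subgroup.coe_mul, op_mul]; rfl }
  have hR1 : ∀ y : S, R y = 1 → ∀ v ∈ J (rep6 6), op ρ (y : ↥L) v = v := by
    intro y hy v hv
    have e : (op ρ (y : ↥L)).restrict (hSJ y y.2) = 1 :=
      (LinearMap.toMatrixAlgEquiv bas).injective (hy.trans (map_one _).symm)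
    exact congrArg Subtype.val (LinearMap.congr_fun e ⟨v, hv⟩)
  have hdet : ∀ k h : S, k ^ 3 = 1 → h * k * h⁻¹ = k⁻¹ → (R k).det = 1 := by
    intro k h hk hh
    have hu : (R h).det * (R h⁻¹).det = 1 := by
      rw [← Matrix.det_mul, ← map_mul, mul_inv_cancel, map_one, Matrix.det_one]
    have hd1 : (R k).det = (R k⁻¹).det := by
      rw [← hh, map_mul, map_mul, Matrix.det_mul, Matrix.det_mul, mul_right_comm, hu, one_mul]
    have hd2 : (R k).det * (R k⁻¹).det = 1 := by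
      rw [← Matrix.det_mul, ← map_mul, mul_inv_cancel, map_one, Matrix.det_one]
    have hd3 : (R k).det ^ 3 = 1 := by rw [← Matrix.det_pow, ← map_pow, hk, map_one, Matrix.det_one]
    rw [← hd1] at hd2
    rwa [pow_succ, pow_two, hd2, one_mul] at hd3
  -- a lift of a block cycle acting trivially on the piece
  let πS : S →* A18 := π.comp S.subtype
  have hZS : CentralPart 3 πS := hZ.restrict S
  obtain ⟨hbA3, hbB3, hbAB, -, -, -, hHA, hHB, htr0, htr⟩ := blk_facts
  have hE : ∀ s ∈ ({blkA, blkB} : Set A18), s ∈ πS.range := by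
    rintro s (rfl | rfl)
    · obtain ⟨y, hy, e⟩ := hblk 0; exact ⟨⟨y, hy⟩, e⟩
    · obtain ⟨y, hy, e⟩ := hblk 1; exact ⟨⟨y, hy⟩, e⟩
  obtain ⟨n, hn, hnπ⟩ : ∃ n : S, R n = 1 ∧ πS n = blkA := by
    have hE2 : IsPGroup 3 (Subgroup.closure ({blkA, blkB} : Set A18)) := closure_pgroup
      (by rintro a (rfl | rfl) b (rfl | rfl) <;> first | rfl | exact hbAB | exact hbAB.symm)
      (by rintro a (rfl | rfl) <;> assumption)
    obtain ⟨P2, hP2, hP2E, hlift2⟩ := exists_over πS hE2 ((Subgroup.closure_le _).2 hE)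
    obtain ⟨y₀, hy₀, hy₀π⟩ := hblk 2
    obtain ⟨h, hh, hhπ⟩ := hlift2 blkH (Cfsg.Lib.Chev.AltSection.mem_normalizer_closure (by
      rintro a (rfl | rfl)
      · rw [hHA]; exact inv_mem (Subgroup.subset_closure (by simp))
      · rw [hHB]; exact inv_mem (Subgroup.subset_closure (by simp)))) ⟨⟨y₀, hy₀⟩, hy₀π⟩
    obtain ⟨k, hkP, hkπ, hk3, hkh⟩ := exists_inverted hZS hP2 (by norm_num) hh
      (hP2E.ge (Subgroup.subset_closure (by simp : blkA ∈ ({blkA, blkB} : Set A18)))) hbA3 (by rw [hhπ]; exact hHA)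
    obtain ⟨k', hkP', hkπ', hk3', hkh'⟩ := exists_inverted hZS hP2 (by norm_num) hh
      (hP2E.ge (Subgroup.subset_closure (by simp : blkB ∈ ({blkA, blkB} : Set A18)))) hbB3 (by rw [hhπ]; exact hHB)
    obtain ⟨z, hz⟩ : ∃ z, z = k * k' * k⁻¹ * k'⁻¹ := ⟨_, rfl⟩
    have hzc := central_mem hZS hP2 (z := z)
      (hz ▸ mul_mem (mul_mem (mul_mem hkP hkP') (inv_mem hkP)) (inv_mem hkP'))
      (by rw [hz, map_mul, map_mul, map_mul, map_inv, map_inv, hkπ, hkπ', hbAB]; group)
    have hz3 : z ^ 3 = 1 := by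
      have e : z * k' = k * k' * k⁻¹ := by rw [hz, inv_mul_cancel_right]
      have h' : (z * k') ^ 3 = 1 := by rw [e, conj_pow, hk3', mul_one, mul_inv_cancel]
      rwa [(show Commute z k' from (hzc k').symm).mul_pow, hk3', mul_one] at h'
    have hdz : (R z).det = 1 := by
      have e1 : ∀ a : S, (R a).det * (R a⁻¹).det = 1 := fun a => by
        rw [← Matrix.det_mul, ← map_mul, mul_inv_cancel, map_one, Matrix.det_one]
      rw [hz]
      simp only [map_mul, Matrix.det_mul]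
      linear_combination (R k').det * (R k'⁻¹).det * e1 k + e1 k'
    have hdk := hdet k h hk3 hkh
    have hdk' := hdet k' h hk3' hkh'
    have hRk3 : R k ^ 3 = 1 := by rw [← map_pow, hk3, map_one]
    have hRk3' : R k' ^ 3 = 1 := by rw [← map_pow, hk3', map_one]
    have hcom : R k * R k' = R k' * R k := by
      have e : R k * R k' = R z * (R k' * R k) := by
        rw [← map_mul, ← map_mul, ← map_mul, hz]; congr 1; group
      by_cases hz1 : R z = 1
      · rw [e, hz1, one_mul]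
      have hRz3 : R z ^ 3 = 1 := by rw [← map_pow, hz3, map_one]
      have c1 := commute_two h3 hRk3 hRz3 hdk hdz hz1 (by rw [← map_mul, ← map_mul, hzc k])
      have c2 := commute_two h3 hRk3' hRz3 hdk' hdz hz1 (by rw [← map_mul, ← map_mul, hzc k'])
      rcases c1 with e1 | e1 | e1 <;> rcases c2 with e2 | e2 | e2 <;> simp [e1, e2, mul_assoc]
    by_cases hk1 : R k = 1
    · exact ⟨k, hk1, hkπ⟩
    obtain ⟨i, hi⟩ : ∃ i : Fin 3, R (k' * k ^ i.val) = 1 := by
      rcases commute_two h3 hRk3' hRk3 hdk' hdk hk1 hcom.symm with e | e | e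
      · exact ⟨0, by simp [e]⟩
      · exact ⟨2, by rw [map_mul, map_pow, e, ← pow_succ']; exact hRk3⟩
      · exact ⟨1, by rw [map_mul, map_pow, e, show ((1 : Fin 3) : ℕ) = 1 from rfl, pow_one, ← pow_two, ← pow_succ]
                     exact hRk3⟩
    obtain ⟨v, hv, hvπ⟩ := hblk ⟨3 + i.val, by omega⟩
    obtain ⟨w, hw, hwπ⟩ := hblk ⟨6 + i.val, by omega⟩
    refine ⟨⟨v, hv⟩ * (k' * k ^ i.val) * ⟨v, hv⟩⁻¹ * (⟨w, hw⟩ * (k' * k ^ i.val) * ⟨w, hw⟩⁻¹), ?_, ?_⟩
    · have hvi : ∀ a : S, R a * R a⁻¹ = 1 := fun a => by rw [← map_mul, mul_inv_cancel, map_one]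
      have hc1 : ∀ a b : S, R b = 1 → R (a * b * a⁻¹) = 1 := fun a b hb => by
        rw [map_mul, map_mul, hb, mul_one, hvi]
      rw [map_mul, hc1 _ _ hi, hc1 _ _ hi, one_mul]
    · have hv' : πS ⟨v, hv⟩ = blk ⟨3 + i.val, by omega⟩ := hvπ
      have hw' : πS ⟨w, hw⟩ = blk ⟨6 + i.val, by omega⟩ := hwπ
      simp only [map_mul, map_inv, map_pow, hv', hw', hkπ, hkπ']
      exact blk_gen i
  -- elements of order three over it inverted in the group act trivially
  have htriv : ∀ t h : S, t ^ 3 = 1 → πS t = blkA → h * t * h⁻¹ = t⁻¹ → R t = 1 := by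
    intro t h ht htπ hht
    obtain ⟨c, hc⟩ : ∃ c, c = n⁻¹ * t := ⟨_, rfl⟩
    have hRc : R c = R t := by
      have e : t = n * c := by rw [hc, mul_inv_cancel_left]
      rw [e, map_mul, hn, one_mul]
    obtain ⟨i, o, ho, hord⟩ := Nat.exists_eq_pow_mul_and_not_dvd (orderOf_pos c).ne' 3 (by norm_num)
    obtain ⟨m, hm1, hm0⟩ := Nat.chineseRemainder ((Nat.prime_three.coprime_iff_not_dvd.2 ho)) 1 0
    have hm3 : m % 3 = 1 := hm1
    obtain ⟨q, rfl⟩ := Nat.modEq_zero_iff_dvd.1 hm0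
    have hcm : (c ^ (o * q)) ^ 3 ^ i = 1 := by
      rw [← pow_mul, show o * q * 3 ^ i = orderOf c * q by rw [hord]; ring, pow_mul, pow_orderOf_eq_one, one_pow]
    have hck : πS (c ^ (o * q)) = 1 := by rw [map_pow, hc, map_mul, map_inv, hnπ, htπ, inv_mul_cancel, one_pow]
    obtain ⟨j, -, hj⟩ := (Nat.dvd_prime_pow Nat.prime_three).1 (orderOf_dvd_of_pow_eq_one hcm)
    have hcen := hZS _ (IsPGroup.of_card (n := j) (by rw [Nat.card_zpowers, hj]))
      (Subgroup.zpowers_le.2 (MonoidHom.mem_ker.2 hck)) _ (Subgroup.mem_zpowers _) h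
    have hRt : R (c ^ (o * q)) = R t := by
      rw [map_pow, hRc, ← map_pow, pow_eq_pow_mod _ ht, hm3, pow_one]
    have e1 : R h * R t = R t * R h := by rw [← hRt, ← map_mul, ← map_mul, hcen]
    have e2 : R t⁻¹ = R t := by
      rw [← hht, map_mul, map_mul, e1, mul_assoc, ← map_mul, mul_inv_cancel, map_one, mul_one]
    have e3 : R t * R t = 1 := by nth_rewrite 1 [← e2]; rw [← map_mul, inv_mul_cancel, map_one]
    calc R t = R t * (R t * R t * R t) * 1 := by
          rw [show R t * R t * R t = 1 by rw [← map_mul, ← map_mul, ← pow_two, ← pow_succ, ht, map_one], mul_one, mul_one]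
      _ = (R t * R t) * (R t * R t) := by rw [mul_one]; simp only [mul_assoc]
      _ = 1 := by rw [e3, one_mul]
  -- the exact lift of the block cycle
  let πN : NP →* A18 := π.comp NP.subtype
  have hZN : CentralPart 3 πN := hZ.restrict NP
  have hNr : ∀ k : Fin 9, blk k ∈ πN.range := fun k => by
    obtain ⟨y, hy, e⟩ := hblk k; exact ⟨⟨y, (hST y hy).1⟩, e⟩
  have hE1 : IsPGroup 3 (Subgroup.closure ({blkA} : Set A18)) := closure_pgroup
    (by rintro a rfl b rfl; rfl) (by rintro a rfl; exact hbA3)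
  obtain ⟨P1, hP1, hP1E, hlift1⟩ := exists_over πN hE1
    ((Subgroup.closure_le _).2 (Set.singleton_subset_iff.2 (hNr 0)))
  have hl1 : ∀ s : A18, s ∈ πN.range → (s * blkA * s⁻¹ = blkA ∨ s * blkA * s⁻¹ = blkA⁻¹) →
      ∃ y ∈ Subgroup.normalizer (P1 : Set NP), πN y = s := fun s hs h => hlift1 s (Cfsg.Lib.Chev.AltSection.mem_normalizer_closure (by
    rintro a rfl
    rcases h with e | e <;> rw [e]
    · exact Subgroup.subset_closure rfl
    · exact inv_mem (Subgroup.subset_closure rfl))) hs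
  obtain ⟨hH, hHP, hHπ⟩ := hl1 blkH (hNr 2) (Or.inr hHA)
  obtain ⟨k, hkP, hkπ, hk3, hkh⟩ := exists_inverted hZN hP1 (by norm_num) hHP
    (hP1E.ge (Subgroup.subset_closure rfl)) hbA3 (by rw [hHπ]; exact hHA)
  obtain ⟨u, huP, huπ⟩ := hl1 blkB (hNr 1) (Or.inl (by rw [← hbAB, mul_inv_cancel_right]))
  have hinS : ∀ (y : NP) (q : Fin 9), πN y = blk q → (y : ↥L) ∈ S := fun y q hy =>
    ⟨⟨y.2, Subgroup.mem_centralizer_singleton_iff.2 (by rw [show π (y : ↥L) = blk q from hy]; exact (blk_action q).1)⟩,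
      Equiv.ofBijective (blkS q) (Finite.injective_iff_bijective.1 (blkS_bij q).1), fun i => by
        rw [show π (y : ↥L) = blk q from hy]; exact (blk_action q).2 i⟩
  have hkS := hinS k 0 hkπ
  have huS := hinS u 1 huπ
  have hHS := hinS hH 2 hHπ
  have hconj : ∀ j : ℕ, R (⟨(u : ↥L), huS⟩ ^ j)⁻¹ * R ⟨k, hkS⟩ * R (⟨(u : ↥L), huS⟩ ^ j) = 1 := by
    intro j
    rw [htriv ⟨k, hkS⟩ ⟨hH, hHS⟩ (Subtype.ext (show (k : ↥L) ^ 3 = 1 from congrArg Subtype.val hk3)) hkπ
      (Subtype.ext (show (hH : ↥L) * k * (hH : ↥L)⁻¹ = (k : ↥L)⁻¹ from congrArg Subtype.val hkh)), mul_one, ← map_mul, inv_mul_cancel, map_one]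
  have hkfix : ∀ χ, full6 χ = true → ∀ v ∈ J χ, op ρ (k : ↥L) v = v := by
    intro χ hχ v hv
    obtain ⟨j, t, rfl⟩ := full6_reach χ hχ
    obtain ⟨htc, htH, htA, hta⟩ := twist_facts t
    obtain ⟨y₀, hy₀, hy₀π⟩ := hmem (twist t) (twistS t) (twistE t) hta
    obtain ⟨y, hy, hyπ⟩ := hl1 (twist t) ⟨⟨y₀, hy₀⟩, hy₀π⟩ (Or.inl (by rw [htA, mul_inv_cancel_right]))
    have hyk : y * k * y⁻¹ = k := conj_inverted hZN hP1 (by norm_num) hHP hy (by rw [hyπ, hHπ, htH]) hkP hk3 hkh
      hkP hkh (by rw [hyπ, hkπ, htA, mul_inv_cancel_right])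
    have hyπ' : π (y : ↥L) = twist t := hyπ
    have m1 : ∀ v ∈ J (rep6 6), op ρ (y : ↥L) v ∈ J (move6 (twistS t) (twistE t) (rep6 6)) :=
      hmap _ _ _ (twistS_bij t).1 (twistS_bij t).2
        (hact _ y.2 (by rw [hyπ']; exact htc) _ _ (by rw [hyπ']; exact hta)) _
    have huπ' : π (u : ↥L) = blk 1 := huπ
    have mu : ∀ (χ : C6), ∀ v ∈ J χ, op ρ (u : ↥L) v ∈ J (move6 (blkS 1) (fun _ => 1) χ) := fun χ =>
      hmap _ _ _ (blkS_bij 1).1 (fun _ => by simp)
        (hact _ u.2 (by rw [huπ']; exact (blk_action 1).1) _ (fun _ => 1)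
          (by intro i; rw [huπ', pow_one]; exact (blk_action 1).2 i)) χ
    have muj : ∀ (n : ℕ) (χ : C6), ∀ v ∈ J χ, op ρ ((u : ↥L) ^ n) v ∈ J ((move6 (blkS 1) fun _ => 1)^[n] χ) := by
      intro n
      induction n with
      | zero => intro χ v hv; rw [pow_zero, op_one]; exact hv
      | succ n ih => intro χ v hv; rw [pow_succ', op_mul, Function.iterate_succ_apply']; exact mu _ _ (ih χ v hv)
    obtain ⟨w, hw⟩ : ∃ w, w = (u : ↥L) ^ j.val * (y : ↥L) := ⟨_, rfl⟩
    have hle : (J (rep6 6)).map (op ρ w) ≤ J ((move6 (blkS 1) fun _ => 1)^[j.val] (move6 (twistS t) (twistE t) (rep6 6))) := by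
      rintro _ ⟨v, hv, rfl⟩
      rw [hw, op_mul]
      exact muj _ _ _ (m1 v hv)
    have heq : (J (rep6 6)).map (op ρ w) =
        J ((move6 (blkS 1) fun _ => 1)^[j.val] (move6 (twistS t) (twistE t) (rep6 6))) := by
      refine Submodule.eq_of_le_of_finrank_le hle ?_
      rw [← (Submodule.equivMapOfInjective _ (op_inj ρ w) (J (rep6 6))).finrank_eq, hM,
        hM (rep6 6)]
      have e := hχ
      simp only [full6, Bool.and_eq_true, decide_eq_true_eq] at e
      rw [e.2, show cls6 (rep6 6) = 6 by decide +kernel]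
    rw [← heq] at hv
    obtain ⟨v₀, hv₀, rfl⟩ := hv
    -- the conjugate of the lift
    obtain ⟨z, hz⟩ : ∃ z, z = (u ^ j.val)⁻¹ * k * u ^ j.val * k⁻¹ := ⟨_, rfl⟩
    have hzP : z ∈ P1 := hz ▸ mul_mem ((Subgroup.mem_normalizer_iff''.1 (pow_mem huP _) k).1 hkP) (inv_mem hkP)
    have hzc := central_mem hZN hP1 hzP (by
      rw [hz, map_mul, map_mul, map_mul, map_inv, map_inv, map_pow, huπ, hkπ]
      rw [show (blkB ^ j.val)⁻¹ * blkA * blkB ^ j.val = blkA from by
        rw [mul_assoc, ((show Commute blkA blkB from hbAB).pow_right _).eq, ← mul_assoc, inv_mul_cancel, one_mul],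
        mul_inv_cancel])
    have hky : y⁻¹ * ((u ^ j.val)⁻¹ * k * u ^ j.val) * y = z * k := by
      rw [show (u ^ j.val)⁻¹ * k * u ^ j.val = z * k by rw [hz, inv_mul_cancel_right],
        show y⁻¹ * (z * k) * y = (y⁻¹ * z * y) * (y⁻¹ * k * y) by group, hzc y⁻¹, inv_mul_cancel_right,
        show y⁻¹ * k * y = k by nth_rewrite 1 [← hyk]; group]
    have hzk : z * k = (u ^ j.val)⁻¹ * k * u ^ j.val := by rw [hz, inv_mul_cancel_right]
    have hfix : op ρ (((u : ↥L) ^ j.val)⁻¹ * k * (u : ↥L) ^ j.val) v₀ = v₀ := by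
      have hR := hconj j.val
      rw [← map_mul, ← map_mul] at hR
      exact hR1 _ hR v₀ hv₀
    have e : (k : ↥L) * w = w * (((u : ↥L) ^ j.val)⁻¹ * k * (u : ↥L) ^ j.val) := by
      have h1 := congrArg Subtype.val hky
      rw [hzk] at h1
      push_cast at h1
      rw [hw, ← h1]
      group
    rw [← End.mul_apply, ← op_mul, e, op_mul, End.mul_apply, hfix]
  -- too many fixed vectors
  have hk_map : ∀ χ, ∀ v ∈ J χ, op ρ (k : ↥L) v ∈ J (move6 (blkS 0) (fun _ => 1) χ) :=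
    hmap _ _ _ (blkS_bij 0).1 (fun _ => by simp)
      (hact _ k.2 (by rw [show π (k : ↥L) = blk 0 from hkπ]; exact (blk_action 0).1) _ (fun _ => 1)
        (by intro i; rw [show π (k : ↥L) = blk 0 from hkπ, pow_one]; exact (blk_action 0).2 i))
  have hk3' : (k : ↥L) ^ 3 = 1 := congrArg Subtype.val hk3
  let Tk : End F (chevE8.Idx → F) := op ρ (k : ↥L) - 1
  have hTk : ∀ v, Tk v = op ρ (k : ↥L) v - v := fun v => rfl
  have hker : LinearMap.ker Tk = eig ζ (op ρ (k : ↥L)) (0 : ZMod 3) := by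
    ext v
    rw [LinearMap.mem_ker, hTk, sub_eq_zero, mem_eig, rootPow_zero, one_smul]
  have hrank := ker_ge hd hinv Tk (fun χ => out6 χ = false) fun χ hχ => by
    rw [Bool.not_eq_false] at hχ
    rintro _ ⟨v, hv, rfl⟩
    rcases out6_orbit χ hχ with hf6 | ⟨h1, h2⟩
    · rw [hTk, hkfix χ hf6 v hv, sub_self]; exact zero_mem _
    · have hv1 := hk_map χ v hv
      have hv2 := hk_map _ _ hv1
      have e : Tk v = -(Tk (op ρ (k : ↥L) v)) - Tk (op ρ (k : ↥L) (op ρ (k : ↥L) v)) := by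
        have h3v : op ρ (k : ↥L) (op ρ (k : ↥L) (op ρ (k : ↥L) v)) = v := by
          rw [← End.mul_apply, ← End.mul_apply, ← op_mul, ← op_mul, show (k : ↥L) * k * k = (k : ↥L) ^ 3 by
            rw [pow_succ, pow_two], hk3', op_one]
          rfl
        simp only [hTk, h3v]
        abel
      rw [e]
      exact sub_mem (neg_mem (Finset.le_sup (f := fun c => (J c).map Tk) (Finset.mem_filter.2 ⟨Finset.mem_univ _, h1⟩)
        ⟨_, hv1, rfl⟩)) (Finset.le_sup (f := fun c => (J c).map Tk) (Finset.mem_filter.2 ⟨Finset.mem_univ _, h2⟩)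
        ⟨_, hv2, rfl⟩)
  rw [hker, dim_adjoint, sum_classes cls6 M (fun χ => finrank F (J χ)) hM,
    Finset.sum_congr rfl fun a _ => by rw [out_card a]] at hrank
  simp [Fin.sum_univ_seven, hM0, hM1, hM2, hM3, hM4, hM5, hM6] at hrank
  -- the lift is conjugate to the product of three
  obtain ⟨g₂, hg₂⟩ := hπ transp18
  have hgi : g * pre6 x 3 * g⁻¹ = (pre6 x 3)⁻¹ := by
    have e : pre6 x 3 = x 0 * x 1 * x 2 := by simp [pre6]
    rw [e, show g * (x 0 * x 1 * x 2) * g⁻¹ = (g * x 0 * g⁻¹) * (g * x 1 * g⁻¹) * (g * x 2 * g⁻¹) by group,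
      (hx 0).2.2.2, (hx 1).2.2.2, (hx 2).2.2.2, mul_inv_rev, mul_inv_rev]
    have c01 : Commute (x 0)⁻¹ (x 1)⁻¹ := (show Commute (x 0) (x 1) from hcomm 0 1).inv_inv
    have c02 : Commute (x 0)⁻¹ (x 2)⁻¹ := (show Commute (x 0) (x 2) from hcomm 0 2).inv_inv
    have c12 : Commute (x 1)⁻¹ (x 2)⁻¹ := (show Commute (x 1) (x 2) from hcomm 1 2).inv_inv
    rw [c01.eq, mul_assoc, c02.eq, ← mul_assoc, c12.eq, mul_assoc]
  obtain ⟨c, -, hc⟩ := inverted_conj hZ (by norm_num) (h := (hH : ↥L)) (h' := g₂ * g * g₂⁻¹) (x := (k : ↥L))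
    (x' := g₂ * pre6 x 3 * g₂⁻¹)
    (by
      rw [show π (hH : ↥L) = blkH from hHπ, map_mul, map_mul, map_inv, hg₂, hgπ, htr0])
    (by
      rw [show π (k : ↥L) = blkA from hkπ, map_mul, map_mul, map_inv, hg₂, pre6_map,
        show (fun i => π (x i)) = cA from funext fun i => (hx i).2.1, ← htr]
      congr 2)
    hk3' (by rw [conj_pow, hprl, mul_one, mul_inv_cancel])
    (congrArg Subtype.val hkh)
    (by rw [show g₂ * g * g₂⁻¹ * (g₂ * pre6 x 3 * g₂⁻¹) * (g₂ * g * g₂⁻¹)⁻¹ = g₂ * (g * pre6 x 3 * g⁻¹) * g₂⁻¹ by group,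
      hgi, conj_inv])
  have e1 := finrank_op_conj ρ (ζ := ζ) c (k : ↥L) (0 : ZMod 3)
  rw [hc, finrank_op_conj, h86] at e1
  omega

end Cfsg.Lib.Chev.E8Alt
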