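import Mathlib

/-!
Elements of the alternating group of degree eighteen around six disjoint three-cycles.
-/

set_option autoImplicit false
set_option maxRecDepth 100000

namespace Cfsg.Lib.Chev.E8Alt

/-- The alternating group of degree eighteen. -/
abbrev A18 := ↥(alternatingGroup (Fin 18))

/-- A permutation from its table and the inverse table. -/
def p18 (f g : Fin 18 → Fin 18) (h₁ : ∀ x, g (f x) = x) (h₂ : ∀ x, f (g x) = x) : Equiv.Perm (Fin 18) :=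
  ⟨f, g, h₁, h₂⟩

/-- Three-cycle number 0. -/
def cA0 : A18 :=
  ⟨p18 ![1, 2, 0, 3, 4, 5, 6, 7, 8, 9, 10, 11, 12, 13, 14, 15, 16, 17]
    ![2, 0, 1, 3, 4, 5, 6, 7, 8, 9, 10, 11, 12, 13, 14, 15, 16, 17] (by decide) (by decide),
    Equiv.Perm.mem_alternatingGroup.2 (by decide +kernel)⟩

/-- Three-cycle number 1. -/
def cA1 : A18 :=
  ⟨p18 ![0, 1, 2, 4, 5, 3, 6, 7, 8, 9, 10, 11, 12, 13, 14, 15, 16, 17]
    ![0, 1, 2, 5, 3, 4, 6, 7, 8, 9, 10, 11, 12, 13, 14, 15, 16, 17] (by decide) (by decide),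
    Equiv.Perm.mem_alternatingGroup.2 (by decide +kernel)⟩

/-- Three-cycle number 2. -/
def cA2 : A18 :=
  ⟨p18 ![0, 1, 2, 3, 4, 5, 7, 8, 6, 9, 10, 11, 12, 13, 14, 15, 16, 17]
    ![0, 1, 2, 3, 4, 5, 8, 6, 7, 9, 10, 11, 12, 13, 14, 15, 16, 17] (by decide) (by decide),
    Equiv.Perm.mem_alternatingGroup.2 (by decide +kernel)⟩

/-- Three-cycle number 3. -/
def cA3 : A18 :=
  ⟨p18 ![0, 1, 2, 3, 4, 5, 6, 7, 8, 10, 11, 9, 12, 13, 14, 15, 16, 17]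
    ![0, 1, 2, 3, 4, 5, 6, 7, 8, 11, 9, 10, 12, 13, 14, 15, 16, 17] (by decide) (by decide),
    Equiv.Perm.mem_alternatingGroup.2 (by decide +kernel)⟩

/-- Three-cycle number 4. -/
def cA4 : A18 :=
  ⟨p18 ![0, 1, 2, 3, 4, 5, 6, 7, 8, 9, 10, 11, 13, 14, 12, 15, 16, 17]
    ![0, 1, 2, 3, 4, 5, 6, 7, 8, 9, 10, 11, 14, 12, 13, 15, 16, 17] (by decide) (by decide),
    Equiv.Perm.mem_alternatingGroup.2 (by decide +kernel)⟩

/-- Three-cycle number 5. -/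
def cA5 : A18 :=
  ⟨p18 ![0, 1, 2, 3, 4, 5, 6, 7, 8, 9, 10, 11, 12, 13, 14, 16, 17, 15]
    ![0, 1, 2, 3, 4, 5, 6, 7, 8, 9, 10, 11, 12, 13, 14, 17, 15, 16] (by decide) (by decide),
    Equiv.Perm.mem_alternatingGroup.2 (by decide +kernel)⟩

/-- The element inverting all six. -/
def inv18 : A18 :=
  ⟨p18 ![0, 2, 1, 3, 5, 4, 6, 8, 7, 9, 11, 10, 12, 14, 13, 15, 17, 16]
    ![0, 2, 1, 3, 5, 4, 6, 8, 7, 9, 11, 10, 12, 14, 13, 15, 17, 16] (by decide) (by decide),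
    Equiv.Perm.mem_alternatingGroup.2 (by decide +kernel)⟩

/-- Monomial element number 0. -/
def mon0 : A18 :=
  ⟨p18 ![0, 2, 1, 3, 5, 4, 6, 7, 8, 9, 10, 11, 12, 13, 14, 15, 16, 17]
    ![0, 2, 1, 3, 5, 4, 6, 7, 8, 9, 10, 11, 12, 13, 14, 15, 16, 17] (by decide) (by decide),
    Equiv.Perm.mem_alternatingGroup.2 (by decide +kernel)⟩

/-- Monomial element number 1. -/
def mon1 : A18 :=
  ⟨p18 ![0, 2, 1, 3, 4, 5, 6, 8, 7, 9, 10, 11, 12, 13, 14, 15, 16, 17]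
    ![0, 2, 1, 3, 4, 5, 6, 8, 7, 9, 10, 11, 12, 13, 14, 15, 16, 17] (by decide) (by decide),
    Equiv.Perm.mem_alternatingGroup.2 (by decide +kernel)⟩

/-- Monomial element number 2. -/
def mon2 : A18 :=
  ⟨p18 ![0, 2, 1, 3, 4, 5, 6, 7, 8, 9, 11, 10, 12, 13, 14, 15, 16, 17]
    ![0, 2, 1, 3, 4, 5, 6, 7, 8, 9, 11, 10, 12, 13, 14, 15, 16, 17] (by decide) (by decide),
    Equiv.Perm.mem_alternatingGroup.2 (by decide +kernel)⟩

/-- Monomial element number 3. -/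
def mon3 : A18 :=
  ⟨p18 ![0, 2, 1, 3, 4, 5, 6, 7, 8, 9, 10, 11, 12, 14, 13, 15, 16, 17]
    ![0, 2, 1, 3, 4, 5, 6, 7, 8, 9, 10, 11, 12, 14, 13, 15, 16, 17] (by decide) (by decide),
    Equiv.Perm.mem_alternatingGroup.2 (by decide +kernel)⟩

/-- Monomial element number 4. -/
def mon4 : A18 :=
  ⟨p18 ![0, 2, 1, 3, 4, 5, 6, 7, 8, 9, 10, 11, 12, 13, 14, 15, 17, 16]
    ![0, 2, 1, 3, 4, 5, 6, 7, 8, 9, 10, 11, 12, 13, 14, 15, 17, 16] (by decide) (by decide),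
    Equiv.Perm.mem_alternatingGroup.2 (by decide +kernel)⟩

/-- Monomial element number 5. -/
def mon5 : A18 :=
  ⟨p18 ![0, 1, 2, 3, 5, 4, 6, 8, 7, 9, 10, 11, 12, 13, 14, 15, 16, 17]
    ![0, 1, 2, 3, 5, 4, 6, 8, 7, 9, 10, 11, 12, 13, 14, 15, 16, 17] (by decide) (by decide),
    Equiv.Perm.mem_alternatingGroup.2 (by decide +kernel)⟩

/-- Monomial element number 6. -/
def mon6 : A18 :=
  ⟨p18 ![0, 1, 2, 3, 5, 4, 6, 7, 8, 9, 11, 10, 12, 13, 14, 15, 16, 17]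
    ![0, 1, 2, 3, 5, 4, 6, 7, 8, 9, 11, 10, 12, 13, 14, 15, 16, 17] (by decide) (by decide),
    Equiv.Perm.mem_alternatingGroup.2 (by decide +kernel)⟩

/-- Monomial element number 7. -/
def mon7 : A18 :=
  ⟨p18 ![0, 1, 2, 3, 5, 4, 6, 7, 8, 9, 10, 11, 12, 14, 13, 15, 16, 17]
    ![0, 1, 2, 3, 5, 4, 6, 7, 8, 9, 10, 11, 12, 14, 13, 15, 16, 17] (by decide) (by decide),
    Equiv.Perm.mem_alternatingGroup.2 (by decide +kernel)⟩

/-- Monomial element number 8. -/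
def mon8 : A18 :=
  ⟨p18 ![0, 1, 2, 3, 5, 4, 6, 7, 8, 9, 10, 11, 12, 13, 14, 15, 17, 16]
    ![0, 1, 2, 3, 5, 4, 6, 7, 8, 9, 10, 11, 12, 13, 14, 15, 17, 16] (by decide) (by decide),
    Equiv.Perm.mem_alternatingGroup.2 (by decide +kernel)⟩

/-- Monomial element number 9. -/
def mon9 : A18 :=
  ⟨p18 ![0, 1, 2, 3, 4, 5, 6, 8, 7, 9, 11, 10, 12, 13, 14, 15, 16, 17]
    ![0, 1, 2, 3, 4, 5, 6, 8, 7, 9, 11, 10, 12, 13, 14, 15, 16, 17] (by decide) (by decide),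
    Equiv.Perm.mem_alternatingGroup.2 (by decide +kernel)⟩

/-- Monomial element number 10. -/
def mon10 : A18 :=
  ⟨p18 ![0, 1, 2, 3, 4, 5, 6, 8, 7, 9, 10, 11, 12, 14, 13, 15, 16, 17]
    ![0, 1, 2, 3, 4, 5, 6, 8, 7, 9, 10, 11, 12, 14, 13, 15, 16, 17] (by decide) (by decide),
    Equiv.Perm.mem_alternatingGroup.2 (by decide +kernel)⟩

/-- Monomial element number 11. -/
def mon11 : A18 :=
  ⟨p18 ![0, 1, 2, 3, 4, 5, 6, 8, 7, 9, 10, 11, 12, 13, 14, 15, 17, 16]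
    ![0, 1, 2, 3, 4, 5, 6, 8, 7, 9, 10, 11, 12, 13, 14, 15, 17, 16] (by decide) (by decide),
    Equiv.Perm.mem_alternatingGroup.2 (by decide +kernel)⟩

/-- Monomial element number 12. -/
def mon12 : A18 :=
  ⟨p18 ![0, 1, 2, 3, 4, 5, 6, 7, 8, 9, 11, 10, 12, 14, 13, 15, 16, 17]
    ![0, 1, 2, 3, 4, 5, 6, 7, 8, 9, 11, 10, 12, 14, 13, 15, 16, 17] (by decide) (by decide),
    Equiv.Perm.mem_alternatingGroup.2 (by decide +kernel)⟩

/-- Monomial element number 13. -/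
def mon13 : A18 :=
  ⟨p18 ![0, 1, 2, 3, 4, 5, 6, 7, 8, 9, 11, 10, 12, 13, 14, 15, 17, 16]
    ![0, 1, 2, 3, 4, 5, 6, 7, 8, 9, 11, 10, 12, 13, 14, 15, 17, 16] (by decide) (by decide),
    Equiv.Perm.mem_alternatingGroup.2 (by decide +kernel)⟩

/-- Monomial element number 14. -/
def mon14 : A18 :=
  ⟨p18 ![0, 1, 2, 3, 4, 5, 6, 7, 8, 9, 10, 11, 12, 14, 13, 15, 17, 16]
    ![0, 1, 2, 3, 4, 5, 6, 7, 8, 9, 10, 11, 12, 14, 13, 15, 17, 16] (by decide) (by decide),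
    Equiv.Perm.mem_alternatingGroup.2 (by decide +kernel)⟩

/-- Monomial element number 15. -/
def mon15 : A18 :=
  ⟨p18 ![3, 5, 4, 0, 1, 2, 6, 7, 8, 9, 10, 11, 12, 13, 14, 15, 16, 17]
    ![3, 4, 5, 0, 2, 1, 6, 7, 8, 9, 10, 11, 12, 13, 14, 15, 16, 17] (by decide) (by decide),
    Equiv.Perm.mem_alternatingGroup.2 (by decide +kernel)⟩

/-- Monomial element number 16. -/
def mon16 : A18 :=
  ⟨p18 ![0, 1, 2, 6, 8, 7, 3, 4, 5, 9, 10, 11, 12, 13, 14, 15, 16, 17]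
    ![0, 1, 2, 6, 7, 8, 3, 5, 4, 9, 10, 11, 12, 13, 14, 15, 16, 17] (by decide) (by decide),
    Equiv.Perm.mem_alternatingGroup.2 (by decide +kernel)⟩

/-- Monomial element number 17. -/
def mon17 : A18 :=
  ⟨p18 ![0, 1, 2, 3, 4, 5, 9, 11, 10, 6, 7, 8, 12, 13, 14, 15, 16, 17]
    ![0, 1, 2, 3, 4, 5, 9, 10, 11, 6, 8, 7, 12, 13, 14, 15, 16, 17] (by decide) (by decide),
    Equiv.Perm.mem_alternatingGroup.2 (by decide +kernel)⟩

/-- Monomial element number 18. -/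
def mon18 : A18 :=
  ⟨p18 ![0, 1, 2, 3, 4, 5, 6, 7, 8, 12, 14, 13, 9, 10, 11, 15, 16, 17]
    ![0, 1, 2, 3, 4, 5, 6, 7, 8, 12, 13, 14, 9, 11, 10, 15, 16, 17] (by decide) (by decide),
    Equiv.Perm.mem_alternatingGroup.2 (by decide +kernel)⟩

/-- Monomial element number 19. -/
def mon19 : A18 :=
  ⟨p18 ![0, 1, 2, 3, 4, 5, 6, 7, 8, 9, 10, 11, 15, 17, 16, 12, 13, 14]
    ![0, 1, 2, 3, 4, 5, 6, 7, 8, 9, 10, 11, 15, 16, 17, 12, 14, 13] (by decide) (by decide),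
    Equiv.Perm.mem_alternatingGroup.2 (by decide +kernel)⟩

/-- Monomial element number 20. -/
def mon20 : A18 :=
  ⟨p18 ![3, 4, 5, 0, 2, 1, 6, 7, 8, 9, 10, 11, 12, 13, 14, 15, 16, 17]
    ![3, 5, 4, 0, 1, 2, 6, 7, 8, 9, 10, 11, 12, 13, 14, 15, 16, 17] (by decide) (by decide),
    Equiv.Perm.mem_alternatingGroup.2 (by decide +kernel)⟩

/-- Monomial element number 21. -/
def mon21 : A18 :=
  ⟨p18 ![0, 1, 2, 6, 7, 8, 3, 5, 4, 9, 10, 11, 12, 13, 14, 15, 16, 17]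
    ![0, 1, 2, 6, 8, 7, 3, 4, 5, 9, 10, 11, 12, 13, 14, 15, 16, 17] (by decide) (by decide),
    Equiv.Perm.mem_alternatingGroup.2 (by decide +kernel)⟩

/-- Monomial element number 22. -/
def mon22 : A18 :=
  ⟨p18 ![0, 1, 2, 3, 4, 5, 9, 10, 11, 6, 8, 7, 12, 13, 14, 15, 16, 17]
    ![0, 1, 2, 3, 4, 5, 9, 11, 10, 6, 7, 8, 12, 13, 14, 15, 16, 17] (by decide) (by decide),
    Equiv.Perm.mem_alternatingGroup.2 (by decide +kernel)⟩

/-- Monomial element number 23. -/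
def mon23 : A18 :=
  ⟨p18 ![0, 1, 2, 3, 4, 5, 6, 7, 8, 12, 13, 14, 9, 11, 10, 15, 16, 17]
    ![0, 1, 2, 3, 4, 5, 6, 7, 8, 12, 14, 13, 9, 10, 11, 15, 16, 17] (by decide) (by decide),
    Equiv.Perm.mem_alternatingGroup.2 (by decide +kernel)⟩

/-- Monomial element number 24. -/
def mon24 : A18 :=
  ⟨p18 ![0, 1, 2, 3, 4, 5, 6, 7, 8, 9, 10, 11, 15, 16, 17, 12, 14, 13]
    ![0, 1, 2, 3, 4, 5, 6, 7, 8, 9, 10, 11, 15, 17, 16, 12, 13, 14] (by decide) (by decide),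
    Equiv.Perm.mem_alternatingGroup.2 (by decide +kernel)⟩

/-- Monomial element number 25. -/
def mon25 : A18 :=
  ⟨p18 ![0, 2, 1, 3, 5, 4, 6, 8, 7, 9, 11, 10, 12, 14, 13, 15, 17, 16]
    ![0, 2, 1, 3, 5, 4, 6, 8, 7, 9, 11, 10, 12, 14, 13, 15, 17, 16] (by decide) (by decide),
    Equiv.Perm.mem_alternatingGroup.2 (by decide +kernel)⟩

/-- The first block cycle. -/
def blkA : A18 :=
  ⟨p18 ![3, 4, 5, 6, 7, 8, 0, 1, 2, 9, 10, 11, 12, 13, 14, 15, 16, 17]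
    ![6, 7, 8, 0, 1, 2, 3, 4, 5, 9, 10, 11, 12, 13, 14, 15, 16, 17] (by decide) (by decide),
    Equiv.Perm.mem_alternatingGroup.2 (by decide +kernel)⟩

/-- The second block cycle. -/
def blkB : A18 :=
  ⟨p18 ![0, 1, 2, 3, 4, 5, 6, 7, 8, 12, 13, 14, 15, 16, 17, 9, 10, 11]
    ![0, 1, 2, 3, 4, 5, 6, 7, 8, 15, 16, 17, 9, 10, 11, 12, 13, 14] (by decide) (by decide),
    Equiv.Perm.mem_alternatingGroup.2 (by decide +kernel)⟩

/-- The element inverting both block cycles. -/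
def blkH : A18 :=
  ⟨p18 ![0, 1, 2, 6, 7, 8, 3, 4, 5, 9, 10, 11, 15, 16, 17, 12, 13, 14]
    ![0, 1, 2, 6, 7, 8, 3, 4, 5, 9, 10, 11, 15, 16, 17, 12, 13, 14] (by decide) (by decide),
    Equiv.Perm.mem_alternatingGroup.2 (by decide +kernel)⟩

/-- The transposition of the two grids. -/
def transp18 : A18 :=
  ⟨p18 ![0, 3, 6, 1, 4, 7, 2, 5, 8, 9, 12, 15, 10, 13, 16, 11, 14, 17]
    ![0, 3, 6, 1, 4, 7, 2, 5, 8, 9, 12, 15, 10, 13, 16, 11, 14, 17] (by decide) (by decide),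
    Equiv.Perm.mem_alternatingGroup.2 (by decide +kernel)⟩

/-- Element number 0 fixing the block cycle and its inverting element. -/
def twist0 : A18 :=
  ⟨p18 ![0, 1, 2, 3, 4, 5, 6, 7, 8, 9, 10, 11, 12, 13, 14, 15, 16, 17]
    ![0, 1, 2, 3, 4, 5, 6, 7, 8, 9, 10, 11, 12, 13, 14, 15, 16, 17] (by decide) (by decide),
    Equiv.Perm.mem_alternatingGroup.2 (by decide +kernel)⟩

/-- Element number 1 fixing the block cycle and its inverting element. -/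
def twist1 : A18 :=
  ⟨p18 ![0, 1, 2, 3, 4, 5, 6, 7, 8, 9, 10, 11, 12, 14, 13, 15, 17, 16]
    ![0, 1, 2, 3, 4, 5, 6, 7, 8, 9, 10, 11, 12, 14, 13, 15, 17, 16] (by decide) (by decide),
    Equiv.Perm.mem_alternatingGroup.2 (by decide +kernel)⟩

/-- Element number 2 fixing the block cycle and its inverting element. -/
def twist2 : A18 :=
  ⟨p18 ![0, 2, 1, 3, 5, 4, 6, 8, 7, 9, 11, 10, 12, 13, 14, 15, 16, 17]
    ![0, 2, 1, 3, 5, 4, 6, 8, 7, 9, 11, 10, 12, 13, 14, 15, 16, 17] (by decide) (by decide),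
    Equiv.Perm.mem_alternatingGroup.2 (by decide +kernel)⟩

/-- Element number 3 fixing the block cycle and its inverting element. -/
def twist3 : A18 :=
  ⟨p18 ![0, 2, 1, 3, 5, 4, 6, 8, 7, 9, 11, 10, 12, 14, 13, 15, 17, 16]
    ![0, 2, 1, 3, 5, 4, 6, 8, 7, 9, 11, 10, 12, 14, 13, 15, 17, 16] (by decide) (by decide),
    Equiv.Perm.mem_alternatingGroup.2 (by decide +kernel)⟩

/-- Element number 4 fixing the block cycle and its inverting element. -/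
def twist4 : A18 :=
  ⟨p18 ![0, 1, 2, 3, 4, 5, 6, 7, 8, 9, 11, 10, 15, 16, 17, 12, 13, 14]
    ![0, 1, 2, 3, 4, 5, 6, 7, 8, 9, 11, 10, 15, 16, 17, 12, 13, 14] (by decide) (by decide),
    Equiv.Perm.mem_alternatingGroup.2 (by decide +kernel)⟩

/-- Element number 5 fixing the block cycle and its inverting element. -/
def twist5 : A18 :=
  ⟨p18 ![0, 1, 2, 3, 4, 5, 6, 7, 8, 9, 11, 10, 15, 17, 16, 12, 14, 13]
    ![0, 1, 2, 3, 4, 5, 6, 7, 8, 9, 11, 10, 15, 17, 16, 12, 14, 13] (by decide) (by decide),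
    Equiv.Perm.mem_alternatingGroup.2 (by decide +kernel)⟩

/-- Element number 6 fixing the block cycle and its inverting element. -/
def twist6 : A18 :=
  ⟨p18 ![0, 2, 1, 3, 5, 4, 6, 8, 7, 9, 10, 11, 15, 16, 17, 12, 13, 14]
    ![0, 2, 1, 3, 5, 4, 6, 8, 7, 9, 10, 11, 15, 16, 17, 12, 13, 14] (by decide) (by decide),
    Equiv.Perm.mem_alternatingGroup.2 (by decide +kernel)⟩

/-- Element number 7 fixing the block cycle and its inverting element. -/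
def twist7 : A18 :=
  ⟨p18 ![0, 2, 1, 3, 5, 4, 6, 8, 7, 9, 10, 11, 15, 17, 16, 12, 14, 13]
    ![0, 2, 1, 3, 5, 4, 6, 8, 7, 9, 10, 11, 15, 17, 16, 12, 14, 13] (by decide) (by decide),
    Equiv.Perm.mem_alternatingGroup.2 (by decide +kernel)⟩

/-- The three-cycles. -/
def cA : Fin 6 → A18 := ![cA0, cA1, cA2, cA3, cA4, cA5]
/-- The monomial elements. -/
def mon : Fin 26 → A18 := ![mon0, mon1, mon2, mon3, mon4, mon5, mon6, mon7, mon8, mon9, mon10, mon11, mon12, mon13, mon14, mon15, mon16, mon17, mon18, mon19, mon20, mon21, mon22, mon23, mon24, mon25]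
/-- The images of the cycles under the monomial elements. -/
def monS : Fin 26 → Fin 6 → Fin 6 :=
  ![![0, 1, 2, 3, 4, 5],
    ![0, 1, 2, 3, 4, 5],
    ![0, 1, 2, 3, 4, 5],
    ![0, 1, 2, 3, 4, 5],
    ![0, 1, 2, 3, 4, 5],
    ![0, 1, 2, 3, 4, 5],
    ![0, 1, 2, 3, 4, 5],
    ![0, 1, 2, 3, 4, 5],
    ![0, 1, 2, 3, 4, 5],
    ![0, 1, 2, 3, 4, 5],
    ![0, 1, 2, 3, 4, 5],
    ![0, 1, 2, 3, 4, 5],
    ![0, 1, 2, 3, 4, 5],
    ![0, 1, 2, 3, 4, 5],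
    ![0, 1, 2, 3, 4, 5],
    ![1, 0, 2, 3, 4, 5],
    ![0, 2, 1, 3, 4, 5],
    ![0, 1, 3, 2, 4, 5],
    ![0, 1, 2, 4, 3, 5],
    ![0, 1, 2, 3, 5, 4],
    ![1, 0, 2, 3, 4, 5],
    ![0, 2, 1, 3, 4, 5],
    ![0, 1, 3, 2, 4, 5],
    ![0, 1, 2, 4, 3, 5],
    ![0, 1, 2, 3, 5, 4],
    ![0, 1, 2, 3, 4, 5]]
/-- The exponents under the monomial elements. -/
def monE : Fin 26 → Fin 6 → ℕ :=
  ![![2, 2, 1, 1, 1, 1],
    ![2, 1, 2, 1, 1, 1],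
    ![2, 1, 1, 2, 1, 1],
    ![2, 1, 1, 1, 2, 1],
    ![2, 1, 1, 1, 1, 2],
    ![1, 2, 2, 1, 1, 1],
    ![1, 2, 1, 2, 1, 1],
    ![1, 2, 1, 1, 2, 1],
    ![1, 2, 1, 1, 1, 2],
    ![1, 1, 2, 2, 1, 1],
    ![1, 1, 2, 1, 2, 1],
    ![1, 1, 2, 1, 1, 2],
    ![1, 1, 1, 2, 2, 1],
    ![1, 1, 1, 2, 1, 2],
    ![1, 1, 1, 1, 2, 2],
    ![2, 1, 1, 1, 1, 1],
    ![1, 2, 1, 1, 1, 1],
    ![1, 1, 2, 1, 1, 1],
    ![1, 1, 1, 2, 1, 1],
    ![1, 1, 1, 1, 2, 1],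
    ![1, 2, 1, 1, 1, 1],
    ![1, 1, 2, 1, 1, 1],
    ![1, 1, 1, 2, 1, 1],
    ![1, 1, 1, 1, 2, 1],
    ![1, 1, 1, 1, 1, 2],
    ![2, 2, 2, 2, 2, 2]]
/-- The fixers. -/
def twist : Fin 8 → A18 := ![twist0, twist1, twist2, twist3, twist4, twist5, twist6, twist7]
/-- The images of the cycles under the fixers. -/
def twistS : Fin 8 → Fin 6 → Fin 6 :=
  ![![0, 1, 2, 3, 4, 5],
    ![0, 1, 2, 3, 4, 5],
    ![0, 1, 2, 3, 4, 5],
    ![0, 1, 2, 3, 4, 5],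
    ![0, 1, 2, 3, 5, 4],
    ![0, 1, 2, 3, 5, 4],
    ![0, 1, 2, 3, 5, 4],
    ![0, 1, 2, 3, 5, 4]]
/-- The exponents under the fixers. -/
def twistE : Fin 8 → Fin 6 → ℕ :=
  ![![1, 1, 1, 1, 1, 1],
    ![1, 1, 1, 1, 2, 2],
    ![2, 2, 2, 2, 1, 1],
    ![2, 2, 2, 2, 2, 2],
    ![1, 1, 1, 2, 1, 1],
    ![1, 1, 1, 2, 2, 2],
    ![2, 2, 2, 1, 1, 1],
    ![2, 2, 2, 1, 2, 2]]

theorem cA_facts : (∀ i, cA i ^ 3 = 1 ∧ cA i ≠ 1 ∧ inv18 * cA i * inv18⁻¹ = (cA i)⁻¹) ∧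
    ∀ i j, cA i * cA j = cA j * cA i := by decide +kernel

theorem mon_facts : ∀ k, mon k * inv18 = inv18 * mon k ∧
    ∀ i, mon k * cA i * (mon k)⁻¹ = cA (monS k i) ^ monE k i := by decide +kernel

theorem blk_facts : blkA ^ 3 = 1 ∧ blkB ^ 3 = 1 ∧ blkA * blkB = blkB * blkA ∧ blkA * inv18 = inv18 * blkA ∧
    blkB * inv18 = inv18 * blkB ∧ blkH * inv18 = inv18 * blkH ∧ blkH * blkA * blkH⁻¹ = blkA⁻¹ ∧
    blkH * blkB * blkH⁻¹ = blkB⁻¹ ∧ transp18 * inv18 * transp18⁻¹ = blkH ∧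
    transp18 * (cA 0 * cA 1 * cA 2) * transp18⁻¹ = blkA := by decide +kernel

theorem twist_facts : ∀ k, twist k * inv18 = inv18 * twist k ∧ twist k * blkH = blkH * twist k ∧
    twist k * blkA = blkA * twist k ∧ ∀ i, twist k * cA i * (twist k)⁻¹ = cA (twistS k i) ^ twistE k i := by
  decide +kernel

end Cfsg.Lib.Chev.E8Alt
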