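import Cfsg.Agent.Lib.Chev.E8Alt.Mono

/-!
The scalars of a monomial element of odd prime order at the roots it fixes are exponentials of a linear function,
so the eigenspace dimensions are bounded by a finite check.
-/

set_option autoImplicit false
set_option linter.unusedSectionVars false

namespace Cfsg.Lib.Chev.E8Alt

open Cfsg.Lie Module Cfsg.Lib.Linear.AltDeg Cfsg.Lib.Chev.G2Alt
open scoped Matrix

/-- The digits of a number. -/
def digits' (ℓ : ℕ) : ℕ → ℕ → List ℕ
  | 0, _ => []
  | k + 1, n => n % ℓ :: digits' ℓ k (n / ℓ)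

theorem exists_digits {ℓ : ℕ} :
    ∀ v : List ℕ, (∀ a ∈ v, a < ℓ) → ∃ n < ℓ ^ v.length, digits' ℓ v.length n = v := by
  intro v
  induction v with
  | nil => exact fun _ => ⟨0, by simp, rfl⟩
  | cons a v ih =>
    intro h
    have ha := h a (by simp)
    obtain ⟨n, hn, e⟩ := ih fun b hb => h b (List.mem_cons_of_mem _ hb)
    refine ⟨a + ℓ * n, ?_, ?_⟩
    · rw [List.length_cons, pow_succ]
      calc a + ℓ * n < ℓ + ℓ * n := by omega
        _ = ℓ * (n + 1) := by ring
        _ ≤ ℓ * ℓ ^ v.length := Nat.mul_le_mul_left ℓ hn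
        _ = _ := by ring
    · show (a + ℓ * n) % ℓ :: digits' ℓ v.length ((a + ℓ * n) / ℓ) = _
      rw [Nat.add_mul_mod_self_left, Nat.mod_eq_of_lt ha, Nat.add_mul_div_left _ _ (by omega), Nat.div_eq_of_lt ha,
        Nat.zero_add, e]

/-- The value at a fixed root from the values at the basic ones. -/
def lin (ℓ : ℕ) (cs : List ℤ) (vs : List ℕ) : ℕ := (((cs.zip vs).map fun p => p.1 * (p.2 : ℤ)).sum % (ℓ : ℤ)).toNat

/-- The numbers of fixed roots with each value. -/
def cnts (ℓ : ℕ) (coef : List (List ℤ)) (vs : List ℕ) : List ℕ :=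
  let L := coef.map fun cs => lin ℓ cs vs
  (List.range ℓ).map fun a => L.count a

/-- The check: equal dimensions away from the fixed vectors force the fixed dimension into the list. -/
def allowed (ℓ : ℕ) (S : List ℕ) (b₀ b₁ : ℕ) (cn : List ℕ) : Bool :=
  !(cn.tail.all fun a => a == cn.getD 1 0) || S.contains (b₀ + cn.getD 0 0)

/-- The check over all values at the basic roots. -/
def chkValues (ℓ : ℕ) (S : List ℕ) (b₀ b₁ : ℕ) (B : List ℕ) (coef : List (List ℤ)) : Bool :=
  (List.range (ℓ ^ B.length)).all fun n => allowed ℓ S b₀ b₁ (cnts ℓ coef (digits' ℓ B.length n))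

theorem rootPow_zpow {F : Type*} [Field F] {ℓ : ℕ} [NeZero ℓ] {ζ : F} (hζ : IsPrimitiveRoot ζ ℓ) (v : ZMod ℓ) :
    ∀ a : ℤ, rootPow ζ v ^ a = rootPow ζ ((a : ZMod ℓ) * v) := by
  have hn : ∀ n : ℕ, rootPow ζ v ^ n = rootPow ζ ((n : ZMod ℓ) * v) := fun n => by
    induction n with
    | zero => simp [rootPow]
    | succ n ih => rw [pow_succ, ih, Nat.cast_succ, add_mul, one_mul, rootPow_add hζ]
  intro a
  obtain ⟨n, rfl | rfl⟩ := Int.eq_nat_or_neg a
  · rw [zpow_natCast, hn, Int.cast_natCast]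
  · rw [zpow_neg, zpow_natCast, hn, Int.cast_neg, Int.cast_natCast, neg_mul]
    refine inv_eq_of_mul_eq_one_right ?_
    rw [← rootPow_add hζ, add_neg_cancel, rootPow_zero]

variable {D : ChevalleyDatum} {T : Tbl} {F : Type*} [Field F] (C : Cert D T)
include C

theorem wnu_entry_sq {w : List ℕ} (hw : IsWord D w) (s : Fin D.nroots) :
    ((wnu C F w : GL D.Idx F) : Matrix D.Idx D.Idx F) (Sum.inr ⟨_, wperm_lt C hw s.2⟩) (Sum.inr s) ^ 2 = 1 := by
  induction w with
  | nil => simp [wnu, wperm]
  | cons i w ih =>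
    have hi := hw.tail.1
    rw [wnu_cons, Units.val_mul, coe_nu C hi, refM_mul_inr C.spec hi, mul_pow]
    have e : T.refl' i (wperm T (i :: w) s) = wperm T w s := C.spec.refl_refl i hi _ (wperm_lt C hw.tail.2 s.2)
    simp only [e, ih hw.tail.2, mul_one, pow_two, eta_sq]

theorem entry_sq {w : List ℕ} (hw : IsWord D w) (c : Fin D.rank → Fˣ) {r : ℕ} (hr : r < D.nroots)
    (h : wperm T w r = r) : entry (wnu C F w * torusHom D T F c) r ^ 2 = chr T D (extend' c) r ^ 2 := by
  rw [entry, dif_pos hr, Units.val_mul, coe_torusHom, scal, Matrix.mul_diagonal, mul_pow]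
  have e := wnu_entry_sq C (F := F) hw ⟨r, hr⟩
  simp only [h] at e
  rw [e, one_mul]
  rfl

omit C in
theorem chr_comb (c : Fin D.rank → Fˣ) {r : ℕ} (B : List ℕ) (cs : List ℤ)
    (h : ∀ j < D.rank, T.cartan j r = ((cs.zip B).map fun p => p.1 * T.cartan j p.2).sum) :
    chr T D (extend' c) r = ((cs.zip B).map fun p => chr T D (extend' c) p.2 ^ p.1).prod := by
  simp only [chr]
  rw [Finset.prod_congr rfl fun j hj => by rw [h j (Finset.mem_range.1 hj)]]
  clear h
  generalize cs.zip B = L
  induction L with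
  | nil => simp
  | cons p L ih =>
    simp only [List.map_cons, List.sum_cons, List.prod_cons]
    rw [← ih, ← Finset.prod_zpow, ← Finset.prod_mul_distrib]
    refine Finset.prod_congr rfl fun j _ => ?_
    rw [zpow_add₀ (extend'_ne c j), mul_comm p.1, zpow_mul]

/-- The bound on the fixed vectors of a monomial element with a certificate. -/
theorem mono_bound [DecidableEq F] {ℓ : ℕ} [hℓ : Fact ℓ.Prime] (h2 : ℓ ≠ 2) {ζ : F} (hζ : IsPrimitiveRoot ζ ℓ)
    (hm : (ℓ : F) ≠ 0) {d : MonoData} (hd : MonoOK D T ℓ d) {B : List ℕ} {coef : List (List ℤ)}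
    (hlen : coef.length = d.Fx.length) (hB : ∀ b ∈ B, b ∈ d.Fx)
    (hcoef : ∀ i : Fin d.Fx.length, ∀ j < D.rank, T.cartan j (d.Fx.getD i.val 0) =
      (((coef.getD i.val []).zip B).map fun p => p.1 * T.cartan j p.2).sum)
    {S : List ℕ} (hchk : chkValues ℓ S (d.U.length + d.R.length) (d.G.length + d.R.length) B coef = true)
    (c : Fin D.rank → Fˣ) (hg : (wnu C F d.w * torusHom D T F c) ^ ℓ = 1)
    (heq : ∀ j : ZMod ℓ, j ≠ 0 → finrank F (eig ζ (adj (wnu C F d.w * torusHom D T F c)) j) =
      finrank F (eig ζ (adj (wnu C F d.w * torusHom D T F c)) (1 : ZMod ℓ))) :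
    finrank F (eig ζ (adj (wnu C F d.w * torusHom D T F c)) (0 : ZMod ℓ)) ∈ S := by
  classical
  have hw : IsWord D d.w := hd.word
  have hu : IsUnit (2 : ZMod ℓ) := by
    rw [isUnit_iff_ne_zero]
    intro h
    have h' : ((2 : ℕ) : ZMod ℓ) = 0 := by exact_mod_cast h
    rw [ZMod.natCast_eq_zero_iff] at h'
    exact h2 ((Nat.prime_dvd_prime_iff_eq hℓ.out Nat.prime_two).1 h')
  set g := wnu C F d.w * torusHom D T F c
  have hv : ∀ r ∈ d.Fx, ∃ a : ZMod ℓ, entry g r = rootPow ζ a := fun r hr => by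
    obtain ⟨i, hi, e⟩ := hζ.eq_pow_of_pow_eq_one (entry_root C hw c (hd.fixed r hr).1 (hd.fixed r hr).2 hg)
    exact ⟨(i : ZMod ℓ), by rw [rootPow, ZMod.val_natCast_of_lt hi, e]⟩
  let val : ℕ → ZMod ℓ := fun r => if h : r ∈ d.Fx then 2 * (hv r h).choose else 0
  have hval : ∀ r ∈ d.Fx, entry g r ^ 2 = rootPow ζ (val r) := fun r hr => by
    simp only [val, dif_pos hr]
    rw [two_mul, rootPow_add hζ, ← pow_two, ← (hv r hr).choose_spec]
  have hiff : ∀ r ∈ d.Fx, ∀ j, entry g r = rootPow ζ j ↔ val r = 2 * j := fun r hr j => by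
    simp only [val, dif_pos hr]
    exact ⟨fun e => congrArg (2 * ·) (rootPow_injective hζ ((hv r hr).choose_spec.symm.trans e)),
      fun e => (hv r hr).choose_spec.trans (congrArg (rootPow ζ) (hu.mul_left_cancel e))⟩
  let vs : List ℕ := B.map fun b => (val b).val
  have hlin : ∀ i : Fin d.Fx.length, ((lin ℓ (coef.getD i.val []) vs : ℕ) : ZMod ℓ) = val (d.Fx.getD i.val 0) := by
    intro i
    have hr : d.Fx.getD i.val 0 ∈ d.Fx := by rw [List.getD_eq_getElem _ _ i.2]; exact List.getElem_mem i.2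
    apply rootPow_injective hζ
    rw [← hval _ hr, entry_sq C hw c (hd.fixed _ hr).1 (hd.fixed _ hr).2,
      chr_comb c B _ (hcoef i), lin]
    have hint : ∀ x : ℤ, (((x % (ℓ : ℤ)).toNat : ℕ) : ZMod ℓ) = (x : ZMod ℓ) := fun x => by
      rw [← Int.cast_natCast, Int.toNat_of_nonneg (Int.emod_nonneg _ (by exact_mod_cast hℓ.out.ne_zero)),
        ZMod.intCast_eq_intCast_iff']
      exact Int.emod_emod_of_dvd _ dvd_rfl
    rw [hint]
    generalize coef.getD i.val [] = cs
    simp only [vs]
    clear vs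
    revert hB
    generalize B = B'
    intro hB
    induction cs generalizing B' with
    | nil => simp [rootPow_zero]
    | cons a cs ih =>
      cases B' with
      | nil => simp [rootPow_zero]
      | cons b B' =>
        have hb := hB b (by simp)
        simp only [List.map_cons, List.zip_cons_cons, List.sum_cons, List.prod_cons, Int.cast_add, Int.cast_mul,
          Int.cast_natCast, ZMod.natCast_zmod_val, rootPow_add hζ, mul_pow]
        have ih' := ih B' fun x hx => hB x (List.mem_cons_of_mem _ hx)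
        rw [ih']
        congr 1
        rw [← zpow_natCast _ 2, ← zpow_mul, mul_comm a, zpow_mul, zpow_natCast,
          ← entry_sq C hw c (hd.fixed _ hb).1 (hd.fixed _ hb).2, hval _ hb]
        exact (rootPow_zpow hζ _ _).symm
  obtain ⟨n, hn, hdig⟩ := exists_digits vs fun a ha => by
    obtain ⟨b, -, rfl⟩ := List.mem_map.1 ha
    exact ZMod.val_lt _
  rw [List.length_map] at hn hdig
  have hall := List.all_eq_true.1 hchk n (List.mem_range.2 hn)
  rw [hdig] at hall
  have hmap : d.Fx.map (fun r => (val r).val) = coef.map fun cs => lin ℓ cs vs := by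
    refine List.ext_getElem (by simp [hlen]) fun i h1 h2' => ?_
    rw [List.length_map] at h1 h2'
    have h := hlin ⟨i, h1⟩
    simp only [List.getD_eq_getElem _ _ h1, List.getD_eq_getElem _ _ h2'] at h
    rw [List.getElem_map, List.getElem_map, ← h, ZMod.val_natCast_of_lt]
    refine (Int.toNat_lt (Int.emod_nonneg _ (by exact_mod_cast hℓ.out.ne_zero))).2 (Int.emod_lt_of_pos _ ?_)
    exact_mod_cast hℓ.out.pos
  have hget : ∀ j : ZMod ℓ, (cnts ℓ coef vs).getD (2 * j).val 0 =
      d.Fx.countP fun r => decide (entry g r = rootPow ζ j) := fun j => by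
    simp only [cnts, List.getD_eq_getElem?_getD, List.getElem?_map, List.getElem?_range (ZMod.val_lt _),
      Option.map_some, Option.getD_some, ← hmap, List.count, List.countP_map]
    refine List.countP_congr fun r hr => ?_
    simp only [Function.comp_apply, beq_iff_eq, decide_eq_true_eq, hiff r hr]
    exact (ZMod.val_injective ℓ).eq_iff
  have key : ∀ j : ZMod ℓ, finrank F (eig ζ (adj g) j) =
      (if j = 0 then d.U.length else d.G.length) + d.R.length + (cnts ℓ coef vs).getD (2 * j).val 0 := fun j => by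
    rw [hget]; exact finrank_eig_mono C hζ hm hd c hg j
  have htail : ((cnts ℓ coef vs).tail.all fun a => a == (cnts ℓ coef vs).getD 1 0) = true := by
    rw [List.all_eq_true]
    intro a ha
    obtain ⟨i, hi, rfl⟩ := List.getElem_of_mem ha
    rw [beq_iff_eq]
    have hlenc : (cnts ℓ coef vs).length = ℓ := by simp [cnts]
    rw [List.length_tail, hlenc] at hi
    rw [List.getElem_tail, ← List.getD_eq_getElem (d := 0)]
    have hone : ∀ k : ℕ, 0 < k → k < ℓ → (cnts ℓ coef vs).getD k 0 + (d.G.length + d.R.length) =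
        finrank F (eig ζ (adj g) (1 : ZMod ℓ)) := by
      intro k hk0 hk
      obtain ⟨j, hj⟩ : ∃ j : ZMod ℓ, 2 * j = (k : ZMod ℓ) := ⟨hu.unit⁻¹ * (k : ZMod ℓ), by
        rw [← mul_assoc, IsUnit.mul_val_inv, one_mul]⟩
      have hj0 : j ≠ 0 := by
        rintro rfl
        rw [mul_zero] at hj
        exact absurd (Nat.le_of_dvd hk0 ((ZMod.natCast_eq_zero_iff _ _).1 hj.symm)) (by omega)
      have e := key j
      rw [hj, ZMod.val_natCast_of_lt hk, if_neg hj0, heq j hj0] at e
      omega
    have h1 := hone (i + 1) (by omega) (by omega)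
    have h2 := hone 1 one_pos hℓ.out.one_lt
    omega
  rw [allowed, htail] at hall
  simp only [Bool.not_true, Bool.false_or, List.contains_iff_mem] at hall
  have e0 := key 0
  simp only [if_true, mul_zero, ZMod.val_zero] at e0
  rw [e0]
  exact hall

end Cfsg.Lib.Chev.E8Alt
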